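import Cfsg.Agent.S2690
import Cfsg.Agent.S0243
import Cfsg.Agent.S1313
import Cfsg.Agent.S0249
import Mathlib.GroupTheory.Sylow
import Cfsg.Agent.H691.L34.Def
import Cfsg.Agent.H939.L64.Base
import Cfsg.Agent.H955.L64.Irr
import Cfsg.Agent.LieClassical.FieldTransfer
import Cfsg.Agent.H251.L34.Pure_m3
import Cfsg.Agent.H5.L34.Lang_m3
import Cfsg.Agent.H122.Pw.Pc
import Cfsg.Agent.H85.Ore.Phi_mg_m3
import Cfsg.Agent.H428.OT.ATwo
import Cfsg.Agent.H876.L64.TFive_m3
import Cfsg.Agent.H192.Lang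
import Cfsg.Agent.H643.L34.Schur_m3
import Cfsg.Agent.H436.L34.Nine_m3
import Cfsg.Agent.H942.DF.Frob
import Cfsg.Agent.Lib.FinFast
import Cfsg.Agent.H904.L34.Last_m3
import Cfsg.Agent.H904.L34.UnitZ_m3
import Cfsg.Agent.H939.L16.Frm_m3
import Mathlib
import Cfsg.Agent.FastGrp
import Cfsg.Agent.Prune
set_option linter.all false

section
prune_inst 0x7ffca9f92bb8addfdfff7e77aed4ddfdfbb93fffa6dff9cbffe061ff0bdf4b08c9c523858bea10fe0ed6421410e87b43fbfeeeffe86bdc7ffffd5ff41ffbffcfedf63508519488340fb80fff03f0778e7f3fffffffffffffffffffffffffffbeffbfffffffff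

-- part: H939/L34/Frm
section
prune_inst 0x14000000000000000008000202000400000040000000000000002000200204000800000100011120200000100090000110000000200000000000400000000000880000020000000400000000000000000000000000000000000000000000000000000000
set_option linter.all false
open scoped Cfsg.Agent.FastGrp

-- part: H888/L34/Cent
section
/-!
# S5917, part I (group side): at most 18 automorphisms of `L3(4)` fix a Sylow 3-subgroup elementwise (helper888)
-/

set_option autoImplicit false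

namespace Cfsg.Agent.H888.L34

open Matrix

section field

variable {F : Type*} [Field F] [Fintype F] (hF : Fintype.card F = 4)

include hF

theorem cube_eq_one {a : F} (ha : a ≠ 0) : a ^ 3 = 1 := by
  have h := FiniteField.pow_card_sub_one_eq_one a ha
  rwa [hF] at h

theorem exists_omega : ∃ ω : F, ω ≠ 0 ∧ ω ≠ 1 ∧ ω ^ 3 = 1 ∧ ω ^ 2 + ω + 1 = 0 := by
  classical
  obtain ⟨ω, hω⟩ : ∃ ω : F, ω ∉ ({0, 1} : Finset F) := by
    by_contra hcon
    push_neg at hcon
    have h1 : (Finset.univ : Finset F) ⊆ {0, 1} := fun x _ => hcon x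
    have h2 := Finset.card_le_card h1
    rw [Finset.card_univ, hF] at h2
    have h3 : ({0, 1} : Finset F).card ≤ 2 := Finset.card_le_two
    omega
  simp only [Finset.mem_insert, Finset.mem_singleton, not_or] at hω
  have h3 := cube_eq_one hF hω.1
  refine ⟨ω, hω.1, hω.2, h3, ?_⟩
  have h4 : (ω - 1) * (ω ^ 2 + ω + 1) = 0 := by ring_nf; rw [h3]; ring
  exact (mul_eq_zero.1 h4).resolve_left (sub_ne_zero.2 hω.2)

end field

theorem cube_cases {F : Type*} [Field F] {ω z : F} (h1 : ω ^ 2 + ω + 1 = 0) (hz : z ^ 3 = 1) :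
    z = 1 ∨ z = ω ∨ z = ω ^ 2 := by
  have h3 : ω ^ 3 = 1 := by
    have : (ω - 1) * (ω ^ 2 + ω + 1) = 0 := by rw [h1, mul_zero]
    have h4 : (ω - 1) * (ω ^ 2 + ω + 1) = ω ^ 3 - 1 := by ring
    rw [h4] at this
    exact sub_eq_zero.1 this
  have h2 : (z - 1) * ((z - ω) * (z - ω ^ 2)) = 0 := by
    have : (z - 1) * ((z - ω) * (z - ω ^ 2)) =
        z ^ 3 - (ω ^ 2 + ω + 1) * z ^ 2 + ((ω ^ 2 + ω + 1) - 1 + ω ^ 3) * z - ω ^ 3 := by ring
    rw [this, hz, h1, h3]; ring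
  rcases mul_eq_zero.1 h2 with h | h
  · exact Or.inl (sub_eq_zero.1 h)
  · rcases mul_eq_zero.1 h with h | h
    · exact Or.inr (Or.inl (sub_eq_zero.1 h))
    · exact Or.inr (Or.inr (sub_eq_zero.1 h))

theorem sigma_ext {F : Type*} [Field F] [Fintype F] (hF : Fintype.card F = 4) {ω : F} (h1 : ω ^ 2 + ω + 1 = 0)
    {σ τ : F ≃+* F} (h : σ ω = τ ω) : σ = τ := by
  ext z
  by_cases hz : z = 0
  · rw [hz, map_zero, map_zero]
  · rcases cube_cases h1 (cube_eq_one hF hz) with h2 | h2 | h2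
    · rw [h2, map_one, map_one]
    · rw [h2, h]
    · rw [h2, map_pow, map_pow, h]

section sl

variable {F : Type*} [Field F]

local notation "SLF" => Matrix.SpecialLinearGroup (Fin 3) F
local notation "PSF" => Matrix.ProjectiveSpecialLinearGroup (Fin 3) F
local notation "MF" => Matrix (Fin 3) (Fin 3) F

/-- inverse transpose -/
def tr (s : SLF) : SLF := ⟨((s⁻¹ : SLF) : MF).transpose, by
  rw [det_transpose]; exact (s⁻¹).2⟩

/-- the twisted element -/
def nn (ε : Bool) (σ : F ≃+* F) (s : SLF) : SLF :=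
  Matrix.SpecialLinearGroup.map (σ : F →+* F) (if ε then tr s else s)

/-- conjugate of a special matrix by an invertible one -/
def cj (M : GL (Fin 3) F) (s : SLF) : SLF := ⟨(M : MF) * (s : MF) * ((M⁻¹ : GL (Fin 3) F) : MF), by
  rw [det_mul, det_mul, mul_comm (M : MF).det, mul_assoc, ← det_mul, s.2, one_mul]
  rw [Units.mul_inv, det_one]⟩

/-- every automorphism is semilinear up to inverse transpose -/
theorem aut_form [Fintype F] {p f : ℕ} [Fact p.Prime] (hF : Fintype.card F = p ^ f) (hf : 1 ≤ f)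
    (β : MulAut PSF) :
    ∃ (ε : Bool) (σ : F ≃+* F) (M : GL (Fin 3) F), ∀ s : SLF,
      β (QuotientGroup.mk s) = QuotientGroup.mk (cj M (nn ε σ s)) := by
  obtain ⟨δ, φ, γ, σ, ⟨M, hM⟩, hφ, hγ, rfl⟩ := Cfsg.Agent.S2690.result hF hf (n := 3) (by norm_num) (by norm_num) β
  rcases hγ with rfl | hγ
  · refine ⟨false, σ, M, ?_⟩
    intro s
    have h1 : φ (QuotientGroup.mk s) = QuotientGroup.mk (nn false σ s) := hφ s _ rfl
    change δ (φ (QuotientGroup.mk s)) = _
    rw [h1]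
    exact hM _ _ rfl
  · refine ⟨true, σ, M, ?_⟩
    intro s
    have h0 : γ (QuotientGroup.mk s) = QuotientGroup.mk (tr s) := hγ s _ rfl
    have h1 : φ (γ (QuotientGroup.mk s)) = QuotientGroup.mk (nn true σ s) := by
      rw [h0]
      exact hφ _ _ rfl
    change δ (φ (γ (QuotientGroup.mk s))) = _
    rw [h1]
    exact hM _ _ rfl

theorem mk_eq_mk {s t : SLF} (h : (QuotientGroup.mk s : PSF) = QuotientGroup.mk t) :
    ∃ r : F, r ^ 3 = 1 ∧ (s : MF) = r • (t : MF) := by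
  have h' := QuotientGroup.eq.1 h.symm
  obtain ⟨r, hr, h2⟩ := (Matrix.SpecialLinearGroup.mem_center_iff).1 h'
  refine ⟨r, by simpa using hr, ?_⟩
  have h3 : (s : MF) = (t : MF) * ((t⁻¹ * s : SLF) : MF) := by
    rw [← Matrix.SpecialLinearGroup.coe_mul, mul_inv_cancel_left]
  rw [h3, ← h2]
  simp [Matrix.scalar_apply, ← Matrix.smul_one_eq_diagonal]

end sl

end Cfsg.Agent.H888.L34
end

-- part: H888/L34/Fix
section
/-!
# S5917, part I (group side): at most 18 automorphisms of `L3(4)` fix a Sylow 3-subgroup elementwise (helper888)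
-/

set_option autoImplicit false

namespace Cfsg.Agent.H888.L34

variable {F : Type*} [Field F]

local notation "SLF" => Matrix.SpecialLinearGroup (Fin 3) F
local notation "PSF" => Matrix.ProjectiveSpecialLinearGroup (Fin 3) F
local notation "MF" => Matrix (Fin 3) (Fin 3) F

/-- scalar elements -/
def sc (r : F) (h : r ^ 3 = 1) : SLF := ⟨r • (1 : MF), by rw [Matrix.det_smul, Matrix.det_one, mul_one]; simpa using h⟩

theorem coe_sc_mul (r : F) (h : r ^ 3 = 1) (s : SLF) : ((sc r h * s : SLF) : MF) = r • (s : MF) := by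
  rw [Matrix.SpecialLinearGroup.coe_mul]
  change (r • (1 : MF)) * _ = _
  rw [Matrix.smul_mul, Matrix.one_mul]

theorem sc_comm (r : F) (h : r ^ 3 = 1) (s : SLF) : sc r h * s = s * sc r h := by
  apply Subtype.ext
  rw [coe_sc_mul, Matrix.SpecialLinearGroup.coe_mul]
  change _ = (s : MF) * (r • (1 : MF))
  rw [Matrix.mul_smul, Matrix.mul_one]

theorem sc_inj {r t : F} (h : r ^ 3 = 1) (h' : t ^ 3 = 1) (e : sc r h = sc t h') : r = t := by
  have h1 := congrArg (fun s : SLF => (s : MF) 0 0) e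
  simpa [sc] using h1

theorem mk_eq {s t : SLF} (h : (QuotientGroup.mk s : PSF) = QuotientGroup.mk t) :
    ∃ (r : F) (hr : r ^ 3 = 1), s = sc r hr * t := by
  obtain ⟨r, hr, h1⟩ := mk_eq_mk h
  exact ⟨r, hr, Subtype.ext (by rw [coe_sc_mul]; exact h1)⟩

theorem tr_mul (s t : SLF) : tr (s * t) = tr s * tr t := by
  apply Subtype.ext
  change (((s * t)⁻¹ : SLF) : MF).transpose = ((s⁻¹ : SLF) : MF).transpose * ((t⁻¹ : SLF) : MF).transpose
  rw [mul_inv_rev, Matrix.SpecialLinearGroup.coe_mul, Matrix.transpose_mul]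

theorem nn_mul (ε : Bool) (σ : F ≃+* F) (s t : SLF) : nn ε σ (s * t) = nn ε σ s * nn ε σ t := by
  cases ε
  · exact map_mul _ s t
  · change Matrix.SpecialLinearGroup.map (σ : F →+* F) (tr (s * t)) = _
    rw [tr_mul]
    exact map_mul _ _ _

theorem cj_mul (M : GL (Fin 3) F) (s t : SLF) : cj M (s * t) = cj M s * cj M t := by
  apply Subtype.ext
  change (M : MF) * ((s * t : SLF) : MF) * ((M⁻¹ : GL (Fin 3) F) : MF) =
    ((M : MF) * (s : MF) * ((M⁻¹ : GL (Fin 3) F) : MF)) * ((M : MF) * (t : MF) * ((M⁻¹ : GL (Fin 3) F) : MF))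
  have h : ((M⁻¹ : GL (Fin 3) F) : MF) * (M : MF) = 1 := Units.inv_mul M
  rw [Matrix.SpecialLinearGroup.coe_mul]
  calc (M : MF) * ((s : MF) * (t : MF)) * ((M⁻¹ : GL (Fin 3) F) : MF)
      = (M : MF) * (s : MF) * 1 * (t : MF) * ((M⁻¹ : GL (Fin 3) F) : MF) := by noncomm_ring
    _ = _ := by rw [← h]; noncomm_ring

theorem cj_sc (M : GL (Fin 3) F) (r : F) (h : r ^ 3 = 1) : cj M (sc r h) = sc r h := by
  apply Subtype.ext
  change (M : MF) * (r • (1 : MF)) * ((M⁻¹ : GL (Fin 3) F) : MF) = r • (1 : MF)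
  rw [Matrix.mul_smul, Matrix.mul_one, Matrix.smul_mul, Units.mul_inv]

theorem inv_pow_three {r : F} (h : r ^ 3 = 1) : (r⁻¹) ^ 3 = 1 := by rw [inv_pow, h, inv_one]

theorem sc_inv (r : F) (h : r ^ 3 = 1) : (sc r h)⁻¹ = sc r⁻¹ (inv_pow_three h) := by
  have hr : r ≠ 0 := by rintro rfl; simp at h
  rw [inv_eq_iff_mul_eq_one]
  apply Subtype.ext
  rw [coe_sc_mul]
  change r • (r⁻¹ • (1 : MF)) = 1
  rw [smul_smul, mul_inv_cancel₀ hr, one_smul]

theorem map_pow_three (σ : F ≃+* F) {r : F} (h : r ^ 3 = 1) : (σ r) ^ 3 = 1 := by rw [← map_pow, h, map_one]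

theorem map_sc (σ : F ≃+* F) (r : F) (h : r ^ 3 = 1) :
    Matrix.SpecialLinearGroup.map (σ : F →+* F) (sc r h) = sc (σ r) (map_pow_three σ h) := by
  apply Subtype.ext
  ext i j
  change σ ((r • (1 : MF)) i j) = (σ r • (1 : MF)) i j
  rw [Matrix.smul_apply, Matrix.smul_apply, smul_eq_mul, smul_eq_mul, map_mul]
  congr 1
  by_cases hij : i = j
  · subst hij; simp
  · simp [Matrix.one_apply_ne hij]

theorem nn_sc_false (σ : F ≃+* F) (r : F) (h : r ^ 3 = 1) : nn false σ (sc r h) = sc (σ r) (map_pow_three σ h) :=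
  map_sc σ r h

theorem nn_sc_true (σ : F ≃+* F) (r : F) (h : r ^ 3 = 1) :
    nn true σ (sc r h) = sc (σ r⁻¹) (map_pow_three σ (inv_pow_three h)) := by
  change Matrix.SpecialLinearGroup.map (σ : F →+* F) (tr (sc r h)) = _
  have h1 : tr (sc r h) = sc r⁻¹ (inv_pow_three h) := by
    apply Subtype.ext
    change (((sc r h)⁻¹ : SLF) : MF).transpose = r⁻¹ • (1 : MF)
    rw [sc_inv]
    change (r⁻¹ • (1 : MF)).transpose = _
    rw [Matrix.transpose_smul, Matrix.transpose_one]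
  rw [h1, map_sc]

/-- the pair of lifts -/
structure Pr (x y : SLF) (ω : F) : Prop where
  om : ω ^ 2 + ω + 1 = 0
  o3 : ω ^ 3 = 1
  xy : x * y = sc ω o3 * (y * x)
  irr : ∀ K : MF, K * (x : MF) = (x : MF) * K → K * (y : MF) = (y : MF) * K → ∃ k : F, K = k • (1 : MF)

variable {x y : Matrix.SpecialLinearGroup (Fin 3) F} {ω : F}

theorem theta_sc (h : Pr x y ω) {ε : Bool} {σ : F ≃+* F} {M : GL (Fin 3) F} {l m : F} (hl : l ^ 3 = 1) (hm : m ^ 3 = 1)
    (hx : cj M (nn ε σ x) = sc l hl * x) (hy : cj M (nn ε σ y) = sc m hm * y) :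
    cj M (nn ε σ (sc ω h.o3)) = sc ω h.o3 := by
  have h1 : cj M (nn ε σ (x * y)) = cj M (nn ε σ (sc ω h.o3 * (y * x))) := by rw [h.xy]
  rw [nn_mul, cj_mul, nn_mul, cj_mul, nn_mul, cj_mul, hx, hy] at h1
  set c := cj M (nn ε σ (sc ω h.o3))
  have e1 : sc l hl * x * (sc m hm * y) = sc l hl * sc m hm * (sc ω h.o3 * (y * x)) := by
    rw [← h.xy]
    calc sc l hl * x * (sc m hm * y) = sc l hl * (x * sc m hm) * y := by group
      _ = sc l hl * (sc m hm * x) * y := by rw [sc_comm m hm x]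
      _ = _ := by group
  have e2 : c * (sc m hm * y * (sc l hl * x)) = sc l hl * sc m hm * (c * (y * x)) := by
    calc c * (sc m hm * y * (sc l hl * x)) = c * sc m hm * (y * sc l hl) * x := by group
      _ = c * sc m hm * (sc l hl * y) * x := by rw [sc_comm l hl y]
      _ = c * (sc m hm * sc l hl) * (y * x) := by group
      _ = c * (sc l hl * sc m hm) * (y * x) := by rw [sc_comm m hm (sc l hl)]
      _ = (c * sc l hl) * sc m hm * (y * x) := by group
      _ = (sc l hl * c) * sc m hm * (y * x) := by rw [sc_comm l hl c]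
      _ = sc l hl * (c * sc m hm) * (y * x) := by group
      _ = sc l hl * (sc m hm * c) * (y * x) := by rw [sc_comm m hm c]
      _ = _ := by group
  rw [e1, e2] at h1
  have h2 := mul_left_cancel h1
  exact (mul_right_cancel h2).symm

theorem sigma_false (h : Pr x y ω) {σ : F ≃+* F} {M : GL (Fin 3) F} {l m : F} (hl : l ^ 3 = 1) (hm : m ^ 3 = 1)
    (hx : cj M (nn false σ x) = sc l hl * x) (hy : cj M (nn false σ y) = sc m hm * y) : σ ω = ω := by
  have h1 := theta_sc h hl hm hx hy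
  rw [nn_sc_false, cj_sc] at h1
  exact sc_inj _ _ h1

theorem sigma_true (h : Pr x y ω) {σ : F ≃+* F} {M : GL (Fin 3) F} {l m : F} (hl : l ^ 3 = 1) (hm : m ^ 3 = 1)
    (hx : cj M (nn true σ x) = sc l hl * x) (hy : cj M (nn true σ y) = sc m hm * y) : σ ω = ω⁻¹ := by
  have h1 := theta_sc h hl hm hx hy
  rw [nn_sc_true, cj_sc] at h1
  have h2 := sc_inj _ _ h1
  rw [map_inv₀] at h2
  rw [← inv_inv (σ ω), h2]

theorem cj_cj (M N : GL (Fin 3) F) (s : SLF) : cj M (cj N s) = cj (M * N) s := by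
  apply Subtype.ext
  change (M : MF) * ((N : MF) * (s : MF) * ((N⁻¹ : GL (Fin 3) F) : MF)) * ((M⁻¹ : GL (Fin 3) F) : MF) =
    ((M * N : GL (Fin 3) F) : MF) * (s : MF) * (((M * N)⁻¹ : GL (Fin 3) F) : MF)
  rw [mul_inv_rev, Units.val_mul, Units.val_mul]
  simp only [mul_assoc]

theorem comm_of_cj (M : GL (Fin 3) F) {s : SLF} (h : cj M s = s) : (M : MF) * (s : MF) = (s : MF) * (M : MF) := by
  have h1 := congrArg (fun s : SLF => (s : MF)) h
  change (M : MF) * (s : MF) * ((M⁻¹ : GL (Fin 3) F) : MF) = (s : MF) at h1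
  calc (M : MF) * (s : MF) = (M : MF) * (s : MF) * ((M⁻¹ : GL (Fin 3) F) : MF) * (M : MF) := by
        rw [mul_assoc _ _ (M : MF), Units.inv_mul, mul_one]
    _ = _ := by rw [h1]

theorem cj_of_smul {K : GL (Fin 3) F} {r : F} (h : (K : MF) = r • (1 : MF)) (s : SLF) : cj K s = s := by
  apply Subtype.ext
  change (K : MF) * (s : MF) * ((K⁻¹ : GL (Fin 3) F) : MF) = s
  have h1 : (K : MF) * (s : MF) = (s : MF) * (K : MF) := by
    rw [h, Matrix.smul_mul, Matrix.mul_smul, one_mul, mul_one]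
  rw [h1, mul_assoc, Units.mul_inv, mul_one]

/-- two automorphisms with the same data agree -/
theorem same (h : Pr x y ω) {ε : Bool} {σ : F ≃+* F} {M N : GL (Fin 3) F} {l m : F} (hl : l ^ 3 = 1) (hm : m ^ 3 = 1)
    (hx : cj M (nn ε σ x) = sc l hl * x) (hy : cj M (nn ε σ y) = sc m hm * y)
    (hx' : cj N (nn ε σ x) = sc l hl * x) (hy' : cj N (nn ε σ y) = sc m hm * y) (s : SLF) :
    cj M s = cj N s := by
  have key : ∀ z : SLF, ∀ (r : F) (hr : r ^ 3 = 1), cj M (nn ε σ z) = sc r hr * z → cj N (nn ε σ z) = sc r hr * z →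
      cj (M * N⁻¹) z = z := by
    intro z r hr h1 h2
    have h3 : cj (M * N⁻¹) (sc r hr * z) = sc r hr * z := by
      rw [← h2, cj_cj, inv_mul_cancel_right, h1, h2]
    rw [cj_mul, cj_sc] at h3
    exact mul_left_cancel h3
  obtain ⟨k, hk⟩ := h.irr _ (comm_of_cj _ (key x l hl hx hx')) (comm_of_cj _ (key y m hm hy hy'))
  have h4 := cj_of_smul hk (cj N s)
  rwa [cj_cj, inv_mul_cancel_right] at h4

theorem card_cube_le [Fintype F] {ω : F} (h1 : ω ^ 2 + ω + 1 = 0) : Nat.card {r : F // r ^ 3 = 1} ≤ 3 := by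
  classical
  rw [Nat.card_eq_fintype_card, Fintype.card_subtype]
  have h2 : (Finset.univ.filter fun r : F => r ^ 3 = 1) ⊆ {1, ω, ω ^ 2} := by
    intro r hr
    have h3 := cube_cases h1 (Finset.mem_filter.1 hr).2
    simpa using h3
  exact (Finset.card_le_card h2).trans Finset.card_le_three

/-- at most 18 automorphisms fix both `mk x` and `mk y` -/
theorem card_fix_le [Fintype F] (hF : Fintype.card F = 4) (h : Pr x y ω) (P : MulAut PSF → Prop)
    (hPx : ∀ β, P β → β (QuotientGroup.mk x) = QuotientGroup.mk x)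
    (hPy : ∀ β, P β → β (QuotientGroup.mk y) = QuotientGroup.mk y) :
    Nat.card {β : MulAut PSF // P β} ≤ 18 := by
  classical
  have _ : Fact (Nat.Prime 2) := ⟨Nat.prime_two⟩
  have hF' : Fintype.card F = 2 ^ 2 := hF
  have ex : ∀ β : {β : MulAut PSF // P β}, ∃ (ε : Bool) (l m : {r : F // r ^ 3 = 1}) (σ : F ≃+* F) (M : GL (Fin 3) F),
      (∀ s : SLF, β.1 (QuotientGroup.mk s) = QuotientGroup.mk (cj M (nn ε σ s))) ∧
      cj M (nn ε σ x) = sc l.1 l.2 * x ∧ cj M (nn ε σ y) = sc m.1 m.2 * y := by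
    rintro ⟨β, hβ⟩
    obtain ⟨ε, σ, M, hM⟩ := aut_form hF' (by norm_num) β
    obtain ⟨l, hl, h1⟩ := mk_eq ((hM x).symm.trans (hPx β hβ))
    obtain ⟨m, hm, h2⟩ := mk_eq ((hM y).symm.trans (hPy β hβ))
    exact ⟨ε, ⟨l, hl⟩, ⟨m, hm⟩, σ, M, hM, h1, h2⟩
  choose ε l m σ M hM hx hy using ex
  have hinj : Function.Injective (fun β : {β : MulAut PSF // P β} => (ε β, l β, m β)) := by
    intro β γ hβγ
    simp only [Prod.mk.injEq] at hβγ
    obtain ⟨e1, e2, e3⟩ := hβγ
    have hσ : σ β = σ γ := by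
      have hb := hx β
      have hb' := hy β
      have hc := hx γ
      have hc' := hy γ
      rw [← e1] at hc hc'
      apply sigma_ext hF h.om
      cases hε : ε β
      · rw [hε] at hb hb' hc hc'
        rw [sigma_false h _ _ hb hb', sigma_false h _ _ hc hc']
      · rw [hε] at hb hb' hc hc'
        rw [sigma_true h _ _ hb hb', sigma_true h _ _ hc hc']
    apply Subtype.ext
    apply MulEquiv.ext
    intro z
    obtain ⟨s, rfl⟩ := QuotientGroup.mk_surjective z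
    rw [hM β s, hM γ s]
    have hb := hx β
    have hb' := hy β
    have hc := hx γ
    have hc' := hy γ
    rw [← e1, ← e2, ← hσ] at hc
    rw [← e1, ← e3, ← hσ] at hc'
    have := same h (l β).2 (m β).2 hb hb' hc hc' (nn (ε β) (σ β) s)
    rw [this, e1, hσ]
  have h3 := Nat.card_le_card_of_injective _ hinj
  have h4 := card_cube_le h.om
  rw [Nat.card_prod, Nat.card_prod, Nat.card_eq_fintype_card (α := Bool), Fintype.card_bool] at h3
  calc _ ≤ _ := h3
    _ ≤ 2 * (3 * 3) := by gcongr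
    _ = 18 := by norm_num

end Cfsg.Agent.H888.L34
end

-- part: H888/L34/Syl
section
/-!
# S5917, part I (group side): `|C_H(E)| ≤ 18` for a Sylow 3-subgroup `E` of a normal `L3(4)` (helper888)
-/

set_option autoImplicit false

namespace Cfsg.Agent.H888.L34

open scoped Pointwise

variable {F : Type*} [Field F]

local notation "SLF" => Matrix.SpecialLinearGroup (Fin 3) F
local notation "PSF" => Matrix.ProjectiveSpecialLinearGroup (Fin 3) F
local notation "MF" => Matrix (Fin 3) (Fin 3) F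

/-- `diag(1, ω, ω²)` -/
def x0 (ω : F) (h : ω ^ 3 = 1) : SLF := ⟨Matrix.diagonal ![1, ω, ω ^ 2], by
  rw [Matrix.det_diagonal, Fin.prod_univ_three]
  simp only [Matrix.cons_val_zero, Matrix.cons_val_one, Matrix.cons_val]
  rw [one_mul, ← h]; ring⟩

/-- the permutation matrix of a 3-cycle -/
def y0 : SLF := ⟨!![0, 1, 0; 0, 0, 1; 1, 0, 0], by rw [Matrix.det_fin_three]; simp⟩

theorem pr0 {ω : F} (h1 : ω ^ 2 + ω + 1 = 0) (h3 : ω ^ 3 = 1) (hne : ω ≠ 1) (h0 : ω ≠ 0) :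
    Pr (y0 : SLF) (x0 ω h3) ω := by
  refine ⟨h1, h3, ?_, ?_⟩
  · apply Subtype.ext
    rw [coe_sc_mul, Matrix.SpecialLinearGroup.coe_mul, Matrix.SpecialLinearGroup.coe_mul]
    change !![0, 1, 0; 0, 0, 1; 1, 0, 0] * Matrix.diagonal ![1, ω, ω ^ 2] =
      ω • (Matrix.diagonal ![1, ω, ω ^ 2] * !![0, 1, 0; 0, 0, 1; 1, 0, 0])
    ext i j
    have h4 : ω * (ω * ω) = 1 := by rw [← h3]; ring
    fin_cases i <;> fin_cases j <;> simp [Matrix.mul_apply, Matrix.diagonal, pow_two, h4]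
  · intro K hy hx
    change K * !![0, 1, 0; 0, 0, 1; 1, 0, 0] = !![0, 1, 0; 0, 0, 1; 1, 0, 0] * K at hy
    change K * Matrix.diagonal ![1, ω, ω ^ 2] = Matrix.diagonal ![1, ω, ω ^ 2] * K at hx
    have e : ∀ i j : Fin 3, K i j * (![1, ω, ω ^ 2] : Fin 3 → F) j = (![1, ω, ω ^ 2] : Fin 3 → F) i * K i j := by
      intro i j
      have := congrFun (congrFun hx i) j
      rwa [Matrix.mul_diagonal, Matrix.diagonal_mul] at this
    have hd : ∀ i j : Fin 3, (![1, ω, ω ^ 2] : Fin 3 → F) i ≠ (![1, ω, ω ^ 2] : Fin 3 → F) j → K i j = 0 := by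
      intro i j hij
      have h5 := e i j
      rw [mul_comm] at h5
      have h6 : ((![1, ω, ω ^ 2] : Fin 3 → F) i - (![1, ω, ω ^ 2] : Fin 3 → F) j) * K i j = 0 := by
        rw [sub_mul, h5, sub_self]
      exact (mul_eq_zero.1 h6).resolve_left (sub_ne_zero.2 hij)
    have hω2 : ω ^ 2 ≠ 1 := by
      intro h; rw [h] at h1
      apply hne
      have : ω ^ 3 = ω * ω ^ 2 := by ring
      rw [h3, h, mul_one] at this
      exact this.symm
    have hω3 : ω ^ 2 ≠ ω := by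
      intro h
      apply hne
      have : ω * (ω - 1) = 0 := by rw [mul_sub, mul_one, ← pow_two, h, sub_self]
      exact sub_eq_zero.1 ((mul_eq_zero.1 this).resolve_left h0)
    have k01 : K 0 1 = 0 := hd 0 1 (by simpa using hne.symm)
    have k02 : K 0 2 = 0 := hd 0 2 (by simpa using hω2.symm)
    have k10 : K 1 0 = 0 := hd 1 0 (by simpa using hne)
    have k12 : K 1 2 = 0 := hd 1 2 (by simpa using hω3.symm)
    have k20 : K 2 0 = 0 := hd 2 0 (by simpa using hω2)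
    have k21 : K 2 1 = 0 := hd 2 1 (by simpa using hω3)
    have c01 := congrFun (congrFun hy 0) 1
    have c12 := congrFun (congrFun hy 1) 2
    simp [Matrix.mul_apply, Fin.sum_univ_three] at c01 c12
    refine ⟨K 0 0, ?_⟩
    ext i j
    fin_cases i <;> fin_cases j <;>
      simp [k01, k02, k10, k12, k20, k21, ← c01, ← c12]


theorem x0_pow (ω : F) (h : ω ^ 3 = 1) : (x0 ω h) ^ 3 = 1 := by
  apply Subtype.ext
  rw [Matrix.SpecialLinearGroup.coe_pow]
  change Matrix.diagonal ![1, ω, ω ^ 2] ^ 3 = (1 : MF)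
  have h6 : (ω ^ 2) ^ 3 = 1 := by rw [← pow_mul, mul_comm, pow_mul, h, one_pow]
  rw [Matrix.diagonal_pow, ← Matrix.diagonal_one]
  congr 1
  ext i
  fin_cases i <;> simp [h, h6]

theorem y0_pow : (y0 : SLF) ^ 3 = 1 := by
  apply Subtype.ext
  rw [Matrix.SpecialLinearGroup.coe_pow]
  change !![0, 1, 0; 0, 0, 1; 1, 0, 0] ^ 3 = (1 : MF)
  rw [pow_succ, pow_two]
  ext i j
  fin_cases i <;> fin_cases j <;> simp [Matrix.mul_apply, Fin.sum_univ_three]

theorem mk_sc (r : F) (h : r ^ 3 = 1) : (QuotientGroup.mk (sc r h) : PSF) = 1 := by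
  rw [QuotientGroup.eq_one_iff]
  rw [Subgroup.mem_center_iff]
  intro g
  exact (sc_comm r h g).symm

theorem closure_pair {G : Type*} [Group G] {a b : G} (hab : a * b = b * a) (ha : a ^ 3 = 1) (hb : b ^ 3 = 1) :
    IsPGroup 3 (Subgroup.closure ({a, b} : Set G)) := by
  have hcom : ∀ x ∈ ({a, b} : Set G), ∀ y ∈ ({a, b} : Set G), x * y = y * x := by
    rintro x (rfl | rfl) y (rfl | rfl)
    · rfl
    · exact hab
    · exact hab.symm
    · rfl
  have h1 : Subgroup.closure ({a, b} : Set G) ≤ Subgroup.centralizer ({a, b} : Set G) := by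
    rw [Subgroup.closure_le]
    intro x hx
    exact Subgroup.mem_centralizer_iff.2 fun y hy => hcom y hy x hx
  have h2 : Subgroup.closure ({a, b} : Set G) ≤
      Subgroup.centralizer ((Subgroup.closure ({a, b} : Set G) : Subgroup G) : Set G) := by
    rw [Subgroup.closure_le]
    intro x hx
    refine Subgroup.mem_centralizer_iff.2 fun y hy => ?_
    exact (Subgroup.mem_centralizer_iff.1 (h1 hy) x hx).symm
  have h3 : ∀ g ∈ Subgroup.closure ({a, b} : Set G), g ^ 3 = 1 := by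
    intro g hg
    induction hg using Subgroup.closure_induction with
    | mem x hx =>
      rcases hx with rfl | rfl
      · exact ha
      · exact hb
    | one => exact one_pow 3
    | mul u v hu hv hu3 hv3 =>
      have hc : Commute u v := (Subgroup.mem_centralizer_iff.1 (h2 hv) u hu)
      rw [hc.mul_pow, hu3, hv3, one_mul]
    | inv u _ hu3 => rw [inv_pow, hu3, inv_one]
  intro g
  exact ⟨1, Subtype.ext (by rw [pow_one]; exact h3 g.1 g.2)⟩

theorem conj_pr {x y g : Matrix.SpecialLinearGroup (Fin 3) F} {ω : F} (h : Pr x y ω) :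
    Pr (g * x * g⁻¹) (g * y * g⁻¹) ω := by
  refine ⟨h.om, h.o3, ?_, ?_⟩
  · have h1 := h.xy
    calc g * x * g⁻¹ * (g * y * g⁻¹) = g * (x * y) * g⁻¹ := by group
      _ = (g * sc ω h.o3) * (y * x) * g⁻¹ := by rw [h1]; group
      _ = (sc ω h.o3 * g) * (y * x) * g⁻¹ := by rw [sc_comm ω h.o3 g]
      _ = _ := by group
  · intro K hx hy
    have key : ∀ z : SLF, K * ((g * z * g⁻¹ : SLF) : MF) = ((g * z * g⁻¹ : SLF) : MF) * K →
        (((g⁻¹ : SLF) : MF) * K * (g : MF)) * (z : MF) = (z : MF) * (((g⁻¹ : SLF) : MF) * K * (g : MF)) := by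
      intro z hz
      have e1 : ((g⁻¹ : SLF) : MF) * (g : MF) = 1 := by
        rw [← Matrix.SpecialLinearGroup.coe_mul, inv_mul_cancel]; rfl
      rw [Matrix.SpecialLinearGroup.coe_mul, Matrix.SpecialLinearGroup.coe_mul] at hz
      calc (((g⁻¹ : SLF) : MF) * K * (g : MF)) * (z : MF)
          = ((g⁻¹ : SLF) : MF) * (K * ((g : MF) * (z : MF) * (((g⁻¹ : SLF) : MF)))) * (g : MF) := by
            simp only [mul_assoc]; rw [e1, mul_one]
        _ = ((g⁻¹ : SLF) : MF) * (((g : MF) * (z : MF) * (((g⁻¹ : SLF) : MF))) * K) * (g : MF) := by rw [hz]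
        _ = (((g⁻¹ : SLF) : MF) * (g : MF)) * (z : MF) * (((g⁻¹ : SLF) : MF) * K * (g : MF)) := by
            simp only [mul_assoc]
        _ = _ := by rw [e1, one_mul]
    obtain ⟨k, hk⟩ := h.irr _ (key x hx) (key y hy)
    refine ⟨k, ?_⟩
    have e2 : (g : MF) * ((g⁻¹ : SLF) : MF) = 1 := by
      rw [← Matrix.SpecialLinearGroup.coe_mul, mul_inv_cancel]; rfl
    calc K = ((g : MF) * ((g⁻¹ : SLF) : MF)) * K * ((g : MF) * ((g⁻¹ : SLF) : MF)) := by rw [e2, one_mul, mul_one]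
      _ = (g : MF) * (((g⁻¹ : SLF) : MF) * K * (g : MF)) * ((g⁻¹ : SLF) : MF) := by simp only [mul_assoc]
      _ = _ := by rw [hk, Matrix.mul_smul, Matrix.smul_mul, mul_one, e2]

theorem card_PSF [Fintype F] (hF : Fintype.card F = 4) : Nat.card PSF = 20160 := by
  have h := Cfsg.Agent.S0243.result hF 3 (by norm_num)
  rw [Fin.prod_univ_three] at h
  norm_num at h
  omega

theorem card_syl [Fintype F] (hF : Fintype.card F = 4) (Q : Sylow 3 PSF) : Nat.card (Q : Subgroup PSF) ≤ 9 := by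
  have _ : Fact (Nat.Prime 3) := ⟨Nat.prime_three⟩
  obtain ⟨n, hn⟩ := IsPGroup.iff_card.1 Q.isPGroup'
  have h1 : Nat.card (Q : Subgroup PSF) ∣ Nat.card PSF := Subgroup.card_subgroup_dvd_card _
  rw [card_PSF hF, hn] at h1
  rw [hn]
  by_contra hcon
  have h2 : 3 ≤ n := by
    by_contra h
    have : n ≤ 2 := by omega
    exact hcon (Nat.pow_le_pow_right (by norm_num) this)
  have h3 : 3 ^ 3 ∣ 20160 := (pow_dvd_pow 3 h2).trans h1
  norm_num at h3

/-- a Sylow 3-subgroup of `L3(4)` contains a pair -/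
theorem exists_pr [Fintype F] (hF : Fintype.card F = 4) (E : Subgroup PSF) (hE : Nat.card E = 9) :
    ∃ (x y : SLF) (ω : F), Pr x y ω ∧ (QuotientGroup.mk x : PSF) ∈ E ∧ (QuotientGroup.mk y : PSF) ∈ E := by
  have _ : Fact (Nat.Prime 3) := ⟨Nat.prime_three⟩
  obtain ⟨ω, h0, hne, h3, h1⟩ := exists_omega hF
  have hp := pr0 h1 h3 hne h0
  have hcomm : (QuotientGroup.mk (y0 : SLF) : PSF) * QuotientGroup.mk (x0 ω h3) =
      QuotientGroup.mk (x0 ω h3) * QuotientGroup.mk (y0 : SLF) := by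
    rw [← QuotientGroup.mk_mul, ← QuotientGroup.mk_mul, hp.xy, QuotientGroup.mk_mul, mk_sc, one_mul]
  have hQ0 := closure_pair hcomm (by rw [← QuotientGroup.mk_pow, y0_pow, QuotientGroup.mk_one])
    (by rw [← QuotientGroup.mk_pow, x0_pow, QuotientGroup.mk_one])
  obtain ⟨Q, hQ⟩ := hQ0.exists_le_sylow
  have hE3 : IsPGroup 3 E := IsPGroup.of_card (n := 2) (by rw [hE]; norm_num)
  obtain ⟨Q', hQ'⟩ := hE3.exists_le_sylow
  have hEQ : E = (Q' : Subgroup PSF) :=
    Subgroup.eq_of_le_of_card_ge hQ' (by rw [hE]; exact card_syl hF Q')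
  obtain ⟨g, hg⟩ := MulAction.exists_smul_eq PSF Q Q'
  obtain ⟨s, rfl⟩ := QuotientGroup.mk_surjective g
  have hmem : ∀ z : SLF, (QuotientGroup.mk z : PSF) ∈ Subgroup.closure
      ({QuotientGroup.mk (y0 : SLF), QuotientGroup.mk (x0 ω h3)} : Set PSF) →
      (QuotientGroup.mk (s * z * s⁻¹) : PSF) ∈ E := by
    intro z hz
    rw [hEQ, ← hg]
    change _ ∈ (MulAut.conj (QuotientGroup.mk s : PSF)) • (Q : Subgroup PSF)
    exact Subgroup.smul_mem_pointwise_smul _ (MulAut.conj (QuotientGroup.mk s : PSF)) _ (hQ hz)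
  exact ⟨s * y0 * s⁻¹, s * x0 ω h3 * s⁻¹, ω, conj_pr hp, hmem _ (Subgroup.subset_closure (Or.inl rfl)),
    hmem _ (Subgroup.subset_closure (Or.inr rfl))⟩

/-- at most 18 automorphisms of `L3(4)` fix a Sylow 3-subgroup elementwise -/
theorem card_fix_syl [Fintype F] (hF : Fintype.card F = 4) (E : Subgroup PSF) (hE : Nat.card E = 9) :
    Nat.card {β : MulAut PSF // ∀ z ∈ E, β z = z} ≤ 18 := by
  obtain ⟨x, y, ω, h, hx, hy⟩ := exists_pr hF E hE
  exact card_fix_le hF h _ (fun β hβ => hβ _ hx) (fun β hβ => hβ _ hy)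

/-- `|C_H(E)| ≤ 18` -/
theorem card_centralizer_le [Fintype F] (hF : Fintype.card F = 4) {H : Type*} [Group H] [Finite H] (L : Subgroup H)
    [L.Normal] (hC : Subgroup.centralizer (L : Set H) = ⊥) (e : L ≃* PSF) (E : Subgroup H) (hEL : E ≤ L)
    (hE : Nat.card E = 9) : Nat.card (Subgroup.centralizer (E : Set H)) ≤ 18 := by
  let E' : Subgroup PSF := (E.subgroupOf L).map e.toMonoidHom
  have hE' : Nat.card E' = 9 := by
    rw [← hE, Subgroup.card_map_of_injective e.injective]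
    exact Nat.card_congr (Subgroup.subgroupOfEquivOfLe hEL).toEquiv
  refine le_trans ?_ (card_fix_syl hF E' hE')
  let ψ : H →* MulAut PSF := (MulAut.congr e).toMonoidHom.comp (MulAut.conjNormal : H →* MulAut L)
  have hψ : ∀ h : H, ∀ l : L, ψ h (e l) = e (MulAut.conjNormal h l) := by
    intro h l
    change e (MulAut.conjNormal h (e.symm (e l))) = _
    rw [e.symm_apply_apply]
  let f : Subgroup.centralizer (E : Set H) → {β : MulAut PSF // ∀ z ∈ E', β z = z} := fun h => ⟨ψ h.1, by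
    rintro _ ⟨l, hl, rfl⟩
    change ψ h.1 (e l) = e l
    rw [hψ]
    congr 1
    apply Subtype.ext
    rw [MulAut.conjNormal_apply]
    have h1 := Subgroup.mem_centralizer_iff.1 h.2 (l : H) hl
    rw [← h1, mul_assoc, mul_inv_cancel, mul_one]⟩
  refine Nat.card_le_card_of_injective f ?_
  intro a b hab
  have h1 : ψ a.1 = ψ b.1 := congrArg Subtype.val hab
  have h2 : a.1⁻¹ * b.1 ∈ Subgroup.centralizer (L : Set H) := by
    rw [Subgroup.mem_centralizer_iff]
    intro l hl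
    have h3 : ψ (a.1⁻¹ * b.1) (e ⟨l, hl⟩) = e ⟨l, hl⟩ := by
      rw [map_mul, map_inv, h1, inv_mul_cancel]; rfl
    rw [hψ] at h3
    have h4 := congrArg Subtype.val (e.injective h3)
    rw [MulAut.conjNormal_apply] at h4
    change (a.1⁻¹ * b.1) * l * (a.1⁻¹ * b.1)⁻¹ = l at h4
    rw [mul_inv_eq_iff_eq_mul] at h4
    exact h4.symm
  rw [hC, Subgroup.mem_bot] at h2
  exact Subtype.ext (inv_mul_eq_one.1 h2)


theorem center_PSF [Fintype F] (hF : Fintype.card F = 4) : Subgroup.center PSF = ⊥ := by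
  have hs : IsSimpleGroup PSF := Cfsg.Agent.S0249.result 3 (by norm_num)
  rcases (inferInstance : (Subgroup.center PSF).Normal).eq_bot_or_eq_top with h | h
  · exact h
  · exfalso
    let _ : CommGroup PSF :=
      { (inferInstance : Group PSF) with
        mul_comm := fun a b => (Subgroup.mem_center_iff.1 (h ▸ Subgroup.mem_top b : b ∈ Subgroup.center PSF) a) }
    have h1 := IsSimpleGroup.prime_card (α := PSF)
    rw [card_PSF hF] at h1
    norm_num at h1

/-- `C_H(F*(H)) = 1` if `F*(H) ≅ L3(4)` -/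
theorem centralizer_eq_bot [Fintype F] (hF : Fintype.card F = 4) {H : Type*} [Group H] [Finite H]
    (e : Cfsg.generalizedFittingSubgroup H ≃* PSF) :
    (Cfsg.generalizedFittingSubgroup H).Normal ∧
      Subgroup.centralizer (Cfsg.generalizedFittingSubgroup H : Set H) = ⊥ := by
  have hFn : (Cfsg.fittingSubgroup H).Normal :=
    SignalizersComponents.ComponentExists.fittingSubgroup_normal H
  have hLn : (Cfsg.layer H).Normal := SignalizersComponents.Components.layer_normal H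
  have hn : (Cfsg.generalizedFittingSubgroup H).Normal := by
    change (Cfsg.layer H ⊔ Cfsg.fittingSubgroup H).Normal
    infer_instance
  refine ⟨hn, ?_⟩
  rw [Subgroup.eq_bot_iff_forall]
  intro c hc
  have h1 := Cfsg.Agent.S1313.centralizer_le H hc
  -- e c is central in PSL
  have h2 : ∀ z : PSF, z * e ⟨c, h1⟩ = e ⟨c, h1⟩ * z := by
    intro z
    obtain ⟨l, rfl⟩ := e.surjective z
    rw [← map_mul, ← map_mul]
    congr 1
    exact Subtype.ext (Subgroup.mem_centralizer_iff.1 hc l l.2)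
  have h3 : e ⟨c, h1⟩ = 1 := by
    have h5 : e ⟨c, h1⟩ ∈ Subgroup.center PSF := Subgroup.mem_center_iff.2 h2
    rw [center_PSF hF] at h5
    exact h5
  have h4 : (⟨c, h1⟩ : Cfsg.generalizedFittingSubgroup H) = 1 := e.injective (by rw [h3, map_one])
  exact congrArg Subtype.val h4

/-- `|C_H(E)| ≤ 18` for a Sylow 3-subgroup `E` of `F*(H) ≅ L3(4)` -/
theorem card_centralizer_le' [Fintype F] (hF : Fintype.card F = 4) {H : Type*} [Group H] [Finite H]
    (e : Cfsg.generalizedFittingSubgroup H ≃* PSF) (E : Subgroup H) (hEL : E ≤ Cfsg.generalizedFittingSubgroup H)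
    (hE : Nat.card E = 9) : Nat.card (Subgroup.centralizer (E : Set H)) ≤ 18 := by
  obtain ⟨hn, hC⟩ := centralizer_eq_bot hF e
  exact card_centralizer_le hF _ hC e E hEL hE

end Cfsg.Agent.H888.L34
end

-- part: H888/L34/Model
section
/-!
# S5917 (`L₃(4)` in `E₈(2)`), G3: the group-theoretic frame

* `Sit H f` : `H` is a maximal subgroup of `E2 = E₈(2)`, `f : L₃(4) → H` the socle;
* `exists_sit`, `main_of` : it is enough to refute `Sit` for fields in `Type`;
* `mem_of_stab`, `mem_of_fix`, ... : stabilisers and pointwise stabilisers of `H`-stable subspaces of the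
  adjoint module lie in `H`, over `KK` (`LK`, `rE`) and over `ZMod 2` (`L2`, `a2`);
* `stab_*_all` : the same for `V ^ S`, and the bound 18 for elements commuting with `E = 3²`.
-/

set_option autoImplicit false
set_option maxRecDepth 100000
set_option linter.unusedSectionVars false

namespace Cfsg.Agent.H888.L34.Model

open Matrix Cfsg Cfsg.Lie Subgroup
open Cfsg.Agent.H939.L64 (KK E2 LK L2 a2 em aK rE rE_apply rE_mul rE_one rE_inv_self rE_self_inv rEq rEq_apply fixS brK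
  rE_brK em_injective rE_inj finrank_LK frE frE_apply frE_smul frE_rE)
open Cfsg.Agent.H691.L34 (G3)
open Cfsg.Agent.H942.E8Tab
open Cfsg.Agent.ChevalleyStructure.Elts Cfsg.Agent.GpExc.Field Cfsg.Agent.ChevalleyStructure.Good

abbrev P3 (F : Type) [Field F] : Type := ProjectiveSpecialLinearGroup (Fin 3) F

/-- the situation of S5917 -/
structure Sit {F : Type} [Field F] (H : Subgroup E2) (f : P3 F →* E2) : Prop where
  co : IsCoatom H
  inj : Function.Injective f
  le : ∀ s, f s ∈ H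
  nor : ∀ h ∈ H, ∃ τ : P3 F ≃* P3 F, ∀ s, f (τ s) = h * f s * h⁻¹
  /-- only the identity of `H` centralises the socle -/
  tri : ∀ g ∈ H, (∀ s, Commute g (f s)) → g = 1
  /-- at most 18 elements of `H` centralise a Sylow 3-subgroup of the socle -/
  cen : ∀ E : Subgroup (P3 F), Nat.card E = 9 →
    Nat.card ↥(H ⊓ centralizer ((E.map f : Subgroup E2) : Set E2)) ≤ 18

theorem exists_sit' {F : Type} [Field F] [Fintype F] (hF : Fintype.card F = 4) {G : Type} [Group G] [Finite G]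
    (H : Subgroup G) (e : ↥(generalizedFittingSubgroup ↥H) ≃* P3 F) :
    ∃ f : P3 F →* G, Function.Injective f ∧ (∀ s, f s ∈ H) ∧
      (∀ h ∈ H, ∃ τ : P3 F ≃* P3 F, ∀ s, f (τ s) = h * f s * h⁻¹) ∧
      (∀ g ∈ H, (∀ s, Commute g (f s)) → g = 1) ∧
      ∀ E : Subgroup (P3 F), Nat.card E = 9 →
        Nat.card ↥(H ⊓ centralizer ((E.map f : Subgroup G) : Set G)) ≤ 18 := by
  obtain ⟨hn, hC⟩ := Cfsg.Agent.H888.L34.centralizer_eq_bot hF e
  have key : ∀ E : Subgroup ↥H, E ≤ generalizedFittingSubgroup ↥H → Nat.card E = 9 →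
      Nat.card (centralizer (E : Set ↥H)) ≤ 18 := fun E h1 h2 =>
    Cfsg.Agent.H888.L34.card_centralizer_le' hF e E h1 h2
  generalize hSdef : generalizedFittingSubgroup ↥H = S at e hn hC key
  let f₀ : P3 F →* ↥H := S.subtype.comp e.symm.toMonoidHom
  have hf₀ : Function.Injective f₀ := (Subgroup.subtype_injective S).comp e.symm.injective
  have hr : ∀ x ∈ S, ∃ s, f₀ s = x := fun x hx => ⟨e ⟨x, hx⟩, by simp [f₀]⟩
  have hm : ∀ s, f₀ s ∈ S := fun s => (e.symm s).2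
  refine ⟨H.subtype.comp f₀, (Subgroup.subtype_injective H).comp hf₀, fun s => (f₀ s).2, ?_, ?_, ?_⟩
  · intro h hh
    let h' : ↥H := ⟨h, hh⟩
    refine ⟨(e.symm.trans (MulAut.conjNormal h' : MulAut S)).trans e, fun s => ?_⟩
    change ((e.symm (e (MulAut.conjNormal h' (e.symm s))) : S) : G) = _
    rw [MulEquiv.symm_apply_apply, MulAut.conjNormal_apply]
    rfl
  · intro h hh hc
    have h1 : (⟨h, hh⟩ : ↥H) ∈ centralizer (S : Set ↥H) := by
      rw [mem_centralizer_iff]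
      intro x hx
      obtain ⟨s, rfl⟩ := hr x hx
      exact Subtype.ext (hc s).eq.symm
    rw [hC, mem_bot] at h1
    exact congrArg Subtype.val h1
  · intro E hE
    have h1 := key (E.map f₀) (by rintro _ ⟨s, -, rfl⟩; exact hm s)
      (by rw [Subgroup.card_map_of_injective hf₀, hE])
    have h2 : H ⊓ centralizer ((E.map (H.subtype.comp f₀) : Subgroup G) : Set G) =
        (centralizer ((E.map f₀ : Subgroup ↥H) : Set ↥H)).map H.subtype := by
      ext x
      constructor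
      · rintro ⟨hx, hx2⟩
        refine ⟨⟨x, hx⟩, ?_, rfl⟩
        rw [SetLike.mem_coe, mem_centralizer_iff]
        rintro _ ⟨s, hs', rfl⟩
        exact Subtype.ext (mem_centralizer_iff.1 hx2 _ ⟨s, hs', rfl⟩)
      · rintro ⟨x, hx, rfl⟩
        refine ⟨x.2, mem_centralizer_iff.2 ?_⟩
        rintro _ ⟨s, hs', rfl⟩
        exact congrArg Subtype.val (mem_centralizer_iff.1 hx _ ⟨s, hs', rfl⟩)
    rw [h2, Subgroup.card_map_of_injective (Subgroup.subtype_injective H)]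
    exact h1

theorem exists_sit {F : Type} [Field F] [Fintype F] (hF : Fintype.card F = 4) {H : Subgroup E2} (hco : IsCoatom H)
    (e : ↥(generalizedFittingSubgroup ↥H) ≃* P3 F) : ∃ f : P3 F →* E2, Sit H f := by
  obtain ⟨f, h1, h2, h3, h4, h5⟩ := exists_sit' hF H e
  exact ⟨f, hco, h1, h2, h3, h4, h5⟩

/-- it is enough to refute `Sit` for fields in `Type` -/
theorem main_of (h0 : ∀ {F : Type} [Field F] [Fintype F], Fintype.card F = 4 → ∀ (H : Subgroup E2) (f : P3 F →* E2),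
    Sit H f → False)
    {F : Type*} [Field F] [Fintype F] (hF : Fintype.card F = 4) (H : Subgroup E2)
    (hH : Nonempty (↥(generalizedFittingSubgroup ↥H) ≃* ProjectiveSpecialLinearGroup (Fin 3) F)) : ¬ IsCoatom H := by
  classical
  intro hco
  obtain ⟨e⟩ := hH
  have : Fintype (GaloisField 2 2) := Fintype.ofFinite _
  have h4 : Fintype.card (GaloisField 2 2) = 4 := by
    rw [← Nat.card_eq_fintype_card, GaloisField.card 2 2 (by norm_num)]
    norm_num
  obtain ⟨f, hf⟩ := exists_sit h4 hco (e.trans (Cfsg.Agent.LieClassical.FieldTransfer.pslCongr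
    (FiniteField.ringEquivOfCardEq (hF.trans h4.symm))))
  exact h0 h4 H f hf

variable {F : Type} [Field F] {H : Subgroup E2} {f : P3 F →* E2}

/-- the socle is not trivial -/
theorem Sit.exists_ne [Fintype F] (S : Sit H f) (hF : Fintype.card F = 4) : ∃ s, f s ≠ 1 := by
  by_contra hc
  push Not at hc
  have h1 : Subsingleton (P3 F) := ⟨fun a b => S.inj ((hc a).trans (hc b).symm)⟩
  have h2 : Nat.card (P3 F) = 20160 := Cfsg.Agent.H888.L34.card_PSF hF
  rw [Nat.card_eq_one_iff_unique.2 ⟨h1, ⟨1⟩⟩] at h2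
  omega

/-! ### over `KK` -/

theorem mem_fix {v : LK} : v ∈ fixS (rE.comp f) ↔ ∀ s, rE (f s) v = v := Iff.rfl

theorem fix_stable (S : Sit H f) {h : E2} (hh : h ∈ H) {v : LK} (hv : v ∈ fixS (rE.comp f)) :
    rE h v ∈ fixS (rE.comp f) := by
  intro s
  show rE (f s) (rE h v) = rE h v
  obtain ⟨τ, hτ⟩ := S.nor h hh
  have h1 : f s * h = h * f (τ.symm s) := by
    have := hτ (τ.symm s)
    rw [MulEquiv.apply_symm_apply] at this
    rw [this, inv_mul_cancel_right]
  rw [← rE_mul, h1, rE_mul, mem_fix.1 hv]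

/-- stabilisers -/
theorem mem_of_stab (S : Sit H f) {A : Submodule KK LK} (h0 : A ≠ ⊥) (h1 : A ≠ ⊤)
    (hH : ∀ h ∈ H, ∀ v ∈ A, rE h v ∈ A) {g : E2} (hg : ∀ v ∈ A, rE g v ∈ A) : g ∈ H := by
  have key : ∀ x : E2, (∀ v ∈ A, rE x v ∈ A) → ∀ v ∈ A, rE x⁻¹ v ∈ A := by
    intro x hx v hv
    have h2 : A.map (rEq x).toLinearMap = A := by
      apply Submodule.eq_of_le_of_finrank_eq
      · rintro _ ⟨w, hw, rfl⟩
        exact hx w hw
      · exact LinearEquiv.finrank_map_eq (rEq x) A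
    rw [← h2] at hv
    obtain ⟨w, hw, rfl⟩ := hv
    show rE x⁻¹ (rE x w) ∈ A
    rw [rE_inv_self]
    exact hw
  let K : Subgroup E2 :=
    { carrier := {x | ∀ v ∈ A, rE x v ∈ A}
      mul_mem' := fun {a b} ha hb v hv => by rw [rE_mul]; exact ha _ (hb v hv)
      one_mem' := fun v hv => by rw [rE_one]; exact hv
      inv_mem' := fun {a} ha => key a ha }
  by_contra hgH
  have h2 : H < K := by
    refine lt_of_le_of_ne hH fun h => hgH ?_
    rw [h]
    exact hg
  have h3 := S.co.2 K h2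
  rcases Cfsg.Agent.H955.L64.IRR A (fun x v hv => (by rw [h3]; trivial : x ∈ K) v hv) with h4 | h4
  · exact h0 h4
  · exact h1 h4

/-- the fixed space of the socle is proper -/
theorem fix_ne_top [Fintype F] (S : Sit H f) (hF : Fintype.card F = 4) : fixS (rE.comp f) ≠ ⊤ := by
  intro h
  obtain ⟨s, hs⟩ := S.exists_ne hF
  exact hs (rE_inj fun v => by
    have h3 : v ∈ fixS (rE.comp f) := by rw [h]; trivial
    exact h3 s)

/-- **END GAME**: if the socle fixes a non-zero vector then every element stabilising `V ^ S` is in `H` -/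
theorem mem_of_stab_fix [Fintype F] (S : Sit H f) (hF : Fintype.card F = 4) (h0 : fixS (rE.comp f) ≠ ⊥) {g : E2}
    (hg : ∀ v ∈ fixS (rE.comp f), rE g v ∈ fixS (rE.comp f)) : g ∈ H :=
  mem_of_stab S h0 (fix_ne_top S hF) (fun _ hh _ hv => fix_stable S hh hv) hg

/-- a set of elements of `H` commuting with a Sylow 3-subgroup of the socle has at most 18 elements -/
theorem ncard_le (S : Sit H f) {E : Subgroup (P3 F)} (hE : Nat.card E = 9) {X : Set E2} (hX : ∀ g ∈ X, g ∈ H)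
    (hc : ∀ g ∈ X, ∀ s ∈ E, Commute g (f s)) : X.ncard ≤ 18 := by
  refine le_trans ?_ (S.cen E hE)
  have h1 : X ⊆ ((H ⊓ centralizer ((E.map f : Subgroup E2) : Set E2) : Subgroup E2) : Set E2) := by
    intro g hg
    refine ⟨hX g hg, mem_centralizer_iff.2 ?_⟩
    rintro _ ⟨s, hs, rfl⟩
    exact (hc g hg s hs).eq.symm
  exact (Set.ncard_le_ncard h1 (Set.toFinite _)).trans_eq (Nat.card_coe_set_eq _).symm

/-- the contradiction: more than 18 elements commuting with `E` and stabilising `V ^ S` -/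
theorem false_of_ncard [Fintype F] (S : Sit H f) (hF : Fintype.card F = 4) {E : Subgroup (P3 F)} (hE : Nat.card E = 9)
    (h0 : fixS (rE.comp f) ≠ ⊥) {X : Set E2} (hX : 18 < X.ncard) (hc : ∀ g ∈ X, ∀ s ∈ E, Commute g (f s))
    (hg : ∀ g ∈ X, ∀ v ∈ fixS (rE.comp f), rE g v ∈ fixS (rE.comp f)) : False :=
  absurd (ncard_le S hE (fun g hgX => mem_of_stab_fix S hF h0 (hg g hgX)) hc) (not_le.2 hX)

/-! ### over `ZMod 2` -/

/-- the action of `E₈(2)` on its natural module over `ZMod 2` -/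
def r2 : Representation (ZMod 2) E2 L2 where
  toFun g := Matrix.mulVecLin (((g : GL chevE8.Idx (ZMod 2)) : Matrix chevE8.Idx chevE8.Idx (ZMod 2)))
  map_one' := LinearMap.ext fun v => Matrix.one_mulVec v
  map_mul' a b := LinearMap.ext fun v => (Matrix.mulVec_mulVec v _ _).symm

theorem r2_apply (g : E2) (v : L2) : r2 g v = a2 g v := rfl

theorem a2_mul (g h : E2) (v : L2) : a2 (g * h) v = a2 g (a2 h v) := by
  rw [← r2_apply, map_mul]
  rfl

theorem a2_one (v : L2) : a2 1 v = v := by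
  rw [← r2_apply, map_one]
  rfl

theorem a2_inv_self (g : E2) (v : L2) : a2 g⁻¹ (a2 g v) = v := by rw [← a2_mul, inv_mul_cancel, a2_one]

theorem a2_self_inv (g : E2) (v : L2) : a2 g (a2 g⁻¹ v) = v := by rw [← a2_mul, mul_inv_cancel, a2_one]

/-- an element as a linear automorphism -/
def r2q (g : E2) : L2 ≃ₗ[ZMod 2] L2 :=
  LinearEquiv.ofLinearMap (r2 g) (r2 g⁻¹) (LinearMap.ext fun v => a2_self_inv g v) (LinearMap.ext fun v => a2_inv_self g v)

/-- the module over `ZMod 2` is irreducible -/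
theorem IRR2 (W : Submodule (ZMod 2) L2) (hW : ∀ g : E2, ∀ x ∈ W, a2 g x ∈ W) : W = ⊥ ∨ W = ⊤ := by
  refine Cfsg.Agent.H955.L64.irr_gen W fun r w hw => ?_
  have h1 : a2 (Cfsg.Agent.H955.L64.xe r) w = chevE8.xMat (ZMod 2) r 1 *ᵥ w := by
    show (((Cfsg.Agent.H955.L64.xe r : E2) : GL chevE8.Idx (ZMod 2)) : Matrix chevE8.Idx chevE8.Idx (ZMod 2)) *ᵥ w = _
    unfold Cfsg.Agent.H955.L64.xe
    rw [coe_xG, x_eq_xMat r.val r.isLt]
  rw [← h1]
  exact hW _ w hw

/-- the module over `ZMod 2` is faithful -/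
theorem a2_faithful {g : E2} (h : ∀ v : L2, a2 g v = v) : g = 1 := by
  apply Subtype.ext
  apply Units.ext
  show (((g : E2) : GL chevE8.Idx (ZMod 2)) : Matrix chevE8.Idx chevE8.Idx (ZMod 2)) = 1
  ext i j
  have h2 := congrFun (h (Pi.single j 1)) i
  rw [a2, Matrix.mulVec_single_one] at h2
  rw [Matrix.one_apply]
  refine Eq.trans h2 ?_
  rw [Pi.single_apply]

/-- the fixed vectors of the socle over `ZMod 2` -/
def fix2 (f : P3 F →* E2) : Submodule (ZMod 2) L2 where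
  carrier := {v | ∀ s, a2 (f s) v = v}
  add_mem' := fun {a b} ha hb s => by rw [← r2_apply, map_add, r2_apply, r2_apply, ha s, hb s]
  zero_mem' := fun s => by rw [← r2_apply, map_zero]
  smul_mem' := fun c v hv s => by rw [← r2_apply, map_smul, r2_apply, hv s]

theorem mem_fix2 {v : L2} : v ∈ fix2 f ↔ ∀ s, a2 (f s) v = v := Iff.rfl

theorem fix2_stable (S : Sit H f) {h : E2} (hh : h ∈ H) {v : L2} (hv : v ∈ fix2 f) : a2 h v ∈ fix2 f := by
  intro s
  obtain ⟨τ, hτ⟩ := S.nor h hh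
  have h1 : f s * h = h * f (τ.symm s) := by
    have := hτ (τ.symm s)
    rw [MulEquiv.apply_symm_apply] at this
    rw [this, inv_mul_cancel_right]
  rw [← a2_mul, h1, a2_mul, hv]

/-- stabilisers over `ZMod 2` -/
theorem mem_of_stab2 (S : Sit H f) {A : Submodule (ZMod 2) L2} (h0 : A ≠ ⊥) (h1 : A ≠ ⊤)
    (hH : ∀ h ∈ H, ∀ v ∈ A, a2 h v ∈ A) {g : E2} (hg : ∀ v ∈ A, a2 g v ∈ A) : g ∈ H := by
  have key : ∀ x : E2, (∀ v ∈ A, a2 x v ∈ A) → ∀ v ∈ A, a2 x⁻¹ v ∈ A := by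
    intro x hx v hv
    have h2 : A.map (r2q x).toLinearMap = A := by
      apply Submodule.eq_of_le_of_finrank_eq
      · rintro _ ⟨w, hw, rfl⟩
        exact hx w hw
      · exact LinearEquiv.finrank_map_eq (r2q x) A
    rw [← h2] at hv
    obtain ⟨w, hw, rfl⟩ := hv
    show a2 x⁻¹ (a2 x w) ∈ A
    rw [a2_inv_self]
    exact hw
  let K : Subgroup E2 :=
    { carrier := {x | ∀ v ∈ A, a2 x v ∈ A}
      mul_mem' := fun {a b} ha hb v hv => by rw [a2_mul]; exact ha _ (hb v hv)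
      one_mem' := fun v hv => by rw [a2_one]; exact hv
      inv_mem' := fun {a} ha => key a ha }
  by_contra hgH
  have h2 : H < K := by
    refine lt_of_le_of_ne hH fun h => hgH ?_
    rw [h]
    exact hg
  have h3 := S.co.2 K h2
  rcases IRR2 A (fun x v hv => (by rw [h3]; trivial : x ∈ K) v hv) with h4 | h4
  · exact h0 h4
  · exact h1 h4

/-- the fixed space of the socle is proper -/
theorem fix2_ne_top [Fintype F] (S : Sit H f) (hF : Fintype.card F = 4) : fix2 f ≠ ⊤ := by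
  intro h
  obtain ⟨s, hs⟩ := S.exists_ne hF
  exact hs (a2_faithful fun v => by
    have h3 : v ∈ fix2 f := by rw [h]; trivial
    exact h3 s)

/-- pointwise stabilisers of arbitrary `H`-stable sets `≠ 0` -/
theorem mem_of_fix2_set (S : Sit H f) {X : Set L2} (h0 : ∃ v ∈ X, v ≠ 0) (hH : ∀ h ∈ H, ∀ v ∈ X, a2 h v ∈ X)
    {g : E2} (hg : ∀ v ∈ X, a2 g v = v) : g ∈ H := by
  let K : Subgroup E2 :=
    { carrier := {x | ∀ v ∈ X, a2 x v = v}
      mul_mem' := fun {a b} ha hb v hv => by rw [a2_mul, hb v hv, ha v hv]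
      one_mem' := fun v _ => a2_one v
      inv_mem' := fun {a} ha v hv => by
        have := ha v hv
        conv_lhs => rw [← this]
        exact a2_inv_self a v }
  by_cases hK : K = ⊥
  · have h1 : g ∈ K := hg
    rw [hK, mem_bot] at h1
    rw [h1]
    exact H.one_mem
  have hn : H ≤ Subgroup.normalizer (K : Set E2) := by
    intro h hh
    have key : ∀ h ∈ H, ∀ k ∈ K, h * k * h⁻¹ ∈ K := by
      intro h hh k hk w hw
      rw [a2_mul, a2_mul, hk _ (hH _ (H.inv_mem hh) w hw), a2_self_inv]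
    rw [Subgroup.mem_normalizer_iff]
    intro k
    constructor
    · exact key h hh k
    · intro hk
      have := key _ (H.inv_mem hh) _ hk
      have e : h⁻¹ * (h * k * h⁻¹) * h⁻¹⁻¹ = k := by group
      rwa [e] at this
  obtain ⟨v, hv, hv0⟩ := h0
  exact Cfsg.Agent.H955.L64.g2_gen r2 (fun W hW => IRR2 W hW) (fun g hg => a2_faithful hg) S.co hn hK
    ⟨v, hv0, fun k hk => hk v hv⟩ hg

/-- **END GAME** over `ZMod 2` -/
theorem mem_of_stab_fix2 [Fintype F] (S : Sit H f) (hF : Fintype.card F = 4) (h0 : fix2 f ≠ ⊥) {g : E2}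
    (hg : ∀ v ∈ fix2 f, a2 g v ∈ fix2 f) : g ∈ H :=
  mem_of_stab2 S h0 (fix2_ne_top S hF) (fun _ hh _ hv => fix2_stable S hh hv) hg

/-! ### the representation of `SL₃(4)` -/

/-- `SL₃(4)` on the module over `ZMod 2` -/
def rho (f : P3 F →* E2) : Representation (ZMod 2) (G3 F) L2 :=
  (r2.comp f).comp (QuotientGroup.mk' (Subgroup.center (G3 F)))

end Cfsg.Agent.H888.L34.Model
end

-- part: H544/L34/Types
section
/-!
# S5917: the two types of a pure `3²` (helper544)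

`types` : `e1, e2` commuting of order three, independent, every non-trivial `e1 ^ i e2 ^ j` of fixed dimension `86`: up to
conjugation in `E₈(KK)` the values on the simple roots are `(V1, V2)` (type `A₂⁴`) or `(V1, V3)` (type `D₄`).
-/

set_option autoImplicit false
set_option linter.unusedSectionVars false
set_option maxRecDepth 100000

namespace Cfsg.Agent.H544.L34

open Cfsg.Agent.H939.L64 (KK E2 em rE)
open Cfsg.Agent.H943.RepAdd (eig)
open Cfsg.Agent.H201.L34 (V1 V2)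
open Cfsg.Agent.H251.L34 (V3 pure_pair)

/-- **the two types** -/
theorem types {e1 e2 : E2} {ζ : KK} (hζ : IsPrimitiveRoot ζ 3) (h1 : e1 ^ 3 = 1) (h2 : e2 ^ 3 = 1) (hc : Commute e1 e2)
    (hd : ∀ i j : ℕ, e1 ^ i * e2 ^ j ≠ 1 → Module.finrank KK (eig rE (e1 ^ i * e2 ^ j) 1) = 86)
    (hne1 : e1 ≠ 1) (hne2 : ∀ i : ℕ, e2 ≠ e1 ^ i) :
    PairZ e1 e2 V1 V2 ζ ∨ PairZ e1 e2 V1 V3 ζ :=
  pair_glue (V1 := V1) (V2 := V2) (V3 := V3) (fun ha hb hab hab' => pure_pair ha hb hab hab') hζ h1 h2 hc hd hne1 hne2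

end Cfsg.Agent.H544.L34
end

-- part: H5/L34/Comp
section
/-!
# S5917 (`L₃(4)` in `E₈(2)`): the centraliser of `E0` (helper5)

* `Pk k : SL₃(KK) → E₈(KK)` : the four components, `Psi : SL₃(KK)⁴ → E₈(KK)`;
* `Psi_ker` : the kernel consists of tuples of scalars; `cent_Psi` : the centraliser of `t₁, t₂` is the range;
* `gz_Psi`, `gi_Psi`, `gj_Psi`, `phi_Psi` : the actions.
-/

set_option autoImplicit false
set_option linter.unusedSectionVars false
set_option maxRecDepth 100000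

namespace Cfsg.Agent.H5.L34

open CoxeterSystem Cfsg Cfsg.Lie Cfsg.Lie.ChevalleyDatum
open Cfsg.Agent.ChevalleyStructure Cfsg.Agent.ChevalleyStructure.Elts Cfsg.Agent.ChevalleyStructure.CoxeterGeom
  Cfsg.Agent.ChevalleyStructure.CoxeterGeomTypes Cfsg.Agent.ChevalleyStructure.NPerm
open Cfsg.Agent.Tits.Roots Cfsg.Agent.Tits.Core Cfsg.Agent.Nodes Cfsg.Agent.Nodes.Reps Cfsg.Agent.Nodes.BNOf
  Cfsg.Agent.Nodes.RGDChev Cfsg.Agent.Nodes.Bruhat Cfsg.Agent.Nodes.SubComb Cfsg.Agent.Nodes.Coroot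
open Cfsg.Agent.KFacts.RgdField Cfsg.Agent.KFacts.RgdChevCoord Cfsg.Agent.BpExc.TorCent Cfsg.Agent.BpExc.TorChev
open Cfsg.Agent.GpExc.Field Cfsg.Agent.BpExc.Tow Cfsg.Agent.BpExc.TowChev Cfsg.Agent.BpExc.Fr
  Cfsg.Agent.BpExc.LangFr Cfsg.Agent.LangThm Cfsg.Agent.BpExc Cfsg.Agent.H129.TorusChar Cfsg.Agent.H129.TorusMain
open Cfsg.Agent.H795.SetCent Cfsg.Agent.H795.SetTor Cfsg.Agent.H720.TorusReal
open Cfsg.Agent.TitsThree.KExcRT
open Cfsg.Agent.H897.T5Frame (bc rc bf_eq)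
open Cfsg.Agent.H897.T5UntwRow (A8)
open Cfsg.Agent.BpExc.RowsUntw (e8T)
open Cfsg.Agent.BpExc.FamInst Cfsg.Agent.H129.TorusUntw
open Cfsg.Agent.H939.L64 (KK E2 em)
open Cfsg.Agent.H413.L64 (charKK locKK nsysKK vl cX_eq_zpow zpow_val pow_inj_val twist_fix)
open Cfsg.Agent.H413.L16 (cs8 act Good good_nn good_one exists_good vec_neg8 hA8 hFrm8 finW8 coords8 vec_act nn nr
  comm_xc phi_xc cast_unit)
open Cfsg.Agent.H201.L34 (V1 V2 w1 w2 ia gi gj gz LI LJ good_gi good_gj)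
open Cfsg.Agent.H150.E6T (commute_hom)

abbrev S3 : Type := Matrix.SpecialLinearGroup (Fin 3) KK

/-- the root `e_i - e_j` of the component `k` -/
def rk (k : Fin 4) (i j : Fin 3) : ℕ := ia k i j

/-- the signs of the root elements -/
def sg3 (k : Fin 4) : Fin 3 → Fin 3 → ℤ := fun _ _ => if k.val < 2 then 1 else -1

theorem tab_hom : ∀ k : Fin 4, RTa chevE8 (rk k) ∧ RTb chevE8 (rk k) (sg3 k) ∧ RTc chevE8 (rk k) ∧ RTd (sg3 k) ∧
    (∀ i j, sg3 k j i = sg3 k i j) ∧ ∀ i j, i ≠ j → rk k j i = chevE8.neg (rk k i j) := by decide +kernel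

theorem rk_lt {k : Fin 4} {i j : Fin 3} (h : i ≠ j) : rk k i j < 240 := by
  have := (tab_hom k).1 i j h
  rwa [nr] at this

theorem rk_root {k : Fin 4} {i j : Fin 3} (h : i ≠ j) : IsRoot cs8 e8T.isCartan (vec chevE8 8 (rk k i j)) :=
  root_vec (rk_lt h)

theorem exists_Pk (k : Fin 4) : ∃ φ : S3 →* ↥(chevE8.group KK), ∀ a b (hab : a ≠ b) c,
    φ (Matrix.SpecialLinearGroup.transvection hab c) = xc e8T (vec chevE8 8 (rk k a b)) c := by
  obtain ⟨h1, h2, h3, h4, h5, h6⟩ := tab_hom k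
  obtain ⟨φ, hφ⟩ := Cfsg.Agent.H194.Pw.exists_hom_S (K := KK) e8T h1 h2 h3 h4 h5 h6
  refine ⟨φ, fun a b hab c => ?_⟩
  rw [hφ]
  have : ((sg3 k a b : ℤ) : KK) = 1 := cast_unit (by
    unfold sg3
    split_ifs
    · exact Or.inl rfl
    · exact Or.inr rfl)
  rw [this, one_mul]

/-- **the component `k`** -/
noncomputable def Pk (k : Fin 4) : S3 →* ↥(chevE8.group KK) := (exists_Pk k).choose

theorem Pk_tv (k : Fin 4) {a b : Fin 3} (hab : a ≠ b) (c : KK) :
    Pk k (Matrix.SpecialLinearGroup.transvection hab c) = xc e8T (vec chevE8 8 (rk k a b)) c :=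
  (exists_Pk k).choose_spec a b hab c

theorem tab_orth : ∀ k l : Fin 4, k ≠ l → ∀ a b c d : Fin 3, a ≠ b → c ≠ d →
    bc A8 (vec chevE8 8 (rk k a b)) (vec chevE8 8 (rk l c d)) = 0 := by decide +kernel

theorem Pk_comm {k l : Fin 4} (h : k ≠ l) (A B : S3) : Commute (Pk k A) (Pk l B) := by
  refine commute_hom _ _ (fun a b hab c => (commute_hom _ _ (fun a' b' hab' d => ?_) B).symm) A
  rw [Pk_tv, Pk_tv]
  exact comm_xc (rk_root hab') (rk_root hab) (tab_orth l k h.symm _ _ _ _ hab' hab) _ _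

/-- **the homomorphism of `SL₃⁴`** -/
noncomputable def Psi : (Fin 4 → S3) →* ↥(chevE8.group KK) :=
  MonoidHom.noncommPiCoprod Pk fun _ _ h x y => Pk_comm h x y

theorem Psi_single (k : Fin 4) (A : S3) : Psi (Pi.mulSingle k A) = Pk k A :=
  MonoidHom.noncommPiCoprod_mulSingle _ _ _

/-- homomorphisms from `SL₃` -/
theorem hom_ext3 {Y : Type*} [Group Y] {f g : S3 →* Y}
    (h : ∀ a b (hab : a ≠ b) c, f (Matrix.SpecialLinearGroup.transvection hab c) =
      g (Matrix.SpecialLinearGroup.transvection hab c)) : f = g := by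
  have h1 : (⊤ : Subgroup S3) ≤ MonoidHom.eqLocus f g := by
    rw [← Cfsg.Agent.LieClassical.SLGen.closure_transvections, Subgroup.closure_le]
    rintro _ ⟨a, b, hab, c, rfl⟩
    exact h a b hab c
  exact MonoidHom.ext fun A => h1 (Subgroup.mem_top A)

/-- conjugation by `Psi` -/
theorem Psi_conj (B : Fin 4 → S3) (k : Fin 4) (A : S3) : Psi B * Pk k A * (Psi B)⁻¹ = Pk k (B k * A * (B k)⁻¹) := by
  rw [← Psi_single k A, ← Psi_single k, ← map_inv, ← map_mul, ← map_mul]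
  congr 1
  funext i
  by_cases h : i = k
  · subst h
    simp
  · simp [h]

/-! ### the inverse transpose and the Frobenius map -/

/-- `A ↦ A⁻ᵀ` -/
noncomputable def th : S3 →* S3 where
  toFun A := (A⁻¹).transpose
  map_one' := by
    apply Subtype.ext
    rw [inv_one]
    simp
  map_mul' A B := by
    apply Subtype.ext
    rw [_root_.mul_inv_rev]
    simp [Matrix.transpose_mul]

theorem th_coe (A : S3) : (th A).1 = (A⁻¹).1.transpose := rfl

theorem tv_coe {i j : Fin 3} (hij : i ≠ j) (c : KK) :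
    (Matrix.SpecialLinearGroup.transvection hij c : S3).1 = 1 + Matrix.single i j c := rfl

theorem tv_inv {i j : Fin 3} (hij : i ≠ j) (c : KK) :
    (Matrix.SpecialLinearGroup.transvection hij c : S3)⁻¹ = Matrix.SpecialLinearGroup.transvection hij c := by
  refine inv_eq_of_mul_eq_one_left (Subtype.ext ?_)
  have h0 : Matrix.single i j c * Matrix.single i j c = (0 : Matrix (Fin 3) (Fin 3) KK) := by
    simp [hij.symm]
  rw [Matrix.SpecialLinearGroup.coe_mul, tv_coe, mul_add, add_mul, one_mul, mul_one, Matrix.SpecialLinearGroup.coe_one,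
    add_mul, one_mul, h0, add_zero, add_assoc, ← Matrix.single_add]
  have : c + c = 0 := by rw [← two_mul, Cfsg.Agent.H876.L64.two_zero, zero_mul]
  rw [this, Matrix.single_zero, add_zero]

theorem th_tv {i j : Fin 3} (hij : i ≠ j) (c : KK) :
    th (Matrix.SpecialLinearGroup.transvection hij c) = Matrix.SpecialLinearGroup.transvection hij.symm c := by
  apply Subtype.ext
  rw [th_coe, tv_inv, tv_coe, tv_coe, Matrix.transpose_add, Matrix.transpose_one, Matrix.transpose_single]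

/-- the Frobenius map -/
noncomputable def frK : KK →+* KK := by
  haveI := charKK
  exact frobenius KK 2

theorem frK_apply (c : KK) : frK c = c ^ 2 := rfl

/-- the entrywise square -/
noncomputable def fm : S3 →* S3 := Matrix.SpecialLinearGroup.map frK

theorem fm_coe (A : S3) (i j : Fin 3) : (fm A).1 i j = A.1 i j ^ 2 := rfl

theorem fm_tv {i j : Fin 3} (hij : i ≠ j) (c : KK) :
    fm (Matrix.SpecialLinearGroup.transvection hij c) = Matrix.SpecialLinearGroup.transvection hij (c ^ 2) := by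
  apply Subtype.ext
  ext a b
  rw [fm_coe, tv_coe, tv_coe, Matrix.add_apply, Matrix.add_apply, Matrix.one_apply, Matrix.single_apply,
    Matrix.single_apply]
  split_ifs with h1 h2 h2
  · exact absurd (h2.1.trans (h1.trans h2.2.symm)) hij
  · rw [add_zero, one_pow]
  · rw [zero_add, zero_add]
  · rw [add_zero, zero_pow two_ne_zero]

/-! ### the actions -/

/-- the element `g` acts on the component `k` -/
theorem act_plus {w : CoxeterMatrix.E₈.Group} {g : ↥(chevE8.group KK)} (hg : Good w g) {k l : Fin 4}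
    (h : ∀ i j : Fin 3, i ≠ j → act w (vec chevE8 8 (rk k i j)) = vec chevE8 8 (rk l i j)) (A : S3) :
    g * Pk k A * g⁻¹ = Pk l A := by
  have h1 : (MulAut.conj g).toMonoidHom.comp (Pk k) = Pk l := by
    refine hom_ext3 fun a b hab c => ?_
    show g * Pk k _ * g⁻¹ = _
    rw [Pk_tv, Pk_tv, hg.conj _ (by rw [nr]; exact rk_lt hab), h a b hab]
  exact DFunLike.congr_fun h1 A

theorem act_minus {w : CoxeterMatrix.E₈.Group} {g : ↥(chevE8.group KK)} (hg : Good w g) {k l : Fin 4}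
    (h : ∀ i j : Fin 3, i ≠ j → act w (vec chevE8 8 (rk k i j)) = vec chevE8 8 (rk l j i)) (A : S3) :
    g * Pk k A * g⁻¹ = Pk l (th A) := by
  have h1 : (MulAut.conj g).toMonoidHom.comp (Pk k) = (Pk l).comp th := by
    refine hom_ext3 fun a b hab c => ?_
    show g * Pk k _ * g⁻¹ = Pk l (th _)
    rw [th_tv, Pk_tv, Pk_tv, hg.conj _ (by rw [nr]; exact rk_lt hab), h a b hab]
  exact DFunLike.congr_fun h1 A

private noncomputable def _root_.Cfsg.Agent.KO7551442.k0 : type_of% @Decidable.decide := @(fun x0 x1 => @Decidable.rec.{1} _ @(fun x2 => @Bool) @(fun x2 => @Bool.false) @(fun x2 => @Bool.true) @x1)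
private theorem _root_.Cfsg.Agent.KO7551442.e0 : @Decidable.decide = @_root_.Cfsg.Agent.KO7551442.k0 := by delta _root_.Cfsg.Agent.KO7551442.k0; rfl'
private noncomputable def _root_.Cfsg.Agent.KO7551442.k1l (n : Nat) (P : ∀ k, k < n → Prop) (H : ∀ k h, Decidable (P k h)) (m : Nat) : m ≤ n → Bool := @Nat.rec (fun m => m ≤ n → Bool) (fun _ => true) (fun k ih h => @Decidable.rec (P k h) (fun _ => Bool) (fun _ => false) (fun _ => ih (Nat.le_of_succ_le h)) (H k h)) m
private theorem _root_.Cfsg.Agent.KO7551442.k1ls (n : Nat) (P : ∀ k, k < n → Prop) (H : ∀ k h, Decidable (P k h)) (m : Nat) : ∀ h : m ≤ n, _root_.Cfsg.Agent.KO7551442.k1l n P H m h = true ↔ ∀ k (g : k < m), P k (Nat.lt_of_lt_of_le g h) := by induction m with | zero => exact fun _ => ⟨fun _ _ g => absurd g (Nat.not_lt_zero _), fun _ => rfl⟩ | succ m ih => intro h; show @Decidable.rec (P m h) (fun _ => Bool) (fun _ => false) (fun _ => _root_.Cfsg.Agent.KO7551442.k1l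 n P H m (Nat.le_of_succ_le h)) (H m h) = true ↔ _; cases H m h with | isFalse q => exact ⟨fun g => absurd g Bool.false_ne_true, fun g => absurd (g m (Nat.lt_succ_self m)) q⟩ | isTrue q => exact ⟨fun g k hk => (Nat.lt_succ_iff_lt_or_eq.1 hk).elim ((ih _).1 g k) fun e => by subst e; exact q, fun g => (ih _).2 fun k hk => g k (Nat.lt_succ_of_lt hk)⟩
private noncomputable def _root_.Cfsg.Agent.KO7551442.k1 (n : Nat) (P : ∀ k, k < n → Prop) (H : ∀ k h, Decidable (P k h)) : Decidable (∀ k h, P k h) := @Bool.rec (fun b => _root_.Cfsg.Agent.KO7551442.k1l n P H n (Nat.le_refl n) = b → Decidable (∀ k h, P k h)) (fun g => isFalse fun q => Bool.false_ne_true (g.symm.trans ((_root_.Cfsg.Agent.KO7551442.k1ls n P H n _).2 fun k h => q k h))) (fun g => isTrue fun k h => (_root_.Cfsg.Agent.KO7551442.k1ls n P H n _).1 g k h) (_root_.Cfsg.Agent.KO7551442.k1l n P H n (Nat.le_refl n)) rfl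
private theorem _root_.Cfsg.Agent.KO7551442.e1 : @Nat.decidableBallLT = @_root_.Cfsg.Agent.KO7551442.k1 := funext fun _ => funext fun _ => funext fun _ => Subsingleton.elim _ _
private noncomputable def _root_.Cfsg.Agent.KO7551442.k2 : type_of% @Nat.decidableForallFin := @(fun x0 x1 x2 => @Decidable.rec.{1} _ @(fun x3 => @Decidable ((x4 : @Fin @x0) → @x1 @x4)) @(fun x3 => @Decidable.isFalse _ (@decidable_of_decidable_of_iff._proof_1 _ _ (@Nat.decidableForallFin._proof_1 _ @x1) @x3)) @(fun x3 => @Decidable.isTrue _ (@Iff.mp _ _ (@Nat.decidableForallFin._proof_1 _ @x1) @x3)) (@Cfsg.Agent.KO7551442.k1 @x0 @(fun x3 x4 => @x1 (@Fin.mk _ @x3 @x4)) @(fun x3 x4 => @x2 (@Fin.mk _ @x3 @x4))))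
private theorem _root_.Cfsg.Agent.KO7551442.e2 : @Nat.decidableForallFin = @_root_.Cfsg.Agent.KO7551442.k2 := by delta _root_.Cfsg.Agent.KO7551442.k2; rewrite [← Cfsg.Agent.KO7551442.e1]; rfl'
private noncomputable def _root_.Cfsg.Agent.KO7551442.k3 : type_of% @instDecidableAnd := @(fun x0 x1 x2 x3 => @Decidable.rec.{1} _ @(fun x4 => @Decidable (@And @x0 @x1)) @(fun x4 => @Decidable.isFalse _ (@instDecidableAnd._proof_2 _ _ @x4)) @(fun x4 => @Decidable.rec.{1} _ @(fun x5 => @Decidable (@And @x0 @x1)) @(fun x5 => @Decidable.isFalse _ (@instDecidableAnd._proof_1 _ _ @x5)) @(fun x5 => @Decidable.isTrue _ (@And.intro _ _ @x4 @x5)) @x3) @x2)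
private theorem _root_.Cfsg.Agent.KO7551442.e3 : @instDecidableAnd = @_root_.Cfsg.Agent.KO7551442.k3 := by delta _root_.Cfsg.Agent.KO7551442.k3; rfl'
private noncomputable def _root_.Cfsg.Agent.KO7551442.k4 : type_of% @Bool.decEq := @(fun x0 x1 => @Bool.rec.{1} @(fun x2 => @Decidable (@Eq.{1} _ @x2 @x1)) (@Bool.rec.{1} @(fun x2 => @Decidable (@Eq.{1} _ @Bool.false @x2)) (@Decidable.isTrue _ (@rfl.{1} _ _)) (@Decidable.isFalse _ @(fun x2 => @Bool.noConfusion.{0} _ _ _ @x2)) @x1) (@Bool.rec.{1} @(fun x2 => @Decidable (@Eq.{1} _ @Bool.true @x2)) (@Decidable.isFalse _ @(fun x2 => @Bool.noConfusion.{0} _ _ _ @x2)) (@Decidable.isTrue _ (@rfl.{1} _ _)) @x1) @x0)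
private theorem _root_.Cfsg.Agent.KO7551442.e4 : @Bool.decEq = @_root_.Cfsg.Agent.KO7551442.k4 := by delta _root_.Cfsg.Agent.KO7551442.k4; rfl'
private noncomputable def _root_.Cfsg.Agent.KO7551442.k5 : type_of% @Nat.decLe := @(fun x0 x1 => @Decidable.rec.{1} _ @(fun x2 => @Decidable (@LE.le.{0} _ _ @x0 @x1)) @(fun x2 => @Decidable.isFalse _ (@Nat.not_le_of_not_ble_eq_true _ _ @x2)) @(fun x2 => @Decidable.isTrue _ (@Nat.le_of_ble_eq_true _ _ @x2)) (@Cfsg.Agent.KO7551442.k4 (@Nat.ble @x0 @x1) @Bool.true))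
private theorem _root_.Cfsg.Agent.KO7551442.e5 : @Nat.decLe = @_root_.Cfsg.Agent.KO7551442.k5 := by delta _root_.Cfsg.Agent.KO7551442.k5; rewrite [← Cfsg.Agent.KO7551442.e4]; rfl'
private noncomputable def _root_.Cfsg.Agent.KO7551442.k6 : type_of% @Nat.decEq := @(fun x0 x1 => @Bool.rec.{1} @(fun x2 => (@Eq.{1} _ (@Nat.beq @x0 @x1) @x2) → @Decidable (@Eq.{1} _ @x0 @x1)) @(fun x2 => @Decidable.isFalse _ (@Nat.ne_of_beq_eq_false _ _ @x2)) @(fun x2 => @Decidable.isTrue _ (@Nat.eq_of_beq_eq_true _ _ @x2)) (@Nat.beq @x0 @x1) (@Eq.refl.{1} _ (@Nat.beq @x0 @x1)))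
private theorem _root_.Cfsg.Agent.KO7551442.e6 : @Nat.decEq = @_root_.Cfsg.Agent.KO7551442.k6 := by delta _root_.Cfsg.Agent.KO7551442.k6; rfl'
private noncomputable def _root_.Cfsg.Agent.KO7551442.k7 : type_of% @instDecidableEqFin := @(fun x0 x1 x2 => @Decidable.rec.{1} _ @(fun x3 => @Decidable (@Eq.{1} _ @x1 @x2)) @(fun x3 => @Decidable.isFalse _ (@instDecidableEqFin._proof_1 @x0 @x1 @x2 @x3)) @(fun x3 => @Decidable.isTrue _ (@Fin.eq_of_val_eq _ _ _ @x3)) (@Cfsg.Agent.KO7551442.k6 (@Fin.val _ @x1) (@Fin.val _ @x2)))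
private theorem _root_.Cfsg.Agent.KO7551442.e7 : @instDecidableEqFin = @_root_.Cfsg.Agent.KO7551442.k7 := by delta _root_.Cfsg.Agent.KO7551442.k7; rewrite [← Cfsg.Agent.KO7551442.e6]; rfl'
private theorem _root_.Cfsg.Agent.KO7551442.e9.{ku, kv} {α : Type kv} {M : List α → Sort ku} (φ : ∀ l, M l) {z : M List.nil} {s : ∀ a l, M l → M (List.cons a l)} (h0 : φ List.nil = z) (hs : ∀ a l, φ (List.cons a l) = s a l (φ l)) (l : List α) : φ l = @List.rec α M z s l := List.rec h0 (fun a l ih => (hs a l).trans (congrArg (s a l) ih)) l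
private noncomputable def _root_.Cfsg.Agent.KO7551442.k11.{ku0} : type_of% @List.get?Internal.{ku0} := @(fun x0 x1 x2 => @List.rec.{(ku0+1), ku0} @x0 @(fun x3 => ℕ → @Option.{ku0} @x0) @(fun x3 => @Option.none.{ku0} _) @(fun x3 x4 x5 x6 => @Nat.rec.{(ku0+1)} @(fun x7 => @Option.{ku0} @x0) (@Option.some.{ku0} _ @x3) @(fun x7 x8 => @x5 @x7) @x6) @x1 @x2)
private theorem _root_.Cfsg.Agent.KO7551442.e11.{ku0} : @List.get?Internal.{ku0} = @_root_.Cfsg.Agent.KO7551442.k11.{ku0} := by delta _root_.Cfsg.Agent.KO7551442.k11; funext a0 a1 a2; refine (congrFun (_root_.Cfsg.Agent.KO7551442.e9 (fun a1 a2 => @List.get?Internal.{ku0} a0 a1 a2) ?_ (fun c0 c1 => ?_) a1) a2 :) <;> [(funext b0; (rfl')); (funext b0; (cases b0 with | @zero  => (rfl') | @succ b0_0 => (rfl')))]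
private noncomputable def _root_.Cfsg.Agent.KO7551442.k12 : (by first | exact type_of% @Cfsg.Agent.H201.L34.ia | exact Unit : Sort _) := by first | (refine @Subtype.val _ (fun g => @Cfsg.Agent.H201.L34.ia = @g) (@Subtype.mk _ _ (@(fun x0 x1 x2 => @Option.rec.{1, 0} ℕ @(fun x3 => ℕ) (nat_lit 240) @(fun x3 => @x3) (@Cfsg.Agent.KO7551442.k11.{0} _ @Cfsg.Agent.H201.L34.AT (@Nat.add (@Nat.add (@Nat.mul (nat_lit 9) @x0) (@Nat.mul (nat_lit 3) @x1)) @x2)))) ?_); rewrite [← Cfsg.Agent.KO7551442.e11.{0}]; (try delta Cfsg.Agent.H201.L34.ia); (try generalize @Cfsg.Agent.H201.L34.AT = g0); rfl') | exact @Cfsg.Agent.H201.L34.ia | exact ()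
private theorem _root_.Cfsg.Agent.KO7551442.e12 : (by first | exact @Cfsg.Agent.H201.L34.ia = @_root_.Cfsg.Agent.KO7551442.k12 | exact True : Prop) := by first | (delta _root_.Cfsg.Agent.KO7551442.k12; exact @Subtype.property _ (fun g => @Cfsg.Agent.H201.L34.ia = @g) _) | rfl | trivial
private noncomputable def _root_.Cfsg.Agent.KO7551442.k13 : (by first | exact type_of% @Cfsg.Agent.H5.L34.rk | exact Unit : Sort _) := by first | (refine @Subtype.val _ (fun g => @Cfsg.Agent.H5.L34.rk = @g) (@Subtype.mk _ _ (@(fun x0 x1 x2 => @Cfsg.Agent.KO7551442.k12 (@Fin.val _ @x0) (@Fin.val _ @x1) (@Fin.val _ @x2))) ?_); rewrite [← Cfsg.Agent.KO7551442.e12]; (try delta Cfsg.Agent.H5.L34.rk); (try generalize @Cfsg.Agent.H201.L34.ia = g0); rfl') | exact @Cfsg.Agent.H5.L34.rk | exact ()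
private theorem _root_.Cfsg.Agent.KO7551442.e13 : (by first | exact @Cfsg.Agent.H5.L34.rk = @_root_.Cfsg.Agent.KO7551442.k13 | exact True : Prop) := by first | (delta _root_.Cfsg.Agent.KO7551442.k13; exact @Subtype.property _ (fun g => @Cfsg.Agent.H5.L34.rk = @g) _) | rfl | trivial
private noncomputable def _root_.Cfsg.Agent.KO7551442.k16 : type_of% @Int.decEq := @(fun x0 x1 => @Int.rec.{1} @(fun x2 => @Decidable (@Eq.{1} _ @x2 @x1)) @(fun x2 => @Int.rec.{1} @(fun x3 => @Decidable (@Eq.{1} _ (@Int.ofNat @x2) @x3)) @(fun x3 => @Decidable.rec.{1} _ @(fun x4 => @Decidable (@Eq.{1} _ (@Int.ofNat @x2) (@Int.ofNat @x3))) @(fun x4 => @Decidable.isFalse _ (@Int.decEq._proof_2 @x2 @x3 @x4)) @(fun x4 => @Decidable.isTrue _ (@Int.decEq._proof_1 @x2 @x3 @x4)) (@Cfsg.Agent.KO7551442.k6 @x2 @x3)) @(fun x3 => @Decidable.isFalse _ (@Int.decEq._proof_3 @x2 @x3)) @x1) @(fun x2 => @Int.rec.{1} @(fun x3 => @Decidable (@Eq.{1} _ (@Int.negSucc @x2)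 @x3)) @(fun x3 => @Decidable.isFalse _ (@Int.decEq._proof_4 @x2 @x3)) @(fun x3 => @Decidable.rec.{1} _ @(fun x4 => @Decidable (@Eq.{1} _ (@Int.negSucc @x2) (@Int.negSucc @x3))) @(fun x4 => @Decidable.isFalse _ (@Int.decEq._proof_6 @x2 @x3 @x4)) @(fun x4 => @Decidable.isTrue _ (@Int.decEq._proof_5 @x2 @x3 @x4)) (@Cfsg.Agent.KO7551442.k6 @x2 @x3)) @x1) @x0)
private theorem _root_.Cfsg.Agent.KO7551442.e16 : @Int.decEq = @_root_.Cfsg.Agent.KO7551442.k16 := by delta _root_.Cfsg.Agent.KO7551442.k16; rewrite [← Cfsg.Agent.KO7551442.e6]; rfl'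
private noncomputable def _root_.Cfsg.Agent.KO7551442.k17 : type_of% @Int.mul := @(fun x0 x1 => @Int.rec.{1} @(fun x2 => ℤ) @(fun x2 => @Int.rec.{1} @(fun x3 => ℤ) @(fun x3 => @Int.ofNat (@Nat.mul @x2 @x3)) @(fun x3 => @Nat.rec.{1} @(fun x4 => ℤ) (@Int.ofNat (nat_lit 0)) @(fun x4 x5 => @Int.negSucc @x4) (@Nat.mul @x2 (@Nat.succ @x3))) @x1) @(fun x2 => @Int.rec.{1} @(fun x3 => ℤ) @(fun x3 => @Nat.rec.{1} @(fun x4 => ℤ) (@Int.ofNat (nat_lit 0)) @(fun x4 x5 => @Int.negSucc @x4) (@Nat.mul (@Nat.succ @x2) @x3)) @(fun x3 => @Int.ofNat (@Nat.mul (@Nat.succ @x2) (@Nat.succ @x3))) @x1) @x0)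
private theorem _root_.Cfsg.Agent.KO7551442.e17 : @Int.mul = @_root_.Cfsg.Agent.KO7551442.k17 := by delta _root_.Cfsg.Agent.KO7551442.k17; rfl'
private noncomputable def _root_.Cfsg.Agent.KO7551442.k19 : type_of% @Int.instDecidableEq := @Cfsg.Agent.KO7551442.k16
private theorem _root_.Cfsg.Agent.KO7551442.e19 : @Int.instDecidableEq = @_root_.Cfsg.Agent.KO7551442.k19 := by delta _root_.Cfsg.Agent.KO7551442.k19; rewrite [← Cfsg.Agent.KO7551442.e16]; rfl'
private noncomputable def _root_.Cfsg.Agent.KO7551442.k20 : type_of% @forall_prop_decidable := @(fun x0 x1 x2 x3 => @Decidable.rec.{1} _ @(fun x4 => @Decidable ((x5 : @x0) → @x1 @x5)) @(fun x4 => @Decidable.isTrue _ (@forall_prop_decidable._proof_2 _ @x1 @x4)) @(fun x4 => @Decidable.rec.{1} _ @(fun x5 => @Decidable ((x6 : @x0) → @x1 @x6)) @(fun x5 => @Decidable.isFalse _ (@decidable_of_decidable_of_iff._proof_1 _ _ (@forall_prop_decidable._proof_1 _ @x1 @x4) @x5)) @(fun x5 =>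 @Decidable.isTrue _ (@Iff.mp _ _ (@forall_prop_decidable._proof_1 _ @x1 @x4) @x5)) (@x3 @x4)) @x2)
private theorem _root_.Cfsg.Agent.KO7551442.e20 : @forall_prop_decidable = @_root_.Cfsg.Agent.KO7551442.k20 := by delta _root_.Cfsg.Agent.KO7551442.k20; rfl'
private noncomputable def _root_.Cfsg.Agent.KO7551442.k21 : type_of% @instDecidableNot := @(fun x0 x1 => @Decidable.rec.{1} _ @(fun x2 => @Decidable (¬ @x0)) @(fun x2 => @Decidable.isTrue _ @x2) @(fun x2 => @Decidable.isFalse _ (@absurd.{0} _ _ @x2)) @x1)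
private theorem _root_.Cfsg.Agent.KO7551442.e21 : @instDecidableNot = @_root_.Cfsg.Agent.KO7551442.k21 := by delta _root_.Cfsg.Agent.KO7551442.k21; rfl'
private noncomputable def _root_.Cfsg.Agent.KO7551442.k27.{ku0, ku1} : type_of% @List.foldr.{ku0, ku1} := @(fun x0 x1 x2 x3 x4 => @List.rec.{(ku1+1), ku0} @x0 @(fun x5 => @x1) @x3 @(fun x5 x6 x7 => @x2 @x5 @x7) @x4)
private theorem _root_.Cfsg.Agent.KO7551442.e27.{ku0, ku1} : @List.foldr.{ku0, ku1} = @_root_.Cfsg.Agent.KO7551442.k27.{ku0, ku1} := by delta _root_.Cfsg.Agent.KO7551442.k27; funext a0 a1 a2 a3 a4; refine (_root_.Cfsg.Agent.KO7551442.e9 (fun a4 => @List.foldr.{ku0, ku1} a0 a1 a2 a3 a4) ?_ (fun c0 c1 => ?_) a4 :) <;> (rfl')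
private noncomputable def _root_.Cfsg.Agent.KO7551442.k30.{ku0, ku1} : type_of% @List.map.{ku0, ku1} := @(fun x0 x1 x2 x3 => @List.rec.{(ku1+1), ku0} @x0 @(fun x4 => @List.{ku1} @x1) [] @(fun x4 x5 x6 => (@x2 @x4) :: @x6) @x3)
private theorem _root_.Cfsg.Agent.KO7551442.e30.{ku0, ku1} : @List.map.{ku0, ku1} = @_root_.Cfsg.Agent.KO7551442.k30.{ku0, ku1} := by delta _root_.Cfsg.Agent.KO7551442.k30; funext a0 a1 a2 a3; refine (_root_.Cfsg.Agent.KO7551442.e9 (fun a3 => @List.map.{ku0, ku1} a0 a1 a2 a3) ?_ (fun c0 c1 => ?_) a3 :) <;> (rfl')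
private noncomputable def _root_.Cfsg.Agent.KO7551442.k33 : (by first | exact type_of% @Cfsg.Agent.H897.T5Frame.bc | exact Unit : Sort _) := by first | (refine @Subtype.val _ (fun g => @Cfsg.Agent.H897.T5Frame.bc = @g) (@Subtype.mk _ _ (@(fun x0 x1 x2 x3 => @Multiset.sum.{0} _ @Int.instAddCommMonoid (@Quot.lift.{1, 1} _ _ _ @(fun x4 => @Quot.mk.{1} _ (@Setoid.r.{1} _ _) (@List.map.{0, 0} _ _ @(fun x5 => @Multiset.sum.{0} _ @Int.instAddCommMonoid (@Quot.lift.{1, 1} _ _ _ @(fun x6 => @Quot.mk.{1} _ (@Setoid.r.{1} _ _) (@List.map.{0, 0} _ _ @(fun x7 => @Int.mul (@Int.mul (@x2 @x5) (@x1 @x5 @x7)) (@x3 @x7)) @x6)) (@Multiset.map._proof_1.{0, 0} _ _ @(fun x6 => @HMul.hMul.{0, 0, 0} _ _ _ _ (@HMul.hMul.{0, 0, 0} _ _ _ _ (@x2 @x5) (@x1 @x5 @x6)) (@x3 @x6))) (@Quot.mk.{1} _ (@Setoid.r.{1} _ _) (@Fin.foldr.loop.{1} _ @x0 @(fun x6 x7 => @x6 :: @x7) @x0 (@Nat.le_refl @x0) [])))) @x4)) (@Multiset.map._proof_1.{0, 0} _ _ @(fun x4 => @Finset.sum.{0,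 0} _ _ _ (@Finset.univ.{0} _ _) @(fun x5 => @HMul.hMul.{0, 0, 0} _ _ _ _ (@HMul.hMul.{0, 0, 0} _ _ _ _ (@x2 @x4) (@x1 @x4 @x5)) (@x3 @x5)))) (@Quot.mk.{1} _ (@Setoid.r.{1} _ _) (@Fin.foldr.loop.{1} _ @x0 @(fun x4 x5 => @x4 :: @x5) @x0 (@Nat.le_refl @x0) []))))) ?_); rfl') | exact @Cfsg.Agent.H897.T5Frame.bc | exact ()
private theorem _root_.Cfsg.Agent.KO7551442.e33 : (by first | exact @Cfsg.Agent.H897.T5Frame.bc = @_root_.Cfsg.Agent.KO7551442.k33 | exact True : Prop) := by first | (delta _root_.Cfsg.Agent.KO7551442.k33; exact @Subtype.property _ (fun g => @Cfsg.Agent.H897.T5Frame.bc = @g) _) | rfl | trivial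
private noncomputable def _root_.Cfsg.Agent.KO7551442.k34 : type_of% @Int.add := @(fun x0 x1 => @Int.rec.{1} @(fun x2 => ℤ) @(fun x2 => @Int.rec.{1} @(fun x3 => ℤ) @(fun x3 => @Int.ofNat (@Nat.add @x2 @x3)) @(fun x3 => @Nat.rec.{1} @(fun x4 => ℤ) (@Int.ofNat (@Nat.sub @x2 (@Nat.succ @x3))) @(fun x4 x5 => @Int.negSucc @x4) (@Nat.sub (@Nat.succ @x3) @x2)) @x1) @(fun x2 => @Int.rec.{1} @(fun x3 => ℤ) @(fun x3 => @Nat.rec.{1} @(fun x4 => ℤ) (@Int.ofNat (@Nat.sub @x3 (@Nat.succ @x2))) @(fun x4 x5 => @Int.negSucc @x4) (@Nat.sub (@Nat.succ @x2) @x3)) @(fun x3 => @Int.negSucc (@Nat.succ (@Nat.add @x2 @x3))) @x1) @x0)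
private theorem _root_.Cfsg.Agent.KO7551442.e34 : @Int.add = @_root_.Cfsg.Agent.KO7551442.k34 := by delta _root_.Cfsg.Agent.KO7551442.k34; rfl'
private noncomputable def _root_.Cfsg.Agent.KO7551442.k35 : (by first | exact type_of% @Cfsg.Agent.ChevalleyStructure.RootVecTab.dig | exact Unit : Sort _) := by first | (refine @Subtype.val _ (fun g => @Cfsg.Agent.ChevalleyStructure.RootVecTab.dig = @g) (@Subtype.mk _ _ (@(fun x0 x1 => @Nat.mod (@Nat.shiftRight @x0 (@Nat.mul (nat_lit 6) @x1)) (nat_lit 64))) ?_); rfl') | exact @Cfsg.Agent.ChevalleyStructure.RootVecTab.dig | exact ()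
private theorem _root_.Cfsg.Agent.KO7551442.e35 : (by first | exact @Cfsg.Agent.ChevalleyStructure.RootVecTab.dig = @_root_.Cfsg.Agent.KO7551442.k35 | exact True : Prop) := by first | (delta _root_.Cfsg.Agent.KO7551442.k35; exact @Subtype.property _ (fun g => @Cfsg.Agent.ChevalleyStructure.RootVecTab.dig = @g) _) | rfl | trivial
private noncomputable def _root_.Cfsg.Agent.KO7551442.oEq.{ku} (α : Sort ku) (a b : Nat) (f t : α) : α := @Decidable.rec (a = b) (fun _ => α) (fun _ => f) (fun _ => t) (Nat.decEq a b)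
private noncomputable def _root_.Cfsg.Agent.KO7551442.k36.{ku} (α : Sort ku) (a b : Nat) (f t : α) : α := @Bool.rec (fun _ => α) f t (Nat.beq a b)
private theorem _root_.Cfsg.Agent.KO7551442.e36.{ku} : @_root_.Cfsg.Agent.KO7551442.oEq.{ku} = @_root_.Cfsg.Agent.KO7551442.k36.{ku} := funext fun α => funext fun a => funext fun b => funext fun f => funext fun t => by delta _root_.Cfsg.Agent.KO7551442.oEq _root_.Cfsg.Agent.KO7551442.k36; cases h : Nat.beq a b <;> cases Nat.decEq a b <;> rename_i g <;> first | rfl | exact absurd g (Nat.ne_of_beq_eq_false h) | exact absurd (Nat.eq_of_beq_eq_true h) g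
private noncomputable def _root_.Cfsg.Agent.KO7551442.k37 : (by first | exact type_of% @Cfsg.Agent.ChevalleyStructure.RootVecTab.packTab | exact Unit : Sort _) := by first | (refine @Subtype.val _ (fun g => @Cfsg.Agent.ChevalleyStructure.RootVecTab.packTab = @g) (@Subtype.mk _ _ (@(fun x0 => @Cfsg.Agent.KO7551442.k36.{1} ℕ (@Cfsg.Lie.ChevalleyDatum.nroots @x0) (nat_lit 12) (@Cfsg.Agent.KO7551442.k36.{1} ℕ (@Cfsg.Lie.ChevalleyDatum.nroots @x0) (nat_lit 8) (@Cfsg.Agent.KO7551442.k36.{1} ℕ (@Cfsg.Lie.ChevalleyDatum.nroots @x0) (nat_lit 24) (@Cfsg.Agent.KO7551442.k36.{1} ℕ (@Cfsg.Lie.ChevalleyDatum.nroots @x0) (nat_lit 48) (@Cfsg.Agent.KO7551442.k36.{1} ℕ (@Cfsg.Lie.ChevalleyDatum.nroots @x0) (nat_lit 72) (@Cfsg.Agent.KO7551442.k36.{1} ℕ (@Cfsg.Lie.ChevalleyDatum.nroots @x0) (nat_lit 126) @Cfsg.Agent.ChevalleyStructure.RootVecTab.packE8 @Cfsg.Agent.ChevalleyStructure.RootVecTab.packE7) @Cfsg.Agent.ChevalleyStructure.RootVecTab.packE6)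 @Cfsg.Agent.ChevalleyStructure.RootVecTab.packF4) @Cfsg.Agent.ChevalleyStructure.RootVecTab.packD4) @Cfsg.Agent.ChevalleyStructure.RootVecTab.packB2) @Cfsg.Agent.ChevalleyStructure.RootVecTab.packG2)) ?_); rewrite [← Cfsg.Agent.KO7551442.e36.{1}]; (try delta Cfsg.Agent.ChevalleyStructure.RootVecTab.packTab); (try generalize @Cfsg.Agent.ChevalleyStructure.RootVecTab.packE8 = g0); (try generalize @Cfsg.Agent.ChevalleyStructure.RootVecTab.packE7 = g1); (try generalize @Cfsg.Agent.ChevalleyStructure.RootVecTab.packE6 = g2); (try generalize @Cfsg.Agent.ChevalleyStructure.RootVecTab.packF4 = g3); (try generalize @Cfsg.Agent.ChevalleyStructure.RootVecTab.packD4 = g4); (try generalize @Cfsg.Agent.ChevalleyStructure.RootVecTab.packB2 = g5); (try generalize @Cfsg.Agent.ChevalleyStructure.RootVecTab.packG2 = g6); rfl') | exact @Cfsg.Agent.ChevalleyStructure.RootVecTab.packTab | exact ()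
private theorem _root_.Cfsg.Agent.KO7551442.e37 : (by first | exact @Cfsg.Agent.ChevalleyStructure.RootVecTab.packTab = @_root_.Cfsg.Agent.KO7551442.k37 | exact True : Prop) := by first | (delta _root_.Cfsg.Agent.KO7551442.k37; exact @Subtype.property _ (fun g => @Cfsg.Agent.ChevalleyStructure.RootVecTab.packTab = @g) _) | rfl | trivial
private noncomputable def _root_.Cfsg.Agent.KO7551442.k38 : (by first | exact type_of% @Cfsg.Agent.ChevalleyStructure.RootVecTab.code | exact Unit : Sort _) := by first | (refine @Subtype.val _ (fun g => @Cfsg.Agent.ChevalleyStructure.RootVecTab.code = @g) (@Subtype.mk _ _ (@(fun x0 x1 => @Nat.mod (@Nat.shiftRight (@Cfsg.Agent.KO7551442.k37 @x0) (@Nat.mul (@Nat.mul (nat_lit 6) (@Cfsg.Lie.ChevalleyDatum.rank @x0)) @x1)) (@Nat.pow (nat_lit 2) (@Nat.mul (nat_lit 6) (@Cfsg.Lie.ChevalleyDatum.rank @x0))))) ?_); rewrite [← Cfsg.Agent.KO7551442.e37]; (try delta Cfsg.Agent.ChevalleyStructure.RootVecTab.code);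 (try generalize @Cfsg.Agent.ChevalleyStructure.RootVecTab.packTab = g0); rfl') | exact @Cfsg.Agent.ChevalleyStructure.RootVecTab.code | exact ()
private theorem _root_.Cfsg.Agent.KO7551442.e38 : (by first | exact @Cfsg.Agent.ChevalleyStructure.RootVecTab.code = @_root_.Cfsg.Agent.KO7551442.k38 | exact True : Prop) := by first | (delta _root_.Cfsg.Agent.KO7551442.k38; exact @Subtype.property _ (fun g => @Cfsg.Agent.ChevalleyStructure.RootVecTab.code = @g) _) | rfl | trivial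
private noncomputable def _root_.Cfsg.Agent.KO7551442.k39 : (by first | exact type_of% @Cfsg.Agent.ChevalleyStructure.RootVec.rt | exact Unit : Sort _) := by first | (refine @Subtype.val _ (fun g => @Cfsg.Agent.ChevalleyStructure.RootVec.rt = @g) (@Subtype.mk _ _ (@(fun x0 x1 x2 => @Decidable.rec.{1} _ @(fun x3 => ℤ) @(fun x3 => @Int.ofNat (nat_lit 0)) @(fun x3 => @Cfsg.Agent.KO7551442.k34 (@Int.ofNat (@Cfsg.Agent.KO7551442.k35 (@Cfsg.Agent.KO7551442.k38 @x0 @x1) (@Nat.sub (@Nat.sub (@Cfsg.Lie.ChevalleyDatum.rank @x0) (nat_lit 1)) @x2))) (@Nat.rec.{1} @(fun x4 => ℤ) (@Int.ofNat (nat_lit 0)) @(fun x4 x5 => @Int.negSucc @x4) (nat_lit 8))) (@Cfsg.Agent.KO7551442.k3 _ _ (@Cfsg.Agent.KO7551442.k5 (@Nat.succ @x1) (@Cfsg.Lie.ChevalleyDatum.nroots @x0)) (@Cfsg.Agent.KO7551442.k5 (@Nat.succ @x2) (@Cfsg.Lie.ChevalleyDatum.rank @x0))))) ?_); rewrite [← Cfsg.Agent.KO7551442.e5, ← Cfsg.Agent.KO7551442.e3, ← Cfsg.Agent.KO7551442.e38, ← Cfsg.Agent.KO7551442.e35,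 ← Cfsg.Agent.KO7551442.e34]; (try delta Cfsg.Agent.ChevalleyStructure.RootVec.rt); (try generalize @Cfsg.Agent.ChevalleyStructure.RootVecTab.dig = g0); (try generalize @Cfsg.Agent.ChevalleyStructure.RootVecTab.code = g1); rfl') | exact @Cfsg.Agent.ChevalleyStructure.RootVec.rt | exact ()
private theorem _root_.Cfsg.Agent.KO7551442.e39 : (by first | exact @Cfsg.Agent.ChevalleyStructure.RootVec.rt = @_root_.Cfsg.Agent.KO7551442.k39 | exact True : Prop) := by first | (delta _root_.Cfsg.Agent.KO7551442.k39; exact @Subtype.property _ (fun g => @Cfsg.Agent.ChevalleyStructure.RootVec.rt = @g) _) | rfl | trivial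
private noncomputable def _root_.Cfsg.Agent.KO7551442.k40 : (by first | exact type_of% @Cfsg.Agent.Nodes.RGDChev.vec | exact Unit : Sort _) := by first | (refine @Subtype.val _ (fun g => @Cfsg.Agent.Nodes.RGDChev.vec = @g) (@Subtype.mk _ _ (@(fun x0 x1 x2 x3 => @Cfsg.Agent.KO7551442.k39 @x0 @x2 (@Fin.val _ @x3))) ?_); rewrite [← Cfsg.Agent.KO7551442.e39]; (try delta Cfsg.Agent.Nodes.RGDChev.vec); (try generalize @Cfsg.Agent.ChevalleyStructure.RootVec.rt = g0); rfl') | exact @Cfsg.Agent.Nodes.RGDChev.vec | exact ()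
private theorem _root_.Cfsg.Agent.KO7551442.e40 : (by first | exact @Cfsg.Agent.Nodes.RGDChev.vec = @_root_.Cfsg.Agent.KO7551442.k40 | exact True : Prop) := by first | (delta _root_.Cfsg.Agent.KO7551442.k40; exact @Subtype.property _ (fun g => @Cfsg.Agent.Nodes.RGDChev.vec = @g) _) | rfl | trivial
private noncomputable def _root_.Cfsg.Agent.KO7551442.k41.{ku0, ku1} : type_of% @Quot.rec.{ku0, ku1} := @(fun x0 x1 x2 x3 x4 x5 => @Eq.rec.{ku1, ku0} (@Quot.{ku0} _ @x1) (@PSigma.fst.{ku0, ku1} _ _ (@Quot.lift.{ku0, (max (max 1 ku1) ku0)} _ _ _ (@Quot.indep.{ku0, ku1} _ _ _ @x3) (@Quot.indepCoherent.{ku0, ku1} _ _ _ @x3 @x4) @x5)) @(fun x6 x7 => @x2 @x6) (@PSigma.snd.{ku0, ku1} _ _ (@Quot.lift.{ku0, (max (max 1 ku1) ku0)} _ _ _ (@Quot.indep.{ku0, ku1} _ _ _ @x3) (@Quot.indepCoherent.{ku0, ku1} _ _ _ @x3 @x4) @x5)) @x5 (@Quot.liftIndepPr1.{ku0, ku1} _ _ _ @x3 @x4 @x5))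
private theorem _root_.Cfsg.Agent.KO7551442.e41.{ku0, ku1} : @Quot.rec.{ku0, ku1} = @_root_.Cfsg.Agent.KO7551442.k41.{ku0, ku1} := by delta _root_.Cfsg.Agent.KO7551442.k41; rfl'
private noncomputable def _root_.Cfsg.Agent.KO7551442.k42.{ku0, ku1} : type_of% @Quot.recOnSubsingleton.{ku0, ku1} := @(fun x0 x1 x2 x3 x4 x5 => @Cfsg.Agent.KO7551442.k41.{ku0, ku1} _ _ @(fun x6 => @x2 @x6) @(fun x6 => @x5 @x6) (@Quot.recOnSubsingleton._proof_1.{ku1, ku0} _ _ _ _ @x5) @x4)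
private theorem _root_.Cfsg.Agent.KO7551442.e42.{ku0, ku1} : @Quot.recOnSubsingleton.{ku0, ku1} = @_root_.Cfsg.Agent.KO7551442.k42.{ku0, ku1} := by delta _root_.Cfsg.Agent.KO7551442.k42; rewrite [← Cfsg.Agent.KO7551442.e41.{ku0, ku1}]; rfl'
private noncomputable def _root_.Cfsg.Agent.KO7551442.k43.{ku0} : type_of% @List.decidableBAll.{ku0} := @(fun x0 x1 x2 x3 => @List.rec.{1, ku0} @x0 @(fun x4 => @Decidable ((x5 : @x0) → (@Membership.mem.{ku0, ku0} _ _ _ @x4 @x5) → @x1 @x5)) (@Decidable.isTrue _ (@List.decidableBAll._proof_1.{ku0} _ @x1)) @(fun x4 x5 x6 => @Decidable.rec.{1} _ @(fun x7 => @Decidable ((x8 : @x0) → (@Membership.mem.{ku0, ku0} _ _ _ (@x4 :: @x5) @x8) → @x1 @x8)) @(fun x7 => @Decidable.isFalse _ (@List.decidableBAll._proof_4.{ku0} _ @x1 @x4 @x5 @x7)) @(fun x7 => @Decidable.rec.{1} _ @(fun x8 => @Decidable ((x9 : @x0) → (@Membership.mem.{ku0, ku0} _ _ _ (@x4 :: @x5) @x9) → @x1 @x9)) @(fun x8 => @Decidable.isFalse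 _ (@List.decidableBAll._proof_3.{ku0} _ @x1 @x4 @x5 @x8)) @(fun x8 => @Decidable.isTrue _ (@List.decidableBAll._proof_2.{ku0} _ @x1 @x4 @x5 @x7 @x8)) @x6) (@x2 @x4)) @x3)
private theorem _root_.Cfsg.Agent.KO7551442.e43.{ku0} : @List.decidableBAll.{ku0} = @_root_.Cfsg.Agent.KO7551442.k43.{ku0} := by delta _root_.Cfsg.Agent.KO7551442.k43; funext a0 a1 a2 a3; refine (_root_.Cfsg.Agent.KO7551442.e9 (fun a3 => @List.decidableBAll.{ku0} a0 a1 a2 a3) ?_ (fun c0 c1 => ?_) a3 :) <;> (rfl')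
private noncomputable def _root_.Cfsg.Agent.KO7551442.k44.{ku0} : type_of% @Multiset.decidableForallMultiset.{ku0} := @(fun (x0 : Sort (ku0+1)) (x1 : @Multiset.{ku0} @x0) (x2 : (x0 → Prop)) (x3 : ((x3 : x0) → @Decidable (@x2 @x3))) => @Cfsg.Agent.KO7551442.k42.{(ku0+1), 1} (@List.{ku0} @x0) (@Setoid.r.{(ku0+1)} (@List.{ku0} @x0) (@List.isSetoid.{ku0} @x0)) @(fun (x4 : @Quotient.{(ku0+1)} (@List.{ku0} @x0) (@List.isSetoid.{ku0} @x0)) => @Decidable ((x5 : x0) → ((@Membership.mem.{ku0, ku0} @x0 (@Multiset.{ku0} @x0) (@Multiset.instMembership.{ku0} @x0) @x4 @x5) → @x2 @x5))) (@Multiset.decidableForallMultiset._proof_2.{ku0} @x0 @x2) @x1 @(fun (x4 : @List.{ku0} @x0) => @Decidable.rec.{1} ((x5 : x0) → ((@Membership.mem.{ku0, ku0} @x0 (@List.{ku0} @x0) (@List.instMembership.{ku0} @x0) @x4 @x5) → @x2 @x5)) @(fun (x5 : @Decidable ((x5 : x0) → ((@Membership.mem.{ku0, ku0} @x0 (@List.{ku0} @x0) (@List.instMembership.{ku0} @x0) @x4 @x5)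 → @x2 @x5))) => @Decidable ((x6 : x0) → ((@Membership.mem.{ku0, ku0} @x0 (@Multiset.{ku0} @x0) (@Multiset.instMembership.{ku0} @x0) (@Quotient.mk.{(ku0+1)} (@List.{ku0} @x0) (@List.isSetoid.{ku0} @x0) @x4) @x6) → @x2 @x6))) @(fun (x5 : @Not ((x5 : x0) → ((@Membership.mem.{ku0, ku0} @x0 (@List.{ku0} @x0) (@List.instMembership.{ku0} @x0) @x4 @x5) → @x2 @x5))) => @Decidable.isFalse ((x6 : x0) → ((@Membership.mem.{ku0, ku0} @x0 (@Multiset.{ku0} @x0) (@Multiset.instMembership.{ku0} @x0) (@Quotient.mk.{(ku0+1)} (@List.{ku0} @x0) (@List.isSetoid.{ku0} @x0) @x4) @x6) → @x2 @x6)) (@decidable_of_decidable_of_iff._proof_1 ((x6 : x0) → ((@Membership.mem.{ku0, ku0} @x0 (@List.{ku0} @x0) (@List.instMembership.{ku0} @x0) @x4 @x6) → @x2 @x6)) ((x6 : x0) → ((@Membership.mem.{ku0, ku0} @x0 (@Multiset.{ku0} @x0) (@Multiset.instMembership.{ku0} @x0) (@Quotient.mk.{(ku0+1)} (@List.{ku0} @x0) (@List.isSetoid.{ku0} @x0) @x4) @x6) → @x2 @x6)) (@Multiset.decidableForallMultiset._proof_1.{ku0}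 @x0 @x2 @x4) @x5)) @(fun (x5 : ((x5 : x0) → ((@Membership.mem.{ku0, ku0} @x0 (@List.{ku0} @x0) (@List.instMembership.{ku0} @x0) @x4 @x5) → @x2 @x5))) => @Decidable.isTrue ((x6 : x0) → ((@Membership.mem.{ku0, ku0} @x0 (@Multiset.{ku0} @x0) (@Multiset.instMembership.{ku0} @x0) (@Quotient.mk.{(ku0+1)} (@List.{ku0} @x0) (@List.isSetoid.{ku0} @x0) @x4) @x6) → @x2 @x6)) (@Iff.mp ((x6 : x0) → ((@Membership.mem.{ku0, ku0} @x0 (@List.{ku0} @x0) (@List.instMembership.{ku0} @x0) @x4 @x6) → @x2 @x6)) ((x6 : x0) → ((@Membership.mem.{ku0, ku0} @x0 (@Multiset.{ku0} @x0) (@Multiset.instMembership.{ku0} @x0) (@Quotient.mk.{(ku0+1)} (@List.{ku0} @x0) (@List.isSetoid.{ku0} @x0) @x4) @x6) → @x2 @x6)) (@Multiset.decidableForallMultiset._proof_1.{ku0} @x0 @x2 @x4) @x5)) (@Cfsg.Agent.KO7551442.k43.{ku0} @x0 @x2 @x3 @x4)))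
private theorem _root_.Cfsg.Agent.KO7551442.e44.{ku0} : @Multiset.decidableForallMultiset.{ku0} = @_root_.Cfsg.Agent.KO7551442.k44.{ku0} := by delta _root_.Cfsg.Agent.KO7551442.k44; rewrite [← Cfsg.Agent.KO7551442.e43.{ku0}, ← Cfsg.Agent.KO7551442.e42.{(ku0+1), 1}]; rfl'
private noncomputable def _root_.Cfsg.Agent.KO7551442.k48.{ku0} : type_of% @Multiset.decidableDforallMultiset.{ku0} := @(fun x0 x1 x2 x3 => @Decidable.rec.{1} _ @(fun x4 => @Decidable ((x5 : @x0) → (x6 : @Membership.mem.{ku0, ku0} _ _ _ @x1 @x5) → @x2 @x5 @x6)) @(fun x4 => @Decidable.isFalse _ (@decidable_of_decidable_of_iff._proof_1 _ _ (@Multiset.decidableDforallMultiset._proof_2.{ku0} _ _ _) @x4)) @(fun x4 => @Decidable.isTrue _ (@Iff.mp _ _ (@Multiset.decidableDforallMultiset._proof_2.{ku0} _ _ _) @x4)) (@Cfsg.Agent.KO7551442.k44.{ku0} _ _ @(fun x4 => @x2 (@Subtype.val.{(ku0+1)} _ @(fun x5 => @Membership.mem.{ku0, ku0} _ _ _ @x1 @x5) @x4) (@Multiset.decidableDforallMultiset._proof_1.{ku0}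 _ _ @x4)) @(fun x4 => @x3 (@Subtype.val.{(ku0+1)} _ @(fun x5 => @Membership.mem.{ku0, ku0} _ _ _ @x1 @x5) @x4) (@Multiset.decidableDforallMultiset._proof_1.{ku0} _ _ @x4))))
private theorem _root_.Cfsg.Agent.KO7551442.e48.{ku0} : @Multiset.decidableDforallMultiset.{ku0} = @_root_.Cfsg.Agent.KO7551442.k48.{ku0} := by delta _root_.Cfsg.Agent.KO7551442.k48; rewrite [← Cfsg.Agent.KO7551442.e44.{ku0}]; rfl'
private noncomputable def _root_.Cfsg.Agent.KO7551442.k49.{ku0} : type_of% @Finset.decidableDforallFinset.{ku0} := @(fun x0 x1 x2 x3 => @Cfsg.Agent.KO7551442.k48.{ku0} _ _ _ @x3)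
private theorem _root_.Cfsg.Agent.KO7551442.e49.{ku0} : @Finset.decidableDforallFinset.{ku0} = @_root_.Cfsg.Agent.KO7551442.k49.{ku0} := by delta _root_.Cfsg.Agent.KO7551442.k49; rewrite [← Cfsg.Agent.KO7551442.e48.{ku0}]; rfl'
private noncomputable def _root_.Cfsg.Agent.KO7551442.k50.{ku0, ku1} : type_of% @Fintype.decidablePiFintype.{ku0, ku1} := @(fun x0 x1 x2 x3 x4 x5 => @Decidable.rec.{1} _ @(fun x6 => @Decidable (@Eq.{(max (ku0+1) (ku1+1))} _ @x4 @x5)) @(fun x6 => @Decidable.isFalse _ (@decidable_of_decidable_of_iff._proof_1 _ _ (@Fintype.decidablePiFintype._proof_2.{ku1, ku0} _ _ _ @x4 @x5) @x6)) @(fun x6 => @Decidable.isTrue _ (@Iff.mp _ _ (@Fintype.decidablePiFintype._proof_2.{ku1, ku0} _ _ _ @x4 @x5) @x6)) (@Cfsg.Agent.KO7551442.k49.{ku1} _ _ @(fun x6 x7 => @Eq.{(ku0+1)} _ (@x4 @x6) (@x5 @x6)) @(fun x6 x7 => @x2 @x6 (@x4 @x6) (@x5 @x6))))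
private theorem _root_.Cfsg.Agent.KO7551442.e50.{ku0, ku1} : @Fintype.decidablePiFintype.{ku0, ku1} = @_root_.Cfsg.Agent.KO7551442.k50.{ku0, ku1} := by delta _root_.Cfsg.Agent.KO7551442.k50; rewrite [← Cfsg.Agent.KO7551442.e49.{ku1}]; rfl'
private noncomputable def _root_.Cfsg.Agent.KO7551442.k51 : (by first | exact type_of% @Cfsg.Agent.H897.T5Frame.rc | exact Unit : Sort _) := by first | (refine @Subtype.val _ (fun g => @Cfsg.Agent.H897.T5Frame.rc = @g) (@Subtype.mk _ _ (@(fun x0 x1 x2 x3 x4 => @Cfsg.Agent.KO7551442.k34 (@x3 @x4) (@Int.rec.{1} @(fun x5 => ℤ) @(fun x5 => @Nat.rec.{1} @(fun x6 => ℤ) (@Int.ofNat (nat_lit 0)) @(fun x6 x7 => @Int.negSucc @x6) @x5) @(fun x5 => @Int.ofNat (@Nat.succ @x5)) (@Cfsg.Agent.KO7551442.k17 (@Cfsg.Agent.KO7551442.k33 _ @x1 @x3 @x2) (@x2 @x4))))) ?_); rewrite [← Cfsg.Agent.KO7551442.e33, ← Cfsg.Agent.KO7551442.e17, ← Cfsg.Agent.KO7551442.e34]; (try delta Cfsg.Agent.H897.T5Frame.rc); (try generalize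 @Cfsg.Agent.H897.T5Frame.bc = g0); rfl') | exact @Cfsg.Agent.H897.T5Frame.rc | exact ()
private theorem _root_.Cfsg.Agent.KO7551442.e51 : (by first | exact @Cfsg.Agent.H897.T5Frame.rc = @_root_.Cfsg.Agent.KO7551442.k51 | exact True : Prop) := by first | (delta _root_.Cfsg.Agent.KO7551442.k51; exact @Subtype.property _ (fun g => @Cfsg.Agent.H897.T5Frame.rc = @g) _) | rfl | trivial

theorem tab_LI : ∀ i j : Fin 3, i ≠ j →
    (LI.map fun r => vec chevE8 8 r).foldr (rc A8) (vec chevE8 8 (rk 0 i j)) = vec chevE8 8 (rk 1 i j) ∧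
    (LI.map fun r => vec chevE8 8 r).foldr (rc A8) (vec chevE8 8 (rk 1 i j)) = vec chevE8 8 (rk 0 j i) ∧
    (LI.map fun r => vec chevE8 8 r).foldr (rc A8) (vec chevE8 8 (rk 2 i j)) = vec chevE8 8 (rk 3 j i) ∧
    (LI.map fun r => vec chevE8 8 r).foldr (rc A8) (vec chevE8 8 (rk 3 i j)) = vec chevE8 8 (rk 2 i j) := by
  (first | (refine of_decide_eq_true ?_; rewrite [Cfsg.Agent.KO7551442.e0, Cfsg.Agent.KO7551442.e2, Cfsg.Agent.KO7551442.e20, Cfsg.Agent.KO7551442.e21, Cfsg.Agent.KO7551442.e7, Cfsg.Agent.KO7551442.e3, Cfsg.Agent.KO7551442.e50.{0, 0}, Cfsg.Agent.KO7551442.e19, Cfsg.Agent.KO7551442.e27.{0, 0}, Cfsg.Agent.KO7551442.e51, Cfsg.Agent.KO7551442.e40, Cfsg.Agent.KO7551442.e13, Cfsg.Agent.KO7551442.e30.{0, 0}]; decide +kernel) | decide +kernel)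

theorem tab_LJ : ∀ i j : Fin 3, i ≠ j →
    (LJ.map fun r => vec chevE8 8 r).foldr (rc A8) (vec chevE8 8 (rk 0 i j)) = vec chevE8 8 (rk 2 i j) ∧
    (LJ.map fun r => vec chevE8 8 r).foldr (rc A8) (vec chevE8 8 (rk 1 i j)) = vec chevE8 8 (rk 3 i j) ∧
    (LJ.map fun r => vec chevE8 8 r).foldr (rc A8) (vec chevE8 8 (rk 2 i j)) = vec chevE8 8 (rk 0 j i) ∧
    (LJ.map fun r => vec chevE8 8 r).foldr (rc A8) (vec chevE8 8 (rk 3 i j)) = vec chevE8 8 (rk 1 j i) := by
  (first | (refine of_decide_eq_true ?_; rewrite [Cfsg.Agent.KO7551442.e0, Cfsg.Agent.KO7551442.e2, Cfsg.Agent.KO7551442.e20, Cfsg.Agent.KO7551442.e21, Cfsg.Agent.KO7551442.e7, Cfsg.Agent.KO7551442.e3, Cfsg.Agent.KO7551442.e50.{0, 0}, Cfsg.Agent.KO7551442.e19, Cfsg.Agent.KO7551442.e27.{0, 0}, Cfsg.Agent.KO7551442.e51, Cfsg.Agent.KO7551442.e40, Cfsg.Agent.KO7551442.e13, Cfsg.Agent.KO7551442.e30.{0, 0}]; decide +kernel) | decide +kernel)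

theorem gi_Pk (A : S3) : gi * Pk 0 A * gi⁻¹ = Pk 1 A ∧ gi * Pk 1 A * gi⁻¹ = Pk 0 (th A) ∧
    gi * Pk 2 A * gi⁻¹ = Pk 3 (th A) ∧ gi * Pk 3 A * gi⁻¹ = Pk 2 A := by
  obtain ⟨w, hw, hL⟩ := good_gi
  refine ⟨act_plus hw (fun i j h => ?_) A, act_minus hw (fun i j h => ?_) A, act_minus hw (fun i j h => ?_) A,
    act_plus hw (fun i j h => ?_) A⟩
  · rw [hL]; exact (tab_LI i j h).1
  · rw [hL]; exact (tab_LI i j h).2.1
  · rw [hL]; exact (tab_LI i j h).2.2.1
  · rw [hL]; exact (tab_LI i j h).2.2.2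

theorem gj_Pk (A : S3) : gj * Pk 0 A * gj⁻¹ = Pk 2 A ∧ gj * Pk 1 A * gj⁻¹ = Pk 3 A ∧
    gj * Pk 2 A * gj⁻¹ = Pk 0 (th A) ∧ gj * Pk 3 A * gj⁻¹ = Pk 1 (th A) := by
  obtain ⟨w, hw, hL⟩ := good_gj
  refine ⟨act_plus hw (fun i j h => ?_) A, act_plus hw (fun i j h => ?_) A, act_minus hw (fun i j h => ?_) A,
    act_minus hw (fun i j h => ?_) A⟩
  · rw [hL]; exact (tab_LJ i j h).1
  · rw [hL]; exact (tab_LJ i j h).2.1
  · rw [hL]; exact (tab_LJ i j h).2.2.1
  · rw [hL]; exact (tab_LJ i j h).2.2.2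

theorem conj_Psi {g : ↥(chevE8.group KK)} {I : (Fin 4 → S3) →* (Fin 4 → S3)}
    (h : ∀ k A, g * Pk k A * g⁻¹ = Psi (I (Pi.mulSingle k A))) (B : Fin 4 → S3) : g * Psi B * g⁻¹ = Psi (I B) := by
  have h1 : (MulAut.conj g).toMonoidHom.comp Psi = Psi.comp I := by
    refine MonoidHom.pi_ext fun k A => ?_
    have h2 := h k A
    rw [← Psi_single] at h2
    exact h2
  exact DFunLike.congr_fun h1 B

theorem gi_Psi (B : Fin 4 → S3) : gi * Psi B * gi⁻¹ = Psi ![th (B 1), B 0, B 3, th (B 2)] := by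
  let I : (Fin 4 → S3) →* (Fin 4 → S3) := MonoidHom.mk' (fun B => ![th (B 1), B 0, B 3, th (B 2)]) (by
    intro B C
    funext i
    fin_cases i
    · exact map_mul th _ _
    · rfl
    · rfl
    · exact map_mul th _ _)
  refine conj_Psi (g := gi) (I := I) (fun k A => ?_) B
  obtain ⟨h0, h1, h2, h3⟩ := gi_Pk A
  fin_cases k
  · refine h0.trans ?_
    rw [← Psi_single]
    congr 1
    funext i
    fin_cases i <;> simp [I]
  · refine h1.trans ?_
    rw [← Psi_single]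
    congr 1
    funext i
    fin_cases i <;> simp [I]
  · refine h2.trans ?_
    rw [← Psi_single]
    congr 1
    funext i
    fin_cases i <;> simp [I]
  · refine h3.trans ?_
    rw [← Psi_single]
    congr 1
    funext i
    fin_cases i <;> simp [I]

theorem gj_Psi (B : Fin 4 → S3) : gj * Psi B * gj⁻¹ = Psi ![th (B 2), th (B 3), B 0, B 1] := by
  let I : (Fin 4 → S3) →* (Fin 4 → S3) := MonoidHom.mk' (fun B => ![th (B 2), th (B 3), B 0, B 1]) (by
    intro B C
    funext i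
    fin_cases i
    · exact map_mul th _ _
    · exact map_mul th _ _
    · rfl
    · rfl)
  refine conj_Psi (g := gj) (I := I) (fun k A => ?_) B
  obtain ⟨h0, h1, h2, h3⟩ := gj_Pk A
  fin_cases k
  · refine h0.trans ?_
    rw [← Psi_single]
    congr 1
    funext i
    fin_cases i <;> simp [I]
  · refine h1.trans ?_
    rw [← Psi_single]
    congr 1
    funext i
    fin_cases i <;> simp [I]
  · refine h2.trans ?_
    rw [← Psi_single]
    congr 1
    funext i
    fin_cases i <;> simp [I]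
  · refine h3.trans ?_
    rw [← Psi_single]
    congr 1
    funext i
    fin_cases i <;> simp [I]

theorem gz_Psi (B : Fin 4 → S3) : gz * Psi B * gz⁻¹ = Psi fun k => th (B k) := by
  have h : gz * Psi B * gz⁻¹ = gi * (gi * Psi B * gi⁻¹) * gi⁻¹ := by
    unfold gz
    group
  rw [h, gi_Psi, gi_Psi]
  congr 1
  funext i
  fin_cases i <;> simp

theorem phi_Pk (k : Fin 4) (A : S3) : phi chevE8 KK 2 1 (Pk k A) = Pk k (fm A) := by
  have h2 : (phi chevE8 KK 2 1).toMonoidHom.comp (Pk k) = (Pk k).comp fm := by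
    refine hom_ext3 fun a b hab c => ?_
    show phi chevE8 KK 2 1 (Pk k _) = Pk k (fm _)
    rw [fm_tv, Pk_tv, Pk_tv, phi_xc]
  exact DFunLike.congr_fun h2 A

/-- `fm` on tuples -/
noncomputable def fm4 : (Fin 4 → S3) →* (Fin 4 → S3) := MonoidHom.mk' (fun B k => fm (B k)) (by
    intro B C
    funext i
    exact map_mul fm _ _)

theorem fm4_single (k : Fin 4) (A : S3) : fm4 (Pi.mulSingle k A) = Pi.mulSingle k (fm A) := by
  funext i
  show fm (Pi.mulSingle (M := fun _ => S3) k A i) = _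
  by_cases h : i = k
  · subst h
    simp
  · simp [h]

theorem phi_Psi (B : Fin 4 → S3) : phi chevE8 KK 2 1 (Psi B) = Psi fun k => fm (B k) := by
  have key : (phi chevE8 KK 2 1).toMonoidHom.comp Psi = Psi.comp fm4 := by
    refine MonoidHom.pi_ext fun k A => ?_
    rw [MonoidHom.comp_apply, MonoidHom.comp_apply, fm4_single, Psi_single, Psi_single]
    exact phi_Pk k A
  exact DFunLike.congr_fun key B

/-! ### the kernel -/

theorem ker_Pk (k : Fin 4) : (Pk k).ker ≤ Subgroup.center S3 := by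
  rcases Cfsg.Agent.H428.OT.sl_normal (Pk k).ker with h | h
  · exact h
  · exfalso
    have h01 : (0 : Fin 3) ≠ 1 := by decide
    have h1 : (Matrix.SpecialLinearGroup.transvection h01 (1 : KK) : S3) ∈ (Pk k).ker := by rw [h]; exact Subgroup.mem_top _
    rw [MonoidHom.mem_ker, Pk_tv] at h1
    have h2 : (Matrix.SpecialLinearGroup.transvection h01 (0 : KK) : S3) ∈ (Pk k).ker := by rw [h]; exact Subgroup.mem_top _
    rw [MonoidHom.mem_ker, Pk_tv] at h2
    exact one_ne_zero ((coords8 _ (rk_root h01)).inj (h1.trans h2.symm))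

theorem mem_center_of_tv {B : S3} (h : ∀ a b (hab : a ≠ b) (c : KK),
    Matrix.SpecialLinearGroup.transvection hab c * B = B * Matrix.SpecialLinearGroup.transvection hab c) :
    B ∈ Subgroup.center S3 := by
  rw [Subgroup.mem_center_iff]
  intro A
  exact commute_hom (MonoidHom.id S3) B (fun a b hab c => h a b hab c) A

theorem three_eq : (3 : KK) = 1 := by
  have h := Cfsg.Agent.H876.L64.two_zero
  have : (3 : KK) = 2 + 1 := by norm_num
  rw [this, h, zero_add]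

theorem trace_tv {a b : Fin 3} (hab : a ≠ b) (c : KK) :
    (Matrix.SpecialLinearGroup.transvection hab c : S3).1.trace = 1 := by
  rw [tv_coe, Matrix.trace_add, Matrix.trace_one, Fintype.card_fin, Matrix.trace_single_eq_of_ne _ _ _ hab, add_zero]
  exact_mod_cast three_eq

/-- commuting up to the centre -/
theorem comm_of_center {B A : S3} (hA : A.1.trace ≠ 0) (h : B * A * B⁻¹ * A⁻¹ ∈ Subgroup.center S3) : A * B = B * A := by
  obtain ⟨r, -, hr⟩ := Matrix.SpecialLinearGroup.mem_center_iff.1 h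
  have h1 : B * A * B⁻¹ = (B * A * B⁻¹ * A⁻¹) * A := by group
  have h2 : (B * A * B⁻¹).1 = r • A.1 := by
    rw [h1, Matrix.SpecialLinearGroup.coe_mul, ← hr, Matrix.scalar_apply, ← Matrix.smul_one_eq_diagonal, smul_mul_assoc, one_mul]
  have h3 : (B * A * B⁻¹).1.trace = A.1.trace := by
    rw [Matrix.SpecialLinearGroup.coe_mul, Matrix.trace_mul_comm, ← Matrix.SpecialLinearGroup.coe_mul,
      inv_mul_cancel_left]
  rw [h2, Matrix.trace_smul, smul_eq_mul] at h3
  have h4 : r = 1 := mul_right_cancel₀ hA (by rw [h3, one_mul])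
  have h5 : B * A * B⁻¹ = A := Subtype.ext (by rw [h2, h4, one_smul])
  rw [mul_inv_eq_iff_eq_mul] at h5
  exact h5.symm

/-- **the kernel** -/
theorem Psi_ker {B : Fin 4 → S3} (h : Psi B = 1) (k : Fin 4) : ∃ ζ : KK, ζ ^ 3 = 1 ∧ (B k).1 = ζ • (1 : Matrix (Fin 3) (Fin 3) KK) := by
  have h1 : B k ∈ Subgroup.center S3 := by
    refine mem_center_of_tv fun a b hab c => comm_of_center ?_ (ker_Pk k ?_)
    · rw [trace_tv]; exact one_ne_zero
    · have h2 := Psi_conj B k (Matrix.SpecialLinearGroup.transvection hab c)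
      rw [h, one_mul, inv_one, mul_one] at h2
      rw [MonoidHom.mem_ker, map_mul, ← h2, ← map_mul, mul_inv_cancel, map_one]
  obtain ⟨r, hr, hr'⟩ := Matrix.SpecialLinearGroup.mem_center_iff.1 h1
  refine ⟨r, by rw [Fintype.card_fin] at hr; exact hr, ?_⟩
  rw [← hr', Matrix.scalar_apply, Matrix.smul_one_eq_diagonal]

/-! ### the torus -/

/-- the simple roots of the components -/
def bk : Fin 8 → Fin 4 := ![0, 0, 1, 1, 2, 2, 3, 3]
def ba : Fin 8 → Fin 3 := ![0, 1, 0, 1, 0, 1, 0, 1]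
def bb : Fin 8 → Fin 3 := ![1, 2, 1, 2, 1, 2, 1, 2]

theorem bab (j : Fin 8) : ba j ≠ bb j := by revert j; decide

/-- the pairings with the simple roots -/
def Mt : Fin 8 → Fin 8 → ℤ := ![![0, 0, 0, 0, -2, 1, 0, 0], ![0, 0, 0, 0, 0, 0, -1, -1], ![0, 0, 0, 0, 1, 1, 0, 0],
  ![0, 0, 1, 0, 0, -1, 0, 1], ![0, 0, -1, -1, 0, 0, 0, 0], ![0, 0, -1, 2, 0, 0, 0, 0], ![0, -1, 1, -1, 0, 0, 1, -1],
  ![-1, 2, 0, 0, 0, 0, 0, 0]]

/-- the inverse matrix times `3` -/
def Ut : Fin 8 → Fin 8 → ℤ := ![![-4, -6, -8, -12, -10, -8, -6, -3], ![-2, -3, -4, -6, -5, -4, -3, 0],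
  ![0, 0, 0, 0, -2, -1, 0, 0], ![0, 0, 0, 0, -1, 1, 0, 0], ![-1, 0, 1, 0, 0, 0, 0, 0], ![1, 0, 2, 0, 0, 0, 0, 0],
  ![-1, -3, -2, -3, -2, -1, 0, 0], ![1, 0, 2, 3, 2, 1, 0, 0]]

theorem Mt_Ut : ∀ i l : Fin 8, ∑ j, Mt i j * Ut j l = if i = l then 3 else 0 := by decide +kernel

theorem Mt_eq : ∀ i j : Fin 8, Cfsg.Agent.H412.OT.pr chevE8 (rk (bk j) (ba j) (bb j)) (chevE8.simple i) = Mt i j := by
  decide +kernel

/-- the torus elements of the components -/
noncomputable def he (j : Fin 8) (u : KKˣ) : ↥(chevE8.group KK) :=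
  Pk (bk j) (Matrix.SpecialLinearGroup.diag2n (bab j) (u : KK) u.ne_zero)

theorem he_coe (j : Fin 8) (u : KKˣ) : ((he j u : ↥(chevE8.group KK)) : GL chevE8.Idx KK) =
    hG e8T.inList (rk (bk j) (ba j) (bb j)) (u : KK) := by
  have hlt : rk (bk j) (ba j) (bb j) < chevE8.nroots := by rw [nr]; exact rk_lt (bab j)
  have hlt' : rk (bk j) (bb j) (ba j) < chevE8.nroots := by rw [nr]; exact rk_lt (bab j).symm
  have hn : chevE8.neg (rk (bk j) (ba j) (bb j)) = rk (bk j) (bb j) (ba j) := ((tab_hom (bk j)).2.2.2.2.2 _ _ (bab j)).symm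
  unfold he
  rw [Cfsg.Agent.LieClassical.SLGen.diag2n_decompose, map_mul, map_mul, map_mul, map_mul, map_mul, Pk_tv, Pk_tv, Pk_tv,
    Pk_tv, hG_def, nG_def, nG_def, hn, Subgroup.coe_mul, Subgroup.coe_mul, Subgroup.coe_mul, Subgroup.coe_mul,
    Subgroup.coe_mul, coe_xc e8T hlt, coe_xc e8T hlt', coe_xc e8T hlt', coe_xc e8T hlt, inv_neg, inv_one, _root_.neg_neg]
  simp only [mul_assoc]

theorem he_mem (j : Fin 8) (u : KKˣ) : he j u ∈ TT chevE8 KK := by
  have hlt : rk (bk j) (ba j) (bb j) < chevE8.nroots := by rw [nr]; exact rk_lt (bab j)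
  show ((he j u : ↥(chevE8.group KK)) : GL chevE8.Idx KK) ∈ chevE8.diagonalSubgroup KK
  rw [he_coe]
  exact Cfsg.Agent.H412.OT.hG_mem e8T.inList hlt u.ne_zero

theorem cX_he (j : Fin 8) (u : KKˣ) (i : Fin 8) : cX e8T (he j u) (sr i) = (u : KK) ^ Mt i j := by
  have hlt : rk (bk j) (ba j) (bb j) < chevE8.nroots := by rw [nr]; exact rk_lt (bab j)
  have hs := simple_lt e8T.inList (lt_rank e8T i)
  have e1 := vec_simple e8T i
  rw [cX_root e8T cs8 (he_mem j u) (isRoot_sr cs8 e8T.isCartan i)]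
  have h1 := (coords8 _ (isRoot_sr cs8 e8T.isCartan i)).act (he j u) (he_mem j u) 1
  have h2 : he j u * xc e8T (sr i) 1 * (he j u)⁻¹ = xc e8T (sr i) ((u : KK) ^ Mt i j * 1) := by
    apply Subtype.ext
    rw [Subgroup.coe_mul, Subgroup.coe_mul, Subgroup.coe_inv, he_coe, ← e1, coe_xc e8T hs, coe_xc e8T hs,
      Cfsg.Agent.H412.OT.hG_conj_xG e8T.inList hlt hs u.ne_zero, Mt_eq]
  rw [h2] at h1
  have h3 := (coords8 _ (isRoot_sr cs8 e8T.isCartan i)).inj h1
  rw [mul_one, mul_one] at h3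
  exact h3.symm

theorem he_Psi (j : Fin 8) (u : KKˣ) : he j u ∈ Psi.range := ⟨_, Psi_single _ _⟩

theorem cX_list (f : Fin 8 → ↥(chevE8.group KK)) (hf : ∀ j, f j ∈ TT chevE8 KK) (x : Fin 8 → ℤ) (L : List (Fin 8)) :
    (L.map f).prod ∈ TT chevE8 KK ∧ cX e8T (L.map f).prod x = (L.map fun j => cX e8T (f j) x).prod := by
  induction L with
  | nil => exact ⟨one_mem _, cX_one e8T _⟩
  | cons j L ih =>
    rw [List.map_cons, List.prod_cons, List.map_cons, List.prod_cons]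
    exact ⟨mul_mem (hf j) ih.1, by rw [cX_mul e8T (hf j) ih.1, ih.2]⟩

/-- **the torus is contained in the product of the components** -/
theorem TT_le : TT chevE8 KK ≤ Psi.range := by
  intro s hs
  have hne : ∀ i : Fin 8, cX e8T s (sr i) ≠ 0 := fun i => by
    rw [cX_root e8T cs8 hs (isRoot_sr cs8 e8T.isCartan i)]
    exact (coords8 _ (isRoot_sr cs8 e8T.isCartan i)).chi_ne_zero hs
  have h1 : ∀ i : Fin 8, ∃ a : KKˣ, (a : KK) ^ 3 = cX e8T s (sr i) := by
    intro i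
    obtain ⟨c, hc⟩ := IsAlgClosed.exists_pow_nat_eq (cX e8T s (sr i)) (n := 3) (by norm_num)
    have hc0 : c ≠ 0 := fun h => hne i (by rw [← hc, h, zero_pow (by norm_num)])
    exact ⟨Units.mk0 c hc0, hc⟩
  choose a ha using h1
  have hL := cX_list (fun j => he j (∏ l, a l ^ Ut j l)) (fun j => he_mem j _)
  have hs' : s = ((List.finRange 8).map fun j => he j (∏ l, a l ^ Ut j l)).prod := by
    refine cX_inj e8T hs (hL 0 _).1 fun i => ?_
    rw [(hL (sr i) _).2, ← Fin.prod_univ_def, ← ha i]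
    have h2 : ∀ j, cX e8T (he j (∏ l, a l ^ Ut j l)) (sr i) = ((∏ l, (a l ^ (Ut j l * Mt i j)) : KKˣ) : KK) := by
      intro j
      rw [cX_he, ← Units.val_zpow_eq_zpow_val, ← Finset.prod_zpow]
      simp_rw [← zpow_mul]
    simp_rw [h2]
    rw [← Units.coe_prod, Finset.prod_comm]
    have h3 : ∀ l, ∏ j, a l ^ (Ut j l * Mt i j) = a l ^ (if i = l then (3 : ℤ) else 0) := by
      intro l
      rw [← Mt_Ut i l]
      have : ∀ S : Finset (Fin 8), ∏ j ∈ S, a l ^ (Ut j l * Mt i j) = a l ^ (∑ j ∈ S, Mt i j * Ut j l) := by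
        intro S
        classical
        induction S using Finset.induction_on with
        | empty => rw [Finset.prod_empty, Finset.sum_empty, zpow_zero]
        | insert b S hb ih => rw [Finset.prod_insert hb, Finset.sum_insert hb, ih, zpow_add, mul_comm (Ut b l)]
      exact this _
    simp_rw [h3]
    rw [Finset.prod_eq_single i]
    · rw [if_pos rfl]
      rfl
    · intro b _ hb
      rw [if_neg (Ne.symm hb), zpow_zero]
    · intro h; exact absurd (Finset.mem_univ i) h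
  rw [hs']
  refine Subgroup.list_prod_mem _ fun y hy => ?_
  obtain ⟨j, -, rfl⟩ := List.mem_map.1 hy
  exact he_Psi j _

/-! ### the centraliser -/

theorem tab_zero : ((List.range 240).all fun s => decide (w1 s = 0 → w2 s = 0 →
    ∃ k : Fin 4, ∃ i j : Fin 3, i ≠ j ∧ s = rk k i j)) = true := by decide +kernel

theorem tab_rk : ∀ k : Fin 4, ∀ i j : Fin 3, i ≠ j → w1 (rk k i j) = 0 ∧ w2 (rk k i j) = 0 := by decide +kernel

section

variable {t1 t2 : ↥(chevE8.group KK)} {ζ : KK} (hζ : IsPrimitiveRoot ζ 3) (ht1 : t1 ∈ TT chevE8 KK)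
  (ht2 : t2 ∈ TT chevE8 KK) (hv1 : ∀ i, cX e8T t1 (sr i) = ζ ^ (V1 i).val)
  (hv2 : ∀ i, cX e8T t2 (sr i) = ζ ^ (V2 i).val)

include hζ ht1 ht2 hv1 hv2

/-- **the centraliser of `t₁`, `t₂`** -/
theorem cent_Psi {g : ↥(chevE8.group KK)} (h1 : g * t1 = t1 * g) (h2 : g * t2 = t2 * g) : ∃ B, g = Psi B := by
  have hch := charKK
  have ht : ∀ i, (![t1, t2] : Fin 2 → ↥(chevE8.group KK)) i ∈ TT chevE8 KK := by
    intro i
    fin_cases i
    · exact ht1
    · exact ht2
  have hZ : Set.range (![t1, t2] : Fin 2 → ↥(chevE8.group KK)) ⊆ TT chevE8 KK := by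
    rintro _ ⟨i, rfl⟩
    exact ht i
  obtain ⟨m, hm, s, hs, rfl⟩ := cent_formZ e8T cs8 locKK 2 (Set.finite_range _) hZ (conE ht hζ hv1 hv2) (c := g) (by
    rintro _ ⟨i, rfl⟩
    fin_cases i
    · exact h1
    · exact h2)
  have h3 : MMZ cs8 e8T.isCartan (XX chevE8 8 KK) (ch e8T) (Set.range (![t1, t2] : Fin 2 → ↥(chevE8.group KK))) ≤
      Psi.range := by
    refine RGD.Sup_le fun a ha => ?_
    obtain ⟨s, hs, rfl⟩ := exists_idx ha.1
    have e1 := (ch_one_iff ht1 hζ hv1 ha.1).1 (ha.2 t1 ⟨0, rfl⟩)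
    have e2 := (ch_one_iff ht2 hζ hv2 ha.1).1 (ha.2 t2 ⟨1, rfl⟩)
    rw [vl_w1] at e1
    rw [vl_w2] at e2
    obtain ⟨k, i, j, hij, rfl⟩ := of_decide_eq_true (List.all_eq_true.1 tab_zero s (List.mem_range.2 hs)) e1 e2
    intro y hy
    obtain ⟨c, rfl⟩ := ((coords8 _ ha.1).mem y).1 hy
    exact ⟨Pi.mulSingle k (Matrix.SpecialLinearGroup.transvection hij c), by rw [Psi_single, Pk_tv]⟩
  obtain ⟨B, rfl⟩ := h3 hm
  obtain ⟨D, rfl⟩ := TT_le hs
  exact ⟨B * D, by rw [map_mul]⟩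

omit hv1 hv2 hζ ht2 in
theorem Psi_comm_of {t : ↥(chevE8.group KK)} (ht : t ∈ TT chevE8 KK)
    (h : ∀ k : Fin 4, ∀ i j : Fin 3, i ≠ j → ch e8T (vec chevE8 8 (rk k i j)) t = 1) (B : Fin 4 → S3) :
    Psi B * t = t * Psi B := by
  have h1 : (MulAut.conj t).toMonoidHom.comp Psi = Psi := by
    refine MonoidHom.pi_ext fun k A => ?_
    show t * Psi _ * t⁻¹ = Psi _
    rw [Psi_single]
    have h2 : (MulAut.conj t).toMonoidHom.comp (Pk k) = Pk k := by
      refine hom_ext3 fun a b hab c => ?_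
      show t * Pk k _ * t⁻¹ = _
      rw [Pk_tv, (coords8 _ (rk_root hab)).act t ht, h k a b hab, one_mul]
    exact DFunLike.congr_fun h2 A
  have h3 : t * Psi B * t⁻¹ = Psi B := DFunLike.congr_fun h1 B
  rw [mul_inv_eq_iff_eq_mul] at h3
  exact h3.symm

theorem Psi_t1 (B : Fin 4 → S3) : Psi B * t1 = t1 * Psi B :=
  Psi_comm_of ht1 ht1 (fun k i j hij => (ch_one_iff ht1 hζ hv1 (rk_root hij)).2 (by
    rw [vl_w1]; exact (tab_rk k i j hij).1)) B

theorem Psi_t2 (B : Fin 4 → S3) : Psi B * t2 = t2 * Psi B :=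
  Psi_comm_of ht1 ht2 (fun k i j hij => (ch_one_iff ht2 hζ hv2 (rk_root hij)).2 (by
    rw [vl_w2]; exact (tab_rk k i j hij).2)) B

end

/-! ### the lift of `-1` -/

private noncomputable def fN (x : ℕ) (f : ℕ → ℕ) : ℕ := Nat.rec (f 0) (fun n _ => f (Nat.succ n)) x

private noncomputable def lk (l : List (ℕ × Array (ℕ × ℤ))) (s : ℕ) : ℕ :=
  List.rec 240 (fun e _ ih => @Bool.rec (fun _ => ℕ) ih (e.2.getD 0 (240, 0)).1 (Nat.beq e.1 s)) l

private noncomputable def mk (l : List (ℕ × Array (ℕ × ℤ))) : ℕ :=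
  List.rec 0 (fun e _ ih => Nat.lor ih (Nat.shiftLeft 1 e.1)) l

private noncomputable def tgF (r s : ℕ) : ℕ := fN r fun r => fN s fun s => @Bool.rec (fun _ => ℕ)
  (lk (Cfsg.Agent.H413.L16.row r) s) 240 (Nat.beq (Nat.land (Nat.shiftRight (mk (Cfsg.Agent.H413.L16.row r)) s) 1) 0)

private theorem tg_eq : Cfsg.Agent.H413.L16.tg = tgF := by
  have h0 : ∀ x f, fN x f = f x := fun x f => by cases x <;> rfl
  have h1 : ∀ (s : ℕ) (l : List (ℕ × Array (ℕ × ℤ))),
      ((l.find? fun e => e.1 == s).elim 240 fun e => (e.2.getD 0 (240, 0)).1) = lk l s := fun s l => by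
    induction l with
    | nil => rfl
    | cons e l ih =>
      show _ = @Bool.rec (fun _ => ℕ) (lk l s) _ (Nat.beq e.1 s)
      rw [List.find?_cons, ← ih]
      by_cases h : e.1 = s
      · rw [beq_iff_eq.2 h, show Nat.beq e.1 s = true from h ▸ Nat.beq_refl _]
        rfl
      · rw [beq_false_of_ne h, Bool.eq_false_iff.2 fun h' => h (Nat.eq_of_beq_eq_true h')]
  have h2 : ∀ (s : ℕ) (l : List (ℕ × Array (ℕ × ℤ))), (mk l).testBit s = false → lk l s = 240 := fun s l h => by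
    induction l with
    | nil => rfl
    | cons e l ih =>
      have h1 : (mk l ||| 1 <<< e.1).testBit s = false := h
      rw [Nat.testBit_or, Bool.or_eq_false_iff, Nat.one_shiftLeft, Nat.testBit_two_pow] at h1
      show @Bool.rec (fun _ => ℕ) (lk l s) _ (Nat.beq e.1 s) = 240
      rw [Bool.eq_false_iff.2 fun h2 => of_decide_eq_false h1.2 (Nat.eq_of_beq_eq_true h2)]
      exact ih h1.1
  funext r s
  delta tgF
  rw [h0, h0]
  refine (h1 s (Cfsg.Agent.H413.L16.row r)).trans ?_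
  cases h : Nat.beq (Nat.land (Nat.shiftRight (mk (Cfsg.Agent.H413.L16.row r)) s) 1) 0 with
  | false => rfl
  | true =>
    refine h2 _ _ ?_
    have h3 : (mk (Cfsg.Agent.H413.L16.row r) >>> s) &&& 1 = 0 := Nat.eq_of_beq_eq_true h
    rw [Nat.and_one_is_mod] at h3
    rw [← Nat.add_zero s, ← Nat.testBit_shiftRight, Nat.testBit_zero, h3]
    rfl

private theorem rf_eq : Cfsg.Agent.H413.L16.rf = fun r a => fN a (Cfsg.Agent.H413.L16.rf r) := by
  funext r a
  cases a <;> rfl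

private noncomputable def _root_.Cfsg.Agent.KO7551442.k22 : type_of% @instDecidableEqNat := @Cfsg.Agent.KO7551442.k6
private theorem _root_.Cfsg.Agent.KO7551442.e22 : @instDecidableEqNat = @_root_.Cfsg.Agent.KO7551442.k22 := by delta _root_.Cfsg.Agent.KO7551442.k22; rewrite [← Cfsg.Agent.KO7551442.e6]; rfl'
private theorem _root_.Cfsg.Agent.KO7551442.e31.{ku} {M : Nat → Sort ku} (φ : ∀ n, M n) {z : M Nat.zero} {s : ∀ n, M n → M (Nat.succ n)} (h0 : φ Nat.zero = z) (hs : ∀ n, φ (Nat.succ n) = s n (φ n)) (n : Nat) : φ n = @Nat.rec M z s n := Nat.rec h0 (fun n ih => (hs n).trans (congrArg (s n) ih)) n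
private noncomputable def _root_.Cfsg.Agent.KO7551442.k53.{ku0} : type_of% @ite.{ku0} := @(fun x0 x1 x2 x3 x4 => @Decidable.rec.{ku0} _ @(fun x5 => @x0) @(fun x5 => @x4) @(fun x5 => @x3) @x2)
private theorem _root_.Cfsg.Agent.KO7551442.e53.{ku0} : @ite.{ku0} = @_root_.Cfsg.Agent.KO7551442.k53.{ku0} := by delta _root_.Cfsg.Agent.KO7551442.k53; rfl'
private noncomputable def _root_.Cfsg.Agent.KO7551442.k55 : type_of% @List.range.loop := @(fun x0 x1 => @Nat.rec.{1} @(fun x2 => (@List.{0} ℕ) → @List.{0} ℕ) @(fun x2 => @x2) @(fun x2 x3 x4 => @x3 (@x2 :: @x4)) @x0 @x1)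
private theorem _root_.Cfsg.Agent.KO7551442.e55 : @List.range.loop = @_root_.Cfsg.Agent.KO7551442.k55 := by delta _root_.Cfsg.Agent.KO7551442.k55; funext a0 a1; refine (congrFun (_root_.Cfsg.Agent.KO7551442.e31 (fun a0 a1 => @List.range.loop a0 a1) ?_ (fun c0 => ?_) a0) a1 :) <;> (rfl')
private noncomputable def _root_.Cfsg.Agent.KO7551442.k64.{ku0} : type_of% @List.all.{ku0} := @(fun x0 x1 x2 => @List.rec.{(ku0+1), ku0} @x0 @(fun x3 => (@x0 → @Bool) → @Bool) @(fun x3 => @Bool.true) @(fun x3 x4 x5 x6 => @Bool.rec.{1} @(fun x7 => @Bool) @Bool.false (@x5 @x6) (@x6 @x3)) @x1 @x2)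
private theorem _root_.Cfsg.Agent.KO7551442.e64.{ku0} : @List.all.{ku0} = @_root_.Cfsg.Agent.KO7551442.k64.{ku0} := by delta _root_.Cfsg.Agent.KO7551442.k64; funext a0 a1 a2; refine (congrFun (_root_.Cfsg.Agent.KO7551442.e9 (fun a1 a2 => @List.all.{ku0} a0 a1 a2) ?_ (fun c0 c1 => ?_) a1) a2 :) <;> (rfl')
private noncomputable def _root_.Cfsg.Agent.KO7551442.k65 : type_of% @List.range := @(fun x0 => @Cfsg.Agent.KO7551442.k55 @x0 [])
private theorem _root_.Cfsg.Agent.KO7551442.e65 : @List.range = @_root_.Cfsg.Agent.KO7551442.k65 := by delta _root_.Cfsg.Agent.KO7551442.k65; rewrite [← Cfsg.Agent.KO7551442.e55]; rfl'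
private noncomputable def _root_.Cfsg.Agent.KO7551442.k80 : type_of% @Bool.and := @(fun x0 x1 => @Bool.rec.{1} @(fun x2 => @Bool) @Bool.false @x1 @x0)
private theorem _root_.Cfsg.Agent.KO7551442.e80 : @Bool.and = @_root_.Cfsg.Agent.KO7551442.k80 := by delta _root_.Cfsg.Agent.KO7551442.k80; rfl'
private noncomputable def _root_.Cfsg.Agent.KO7551442.k81 : type_of% @Nat.decLt := @(fun x0 x1 => @Cfsg.Agent.KO7551442.k5 (@Nat.succ @x0) @x1)
private theorem _root_.Cfsg.Agent.KO7551442.e81 : @Nat.decLt = @_root_.Cfsg.Agent.KO7551442.k81 := by delta _root_.Cfsg.Agent.KO7551442.k81; rewrite [← Cfsg.Agent.KO7551442.e5]; rfl'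
private noncomputable def _root_.Cfsg.Agent.KO7551442.k82 : type_of% @Bool.or := @(fun x0 x1 => @Bool.rec.{1} @(fun x2 => @Bool) @x1 @Bool.true @x0)
private theorem _root_.Cfsg.Agent.KO7551442.e82 : @Bool.or = @_root_.Cfsg.Agent.KO7551442.k82 := by delta _root_.Cfsg.Agent.KO7551442.k82; rfl'
private noncomputable def _root_.Cfsg.Agent.KO7551442.k83 : (by first | exact type_of% @Cfsg.Agent.H5.L34.fN | exact Unit : Sort _) := by first | (refine @Subtype.val _ (fun g => @Cfsg.Agent.H5.L34.fN = @g) (@Subtype.mk _ _ (@(fun x0 x1 => @Nat.rec.{1} @(fun x2 => ℕ) (@x1 (nat_lit 0)) @(fun x2 x3 => @x1 (@Nat.succ @x2)) @x0)) ?_); rfl') | exact @Cfsg.Agent.H5.L34.fN | exact ()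
private theorem _root_.Cfsg.Agent.KO7551442.e83 : (by first | exact @Cfsg.Agent.H5.L34.fN = @_root_.Cfsg.Agent.KO7551442.k83 | exact True : Prop) := by first | (delta _root_.Cfsg.Agent.KO7551442.k83; exact @Subtype.property _ (fun g => @Cfsg.Agent.H5.L34.fN = @g) _) | rfl | trivial
private noncomputable def _root_.Cfsg.Agent.KO7551442.k84 : (by first | exact type_of% @Cfsg.Agent.H5.L34.lk | exact Unit : Sort _) := by first | (refine @Subtype.val _ (fun g => @Cfsg.Agent.H5.L34.lk = @g) (@Subtype.mk _ _ (@(fun x0 x1 => @List.rec.{1, 0} (ℕ × (@Array.{0} (ℕ × ℤ))) @(fun x2 => ℕ) (nat_lit 240) @(fun x2 x3 x4 => @Bool.rec.{1} @(fun x5 => ℕ) @x4 (@Prod.fst.{0, 0} _ _ (@Decidable.rec.{1} _ @(fun x5 => ℕ × ℤ) @(fun x5 => (nat_lit 240, @Int.ofNat (nat_lit 0))) @(fun x5 => @List.get.{0} _ (@Array.toList.{0} _ (@Prod.snd.{0, 0} _ _ @x2)) (@Fin.mk _ (nat_lit 0) @x5)) (@Cfsg.Agent.KO7551442.k5 (@Nat.succ (nat_lit 0)) (@List.length.{0} _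 (@Array.toList.{0} _ (@Prod.snd.{0, 0} _ _ @x2)))))) (@Nat.beq (@Prod.fst.{0, 0} _ _ @x2) @x1)) @x0)) ?_); rewrite [← Cfsg.Agent.KO7551442.e5]; rfl') | exact @Cfsg.Agent.H5.L34.lk | exact ()
private theorem _root_.Cfsg.Agent.KO7551442.e84 : (by first | exact @Cfsg.Agent.H5.L34.lk = @_root_.Cfsg.Agent.KO7551442.k84 | exact True : Prop) := by first | (delta _root_.Cfsg.Agent.KO7551442.k84; exact @Subtype.property _ (fun g => @Cfsg.Agent.H5.L34.lk = @g) _) | rfl | trivial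
private noncomputable def _root_.Cfsg.Agent.KO7551442.k85 : (by first | exact type_of% @Cfsg.Agent.H413.L16.row | exact Unit : Sort _) := by first | (refine @Subtype.val _ (fun g => @Cfsg.Agent.H413.L16.row = @g) (@Subtype.mk _ _ (@(fun x0 => @Array.toList.{0} _ (@Decidable.rec.{1} _ @(fun x1 => @Array.{0} (ℕ × (@Array.{0} (ℕ × ℤ)))) @(fun x1 => @Array.mk.{0} _ []) @(fun x1 => @List.get.{0} _ (@Array.toList.{0} _ (@Cfsg.Lie.ChevalleyDatum.chain @Cfsg.Lie.chevE8)) (@Fin.mk _ @x0 @x1)) (@Cfsg.Agent.KO7551442.k5 (@Nat.succ @x0) (@List.length.{0} _ (@Array.toList.{0} _ (@Cfsg.Lie.ChevalleyDatum.chain @Cfsg.Lie.chevE8))))))) ?_); rewrite [← Cfsg.Agent.KO7551442.e5]; (try delta Cfsg.Agent.H413.L16.row); (try generalize @Cfsg.Lie.chevE8 = g0); rfl') | exact @Cfsg.Agent.H413.L16.row | exact ()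
private theorem _root_.Cfsg.Agent.KO7551442.e85 : (by first | exact @Cfsg.Agent.H413.L16.row = @_root_.Cfsg.Agent.KO7551442.k85 | exact True : Prop) := by first | (delta _root_.Cfsg.Agent.KO7551442.k85; exact @Subtype.property _ (fun g => @Cfsg.Agent.H413.L16.row = @g) _) | rfl | trivial
private noncomputable def _root_.Cfsg.Agent.KO7551442.k86 : (by first | exact type_of% @Cfsg.Agent.H5.L34.mk | exact Unit : Sort _) := by first | (refine @Subtype.val _ (fun g => @Cfsg.Agent.H5.L34.mk = @g) (@Subtype.mk _ _ (@(fun x0 => @List.rec.{1, 0} (ℕ × (@Array.{0} (ℕ × ℤ))) @(fun x1 => ℕ) (nat_lit 0) @(fun x1 x2 x3 => @Nat.lor @x3 (@Nat.shiftLeft (nat_lit 1) (@Prod.fst.{0, 0} _ _ @x1))) @x0)) ?_); rfl') | exact @Cfsg.Agent.H5.L34.mk | exact ()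
private theorem _root_.Cfsg.Agent.KO7551442.e86 : (by first | exact @Cfsg.Agent.H5.L34.mk = @_root_.Cfsg.Agent.KO7551442.k86 | exact True : Prop) := by first | (delta _root_.Cfsg.Agent.KO7551442.k86; exact @Subtype.property _ (fun g => @Cfsg.Agent.H5.L34.mk = @g) _) | rfl | trivial
private noncomputable def _root_.Cfsg.Agent.KO7551442.k87 : (by first | exact type_of% @Cfsg.Agent.H5.L34.tgF | exact Unit : Sort _) := by first | (refine @Subtype.val _ (fun g => @Cfsg.Agent.H5.L34.tgF = @g) (@Subtype.mk _ _ (@(fun x0 x1 => @Cfsg.Agent.KO7551442.k83 @x0 @(fun x2 => @Cfsg.Agent.KO7551442.k83 @x1 @(fun x3 => @Bool.rec.{1} @(fun x4 => ℕ) (@Cfsg.Agent.KO7551442.k84 (@Cfsg.Agent.KO7551442.k85 @x2) @x3) (nat_lit 240) (@Nat.beq (@Nat.land (@Nat.shiftRight (@Cfsg.Agent.KO7551442.k86 (@Cfsg.Agent.KO7551442.k85 @x2)) @x3) (nat_lit 1)) (nat_lit 0)))))) ?_); rewrite [← Cfsg.Agent.KO7551442.e86, ← Cfsg.Agent.KO7551442.e85, ← Cfsg.Agent.KO7551442.e84,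 ← Cfsg.Agent.KO7551442.e83]; (try delta Cfsg.Agent.H5.L34.tgF); (try generalize @Cfsg.Agent.H5.L34.fN = g0); (try generalize @Cfsg.Agent.H5.L34.lk = g1); (try generalize @Cfsg.Agent.H413.L16.row = g2); (try generalize @Cfsg.Agent.H5.L34.mk = g3); rfl') | exact @Cfsg.Agent.H5.L34.tgF | exact ()
private theorem _root_.Cfsg.Agent.KO7551442.e87 : (by first | exact @Cfsg.Agent.H5.L34.tgF = @_root_.Cfsg.Agent.KO7551442.k87 | exact True : Prop) := by first | (delta _root_.Cfsg.Agent.KO7551442.k87; exact @Subtype.property _ (fun g => @Cfsg.Agent.H5.L34.tgF = @g) _) | rfl | trivial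

theorem nz_ok : ([199, 153, 218, 174, 120, 166, 137, 234].all fun r => decide (r < 240) && Cfsg.Agent.H413.L16.okN r) = true := by
  delta Cfsg.Agent.H413.L16.okN
  rw [tg_eq]
  (first | (rewrite [Cfsg.Agent.KO7551442.e64.{0}, Cfsg.Agent.KO7551442.e80, Cfsg.Agent.KO7551442.e0, Cfsg.Agent.KO7551442.e81, Cfsg.Agent.KO7551442.e65, Cfsg.Agent.KO7551442.e82, Cfsg.Agent.KO7551442.e22, Cfsg.Agent.KO7551442.e53.{1}, Cfsg.Agent.KO7551442.e87, Cfsg.Agent.KO7551442.e3, Cfsg.Agent.KO7551442.e21]; decide +kernel) | decide +kernel)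

theorem nz_fold : ((List.range 240).all fun s => decide (([199, 153, 218, 174, 120, 166, 137, 234] : List ℕ).foldr
    Cfsg.Agent.H413.L16.rf s = 239 - s)) = true := by
  rw [rf_eq]
  delta Cfsg.Agent.H413.L16.rf
  rw [tg_eq]
  decide +kernel

/-- **the two lifts of `-1` are equal** -/
theorem nz_eq : nz = gz := by
  have h1 : nz = Cfsg.Agent.H201.L34.gw [199, 153, 218, 174, 120, 166, 137, 234] := by
    unfold nz Cfsg.Agent.H201.L34.gw
    simp only [List.map_cons, List.map_nil, List.prod_cons, List.prod_nil, mul_one, mul_assoc]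
  rw [h1]
  apply Cfsg.Agent.H413.L16.eq_of_er
  intro s hs
  rw [Cfsg.Agent.H201.L34.aK_gz hs, (Cfsg.Agent.H201.L34.aK_gw _ (Cfsg.Agent.H201.L34.ok_of nz_ok) hs).1,
    of_decide_eq_true (List.all_eq_true.1 nz_fold s (List.mem_range.2 hs))]

/-- **the frame of `E0`** -/
theorem frameZ {e1 e2 : E2} {z0 t1 t2 : ↥(chevE8.group KK)} {ζ : KK} (hζ : IsPrimitiveRoot ζ 3)
    (h1 : z0⁻¹ * em e1 * z0 = t1) (h2 : z0⁻¹ * em e2 * z0 = t2) (ht1 : t1 ∈ TT chevE8 KK) (ht2 : t2 ∈ TT chevE8 KK)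
    (hv1 : ∀ i, cX e8T t1 (sr i) = ζ ^ (V1 i).val) (hv2 : ∀ i, cX e8T t2 (sr i) = ζ ^ (V2 i).val) :
    ∃ z : ↥(chevE8.group KK), z⁻¹ * em e1 * z = t1 ∧ z⁻¹ * em e2 * z = t2 ∧ z⁻¹ * phi chevE8 KK 2 1 z = gz := by
  rw [← nz_eq]
  exact frameE hζ h1 h2 ht1 ht2 hv1 hv2

end Cfsg.Agent.H5.L34
end

-- part: H389/L34/MatB
section
/-!
S5917, frame of type (A): a symmetric matrix of `SL₃` over an algebraically closed field of
characteristic two has an orthonormal basis.
-/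

set_option autoImplicit false

namespace Cfsg.Agent.H389.L34

open Matrix

section gen

variable {K : Type*} [Field K] [IsAlgClosed K]

theorem exists_sqrt (a : K) : ∃ s : K, s * s = a := by
  obtain ⟨s, hs⟩ := IsAlgClosed.exists_pow_nat_eq a (n := 2) (by norm_num)
  exact ⟨s, by rw [← hs, pow_two]⟩

/-- Scaling: a vector of nonzero norm can be made of norm one. -/
theorem exists_unit {V : Type*} [AddCommGroup V] [Module K V] (B : LinearMap.BilinForm K V)
    {v : V} (hv : B v v ≠ 0) : ∃ t : K, B (t • v) (t • v) = 1 := by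
  obtain ⟨s, hs⟩ := exists_sqrt (B v v)
  have hs0 : s ≠ 0 := by rintro rfl; exact hv (by rw [← hs, mul_zero])
  refine ⟨s⁻¹, ?_⟩
  simp only [map_smul, LinearMap.smul_apply, smul_eq_mul]
  rw [← hs]
  field_simp

/-- Three orthonormal vectors. -/
theorem exists_orth {V : Type*} [AddCommGroup V] [Module K V] [Module.Finite K V]
    (h2 : (2 : K) = 0) (hV : Module.finrank K V = 3)
    (B : LinearMap.BilinForm K V) (hsy : ∀ u v, B u v = B v u)
    (hnd : ∀ u, (∀ v, B u v = 0) → u = 0) {u₀ : V} (hu₀ : B u₀ u₀ ≠ 0) :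
    ∃ r : Fin 3 → V, ∀ i j, B (r i) (r j) = if i = j then 1 else 0 := by
  have hadd : ∀ a : K, a + a = 0 := fun a => by rw [← two_mul, h2, zero_mul]
  obtain ⟨u, ht⟩ : ∃ u, B u u = 1 := by
    obtain ⟨t, ht⟩ := exists_unit B hu₀
    exact ⟨_, ht⟩
  by_cases hW : ∃ v, B u v = 0 ∧ B v v ≠ 0
  · obtain ⟨v, hs, huv⟩ : ∃ v, B v v = 1 ∧ B u v = 0 := by
      obtain ⟨v₀, hv0, hv1⟩ := hW
      obtain ⟨s, hs⟩ := exists_unit B hv1
      exact ⟨s • v₀, hs, by rw [map_smul, hv0, smul_zero]⟩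
    have hvu : B v u = 0 := by rw [hsy, huv]
    -- a vector orthogonal to both
    let f : V →ₗ[K] (Fin 2 → K) := LinearMap.pi ![B u, B v]
    have hf : LinearMap.ker f ≠ ⊥ := by
      apply LinearMap.ker_ne_bot_of_finrank_lt
      rw [hV]; simp
    obtain ⟨w₀, hw0, hw1⟩ := (Submodule.ne_bot_iff _).mp hf
    rw [LinearMap.mem_ker] at hw0
    have h1 : B u w₀ = 0 := by
      have := congrFun hw0 0
      simpa [f] using this
    have h3 : B v w₀ = 0 := by
      have := congrFun hw0 1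
      simpa [f] using this
    have hw2 : B w₀ w₀ ≠ 0 := by
      intro h0
      -- u, v, w₀ is a basis
      have hli : LinearIndependent K ![u, v, w₀] := by
        rw [Fintype.linearIndependent_iff]
        intro g hg
        rw [Fin.sum_univ_three] at hg
        simp only [Matrix.cons_val_zero, Matrix.cons_val_one, Matrix.cons_val_two,
          Matrix.tail_cons, Matrix.head_cons] at hg
        have e0 := congrArg (B u) hg
        have e1 := congrArg (B v) hg
        simp only [map_add, map_smul, smul_eq_mul, ht, huv, hvu, h1, h3, hs, map_zero, mul_zero,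
          mul_one, add_zero, zero_add] at e0 e1
        have e2 : g 2 • w₀ = 0 := by
          rw [e0, e1, zero_smul, zero_smul, zero_add, zero_add] at hg
          exact hg
        have e3 : g 2 = 0 := (smul_eq_zero.mp e2).resolve_right hw1
        intro i
        fin_cases i
        exacts [e0, e1, e3]
      have hspan : ∀ x : V, ∃ a b d : K, x = a • u + b • v + d • w₀ := by
        intro x
        have hb : Submodule.span K (Set.range ![u, v, w₀]) = ⊤ := by
          apply hli.span_eq_top_of_card_eq_finrank'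
          simp [hV]
        have hx : x ∈ Submodule.span K (Set.range ![u, v, w₀]) := by rw [hb]; trivial
        obtain ⟨g, hg⟩ := (Submodule.mem_span_range_iff_exists_fun K).mp hx
        refine ⟨g 0, g 1, g 2, ?_⟩
        rw [← hg, Fin.sum_univ_three]
        simp
      apply hw1
      apply hnd
      intro x
      obtain ⟨a, b, d, rfl⟩ := hspan x
      simp only [map_add, map_smul, smul_eq_mul, h0, mul_zero, add_zero]
      rw [hsy w₀ u, hsy w₀ v, h1, h3]
      simp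
    obtain ⟨w, hq, huw, hvw⟩ : ∃ w, B w w = 1 ∧ B u w = 0 ∧ B v w = 0 := by
      obtain ⟨q, hq⟩ := exists_unit B hw2
      exact ⟨q • w₀, hq, by rw [map_smul, h1, smul_zero], by rw [map_smul, h3, smul_zero]⟩
    have hwu : B w u = 0 := by rw [hsy, huw]
    have hwv : B w v = 0 := by rw [hsy, hvw]
    refine ⟨![u, v, w], ?_⟩
    intro i j
    fin_cases i <;> fin_cases j <;> simp [ht, hs, hq, huv, hvu, huw, hvw, hwu, hwv]
  · push Not at hW
    -- the orthogonal complement is alternating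
    have hf : LinearMap.ker (B u) ≠ ⊥ := by
      apply LinearMap.ker_ne_bot_of_finrank_lt
      rw [hV]; simp
    obtain ⟨e, he0, he1⟩ := (Submodule.ne_bot_iff _).mp hf
    rw [LinearMap.mem_ker] at he0
    have hee : B e e = 0 := hW e he0
    have hex : ∃ f₀, B e f₀ ≠ 0 := by
      by_contra h
      push Not at h
      exact he1 (hnd e h)
    obtain ⟨f₀, hf₀⟩ := hex
    obtain ⟨f₁, h1⟩ : ∃ f₁, B e f₁ = 1 :=
      ⟨(B e f₀)⁻¹ • f₀, by rw [map_smul, smul_eq_mul, inv_mul_cancel₀ hf₀]⟩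
    have heu : B e u = 0 := by rw [hsy, he0]
    obtain ⟨f, huf, hef⟩ : ∃ f, B u f = 0 ∧ B e f = 1 :=
      ⟨f₁ - B u f₁ • u, by rw [map_sub, map_smul, ht, smul_eq_mul, mul_one, sub_self],
        by rw [map_sub, map_smul, heu, h1, smul_zero, sub_zero]⟩
    have hff : B f f = 0 := hW f huf
    have hfu : B f u = 0 := by rw [hsy, huf]
    have hfe : B f e = 1 := by rw [hsy, hef]
    refine ⟨![u + e, u + f, u + e + f], ?_⟩
    intro i j
    fin_cases i <;> fin_cases j <;>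
      simp [ht, he0, hee, heu, huf, hef, hff, hfu, hfe, hadd]

theorem exists_one {c : Matrix (Fin 3) (Fin 3) K} (h2 : (2 : K) = 0) (hs : c.transpose = c)
    (hd : c.det ≠ 0) : ∃ g : Matrix (Fin 3) (Fin 3) K, g * c * g.transpose = 1 := by
  have hadd : ∀ a : K, a + a = 0 := fun a => by rw [← two_mul, h2, zero_mul]
  set B : LinearMap.BilinForm K (Fin 3 → K) := Matrix.toBilin' c with hB
  have hBa : ∀ u v, B u v = u ⬝ᵥ (c *ᵥ v) := fun u v => by rw [hB, Matrix.toBilin'_apply']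
  have hsy : ∀ u v, B u v = B v u := by
    intro u v
    rw [hBa, hBa, Matrix.dotProduct_mulVec, ← Matrix.mulVec_transpose, hs, dotProduct_comm]
  have hnd : ∀ u, (∀ v, B u v = 0) → u = 0 := by
    intro u hu
    have h1 : u ᵥ* c = 0 := by
      funext j
      have := hu (Pi.single j 1)
      rw [hBa, Matrix.dotProduct_mulVec] at this
      simpa using this
    have h3 : IsUnit c := (Matrix.isUnit_iff_isUnit_det _).mpr (isUnit_iff_ne_zero.mpr hd)
    exact Matrix.vecMul_injective_of_isUnit h3 (by simp [h1])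
  have hne : ∃ i, c i i ≠ 0 := by
    by_contra h
    push Not at h
    apply hd
    have e01 : c 1 0 = c 0 1 := congrFun (congrFun hs 0) 1
    have e02 : c 2 0 = c 0 2 := congrFun (congrFun hs 0) 2
    have e12 : c 2 1 = c 1 2 := congrFun (congrFun hs 1) 2
    rw [Matrix.det_fin_three, h 0, h 1, h 2, e01, e02, e12]
    have : (2 : K) * (c 0 1 * c 1 2 * c 0 2) = 0 := by rw [h2, zero_mul]
    linear_combination this
  obtain ⟨i, hi⟩ := hne
  have hu : B (Pi.single i 1) (Pi.single i 1) ≠ 0 := by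
    rw [hBa]
    simpa using hi
  obtain ⟨r, hr⟩ := exists_orth h2 (by simp) B hsy hnd hu
  refine ⟨Matrix.of r, ?_⟩
  ext i j
  rw [Matrix.one_apply, ← hr i j, hBa, Matrix.mul_apply]
  simp only [Matrix.transpose_apply, Matrix.of_apply, dotProduct, Matrix.mulVec, Matrix.mul_apply]
  simp only [Fin.sum_univ_three]
  ring

end gen

open Cfsg.Agent.H939.L64 in
/-- `c` symmetric of determinant one: `g c gᵀ = 1` with `g` of determinant one. -/
theorem exists_diag {c : Matrix.SpecialLinearGroup (Fin 3) KK} (h : c.1.transpose = c.1) :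
    ∃ g : Matrix.SpecialLinearGroup (Fin 3) KK, g.1 * c.1 * g.1.transpose = 1 := by
  have h2 : (2 : KK) = 0 := by
    have := Cfsg.Agent.H413.L64.charKK
    exact_mod_cast CharP.cast_eq_zero KK 2
  obtain ⟨g, hg⟩ := exists_one h2 h (by rw [c.2]; exact one_ne_zero)
  have h1 := congrArg Matrix.det hg
  rw [Matrix.det_mul, Matrix.det_mul, Matrix.det_transpose, c.2, Matrix.det_one, mul_one] at h1
  have h3 : (g.det - 1) * (g.det - 1) = 0 := by
    linear_combination h1 + (1 - g.det) * h2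
  have h4 : g.det = 1 := by
    rcases mul_self_eq_zero.mp h3 with h5
    exact sub_eq_zero.mp h5
  exact ⟨⟨g, h4⟩, hg⟩

end Cfsg.Agent.H389.L34
end

-- part: H531/L34/MatC
section
/-!
# S5917, part II.3: Lang's theorem for the orthogonal matrices of size 3 in characteristic 2 (helper531)

* `lang_o3_gen` : `A Aᵀ = 1` implies `Y^(2) = Y A` for some `Y` with `Y Yᵀ = 1`, over an algebraically closed field of
  characteristic 2; `lang_o3` : over the algebraic closure of the field with two elements.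
-/

set_option autoImplicit false

namespace Cfsg.Agent.H531.L34

open Matrix

private noncomputable def _root_.Cfsg.Agent.KO7551442.k66 : type_of% @ZMod.decidableEq := @(fun x0 => @Nat.rec.{1} @(fun x1 => @DecidableEq.{1} (@ZMod @x1)) @Cfsg.Agent.KO7551442.k16 @(fun x1 x2 => @Cfsg.Agent.KO7551442.k7 (@Nat.add @x1 (nat_lit 1))) @x0)
private theorem _root_.Cfsg.Agent.KO7551442.e66 : @ZMod.decidableEq = @_root_.Cfsg.Agent.KO7551442.k66 := by delta _root_.Cfsg.Agent.KO7551442.k66; rewrite [← Cfsg.Agent.KO7551442.e7, ← Cfsg.Agent.KO7551442.e16]; rfl'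
private noncomputable def _root_.Cfsg.Agent.KO7551442.k88.{ku0} : type_of% @Fintype.decidableForallFintype.{ku0} := @(fun x0 x1 x2 x3 => @Decidable.rec.{1} _ @(fun x4 => @Decidable ((x5 : @x0) → @x1 @x5)) @(fun x4 => @Decidable.isFalse _ (@decidable_of_decidable_of_iff._proof_1 _ _ (@Fintype.decidableForallFintype._proof_1.{ku0} _ _ _) @x4)) @(fun x4 => @Decidable.isTrue _ (@Iff.mp _ _ (@Fintype.decidableForallFintype._proof_1.{ku0} _ _ _) @x4)) (@Cfsg.Agent.KO7551442.k49.{ku0} _ _ @(fun x4 x5 => @x1 @x4) @(fun x4 x5 => @x2 @x4)))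
private theorem _root_.Cfsg.Agent.KO7551442.e88.{ku0} : @Fintype.decidableForallFintype.{ku0} = @_root_.Cfsg.Agent.KO7551442.k88.{ku0} := by delta _root_.Cfsg.Agent.KO7551442.k88; rewrite [← Cfsg.Agent.KO7551442.e49.{ku0}]; rfl'
private noncomputable def _root_.Cfsg.Agent.KO7551442.k89.{ku0} : type_of% @List.decidableBEx.{ku0} := @(fun x0 x1 x2 x3 => @List.rec.{1, ku0} @x0 @(fun x4 => @Decidable (@_root_.Exists.{(ku0+1)} _ @(fun x5 => @And (@Membership.mem.{ku0, ku0} _ _ _ @x4 @x5) (@x1 @x5)))) (@Decidable.isFalse _ (@List.decidableBEx._proof_1.{ku0} _ @x1)) @(fun x4 x5 x6 => @Decidable.rec.{1} _ @(fun x7 => @Decidable (@_root_.Exists.{(ku0+1)} _ @(fun x8 => @And (@Membership.mem.{ku0, ku0} _ _ _ (@x4 :: @x5) @x8) (@x1 @x8)))) @(fun x7 => @Decidable.rec.{1} _ @(fun x8 => @Decidable (@_root_.Exists.{(ku0+1)} _ @(fun x9 => @And (@Membership.mem.{ku0, ku0} _ _ _ (@x4 :: @x5) @x9) (@x1 @x9)))) @(fun x8 => @Decidable.isFalse _ (@List.decidableBEx._proof_4.{ku0}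 _ @x1 @x4 @x5 @x7 @x8)) @(fun x8 => @Decidable.isTrue _ (@List.decidableBEx._proof_3.{ku0} _ @x1 @x4 @x5 @x8)) @x6) @(fun x7 => @Decidable.isTrue _ (@List.decidableBEx._proof_2.{ku0} _ @x1 @x4 @x5 @x7)) (@x2 @x4)) @x3)
private theorem _root_.Cfsg.Agent.KO7551442.e89.{ku0} : @List.decidableBEx.{ku0} = @_root_.Cfsg.Agent.KO7551442.k89.{ku0} := by delta _root_.Cfsg.Agent.KO7551442.k89; funext a0 a1 a2 a3; refine (_root_.Cfsg.Agent.KO7551442.e9 (fun a3 => @List.decidableBEx.{ku0} a0 a1 a2 a3) ?_ (fun c0 c1 => ?_) a3 :) <;> (rfl')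
private noncomputable def _root_.Cfsg.Agent.KO7551442.k90.{ku0} : type_of% @Multiset.decidableExistsMultiset.{ku0} := @(fun (x0 : Sort (ku0+1)) (x1 : @Multiset.{ku0} @x0) (x2 : (x0 → Prop)) (x3 : @DecidablePred.{(ku0+1)} @x0 @x2) => @Cfsg.Agent.KO7551442.k42.{(ku0+1), 1} (@List.{ku0} @x0) (@Setoid.r.{(ku0+1)} (@List.{ku0} @x0) (@List.isSetoid.{ku0} @x0)) @(fun (x4 : @Quotient.{(ku0+1)} (@List.{ku0} @x0) (@List.isSetoid.{ku0} @x0)) => @Decidable (@_root_.Exists.{(ku0+1)} @x0 @(fun (x5 : x0) => @And (@Membership.mem.{ku0, ku0} @x0 (@Multiset.{ku0} @x0) (@Multiset.instMembership.{ku0} @x0) @x4 @x5) (@x2 @x5)))) (@Multiset.decidableExistsMultiset._proof_2.{ku0} @x0 @x2) @x1 @(fun (x4 : @List.{ku0} @x0) => @Decidable.rec.{1} (@_root_.Exists.{(ku0+1)} @x0 @(fun (x5 : x0) => @And (@Membership.mem.{ku0, ku0} @x0 (@List.{ku0} @x0) (@List.instMembership.{ku0} @x0) @x4 @x5) (@x2 @x5))) @(fun (x5 : @Decidable (@_root_.Exists.{(ku0+1)}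 @x0 @(fun (x5 : x0) => @And (@Membership.mem.{ku0, ku0} @x0 (@List.{ku0} @x0) (@List.instMembership.{ku0} @x0) @x4 @x5) (@x2 @x5)))) => @Decidable (@_root_.Exists.{(ku0+1)} @x0 @(fun (x6 : x0) => @And (@Membership.mem.{ku0, ku0} @x0 (@Multiset.{ku0} @x0) (@Multiset.instMembership.{ku0} @x0) (@Quotient.mk.{(ku0+1)} (@List.{ku0} @x0) (@List.isSetoid.{ku0} @x0) @x4) @x6) (@x2 @x6)))) @(fun (x5 : @Not (@_root_.Exists.{(ku0+1)} @x0 @(fun (x5 : x0) => @And (@Membership.mem.{ku0, ku0} @x0 (@List.{ku0} @x0) (@List.instMembership.{ku0} @x0) @x4 @x5) (@x2 @x5)))) => @Decidable.isFalse (@_root_.Exists.{(ku0+1)} @x0 @(fun (x6 : x0) => @And (@Membership.mem.{ku0, ku0} @x0 (@Multiset.{ku0} @x0) (@Multiset.instMembership.{ku0} @x0) (@Quotient.mk.{(ku0+1)} (@List.{ku0} @x0) (@List.isSetoid.{ku0} @x0) @x4) @x6) (@x2 @x6))) (@decidable_of_decidable_of_iff._proof_1 (@_root_.Exists.{(ku0+1)} @x0 @(fun (x6 : x0) => @And (@Membership.mem.{ku0, ku0}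 @x0 (@List.{ku0} @x0) (@List.instMembership.{ku0} @x0) @x4 @x6) (@x2 @x6))) (@_root_.Exists.{(ku0+1)} @x0 @(fun (x6 : x0) => @And (@Membership.mem.{ku0, ku0} @x0 (@Multiset.{ku0} @x0) (@Multiset.instMembership.{ku0} @x0) (@Quotient.mk.{(ku0+1)} (@List.{ku0} @x0) (@List.isSetoid.{ku0} @x0) @x4) @x6) (@x2 @x6))) (@Multiset.decidableExistsMultiset._proof_1.{ku0} @x0 @x2 @x4) @x5)) @(fun (x5 : @_root_.Exists.{(ku0+1)} @x0 @(fun (x5 : x0) => @And (@Membership.mem.{ku0, ku0} @x0 (@List.{ku0} @x0) (@List.instMembership.{ku0} @x0) @x4 @x5) (@x2 @x5))) => @Decidable.isTrue (@_root_.Exists.{(ku0+1)} @x0 @(fun (x6 : x0) => @And (@Membership.mem.{ku0, ku0} @x0 (@Multiset.{ku0} @x0) (@Multiset.instMembership.{ku0} @x0) (@Quotient.mk.{(ku0+1)} (@List.{ku0} @x0) (@List.isSetoid.{ku0} @x0) @x4) @x6) (@x2 @x6))) (@Iff.mp (@_root_.Exists.{(ku0+1)} @x0 @(fun (x6 : x0) => @And (@Membership.mem.{ku0, ku0} @x0 (@List.{ku0} @x0) (@List.instMembership.{ku0}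 @x0) @x4 @x6) (@x2 @x6))) (@_root_.Exists.{(ku0+1)} @x0 @(fun (x6 : x0) => @And (@Membership.mem.{ku0, ku0} @x0 (@Multiset.{ku0} @x0) (@Multiset.instMembership.{ku0} @x0) (@Quotient.mk.{(ku0+1)} (@List.{ku0} @x0) (@List.isSetoid.{ku0} @x0) @x4) @x6) (@x2 @x6))) (@Multiset.decidableExistsMultiset._proof_1.{ku0} @x0 @x2 @x4) @x5)) (@Cfsg.Agent.KO7551442.k89.{ku0} @x0 @x2 @x3 @x4)))
private theorem _root_.Cfsg.Agent.KO7551442.e90.{ku0} : @Multiset.decidableExistsMultiset.{ku0} = @_root_.Cfsg.Agent.KO7551442.k90.{ku0} := by delta _root_.Cfsg.Agent.KO7551442.k90; rewrite [← Cfsg.Agent.KO7551442.e89.{ku0}, ← Cfsg.Agent.KO7551442.e42.{(ku0+1), 1}]; rfl'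
private noncomputable def _root_.Cfsg.Agent.KO7551442.k91.{ku0} : type_of% @Multiset.decidableDexistsMultiset.{ku0} := @(fun x0 x1 x2 x3 => @Decidable.rec.{1} _ @(fun x4 => @Decidable (@_root_.Exists.{(ku0+1)} _ @(fun x5 => @_root_.Exists.{0} _ @(fun x6 => @x2 @x5 @x6)))) @(fun x4 => @Decidable.isFalse _ (@decidable_of_decidable_of_iff._proof_1 _ _ (@Multiset.decidableDexistsMultiset._proof_1.{ku0} _ _ _) @x4)) @(fun x4 => @Decidable.isTrue _ (@Iff.mp _ _ (@Multiset.decidableDexistsMultiset._proof_1.{ku0} _ _ _) @x4)) (@Cfsg.Agent.KO7551442.k90.{ku0} _ _ @(fun x4 => @x2 (@Subtype.val.{(ku0+1)} _ @(fun x5 => @Membership.mem.{ku0, ku0} _ _ _ @x1 @x5) @x4) (@Multiset.decidableDforallMultiset._proof_1.{ku0} _ _ @x4)) @(fun x4 => @x3 (@Subtype.val.{(ku0+1)} _ @(fun x5 => @Membership.mem.{ku0, ku0} _ _ _ @x1 @x5) @x4) (@Multiset.decidableDforallMultiset._proof_1.{ku0} _ _ @x4))))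
private theorem _root_.Cfsg.Agent.KO7551442.e91.{ku0} : @Multiset.decidableDexistsMultiset.{ku0} = @_root_.Cfsg.Agent.KO7551442.k91.{ku0} := by delta _root_.Cfsg.Agent.KO7551442.k91; rewrite [← Cfsg.Agent.KO7551442.e90.{ku0}]; rfl'
private noncomputable def _root_.Cfsg.Agent.KO7551442.k92.{ku0} : type_of% @Finset.decidableDExistsFinset.{ku0} := @(fun x0 x1 x2 x3 => @Cfsg.Agent.KO7551442.k91.{ku0} _ _ _ @x3)
private theorem _root_.Cfsg.Agent.KO7551442.e92.{ku0} : @Finset.decidableDExistsFinset.{ku0} = @_root_.Cfsg.Agent.KO7551442.k92.{ku0} := by delta _root_.Cfsg.Agent.KO7551442.k92; rewrite [← Cfsg.Agent.KO7551442.e91.{ku0}]; rfl'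
private noncomputable def _root_.Cfsg.Agent.KO7551442.k93.{ku0} : type_of% @Finset.decidableExistsAndFinset.{ku0} := @(fun x0 x1 x2 x3 => @Decidable.rec.{1} _ @(fun x4 => @Decidable (@_root_.Exists.{(ku0+1)} _ @(fun x5 => @And (@Membership.mem.{ku0, ku0} _ _ _ @x1 @x5) (@x2 @x5)))) @(fun x4 => @Decidable.isFalse _ (@decidable_of_decidable_of_iff._proof_1 _ _ (@Finset.decidableExistsAndFinset._proof_1.{ku0} _ _ _) @x4)) @(fun x4 => @Decidable.isTrue _ (@Iff.mp _ _ (@Finset.decidableExistsAndFinset._proof_1.{ku0} _ _ _) @x4)) (@Cfsg.Agent.KO7551442.k92.{ku0} _ _ @(fun x4 x5 => @x2 @x4) @(fun x4 x5 => @x3 @x4)))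
private theorem _root_.Cfsg.Agent.KO7551442.e93.{ku0} : @Finset.decidableExistsAndFinset.{ku0} = @_root_.Cfsg.Agent.KO7551442.k93.{ku0} := by delta _root_.Cfsg.Agent.KO7551442.k93; rewrite [← Cfsg.Agent.KO7551442.e92.{ku0}]; rfl'
private noncomputable def _root_.Cfsg.Agent.KO7551442.k94.{ku0} : type_of% @Fintype.decidableExistsFintype.{ku0} := @(fun x0 x1 x2 x3 => @Decidable.rec.{1} _ @(fun x4 => @Decidable (@_root_.Exists.{(ku0+1)} _ @(fun x5 => @x1 @x5))) @(fun x4 => @Decidable.isFalse _ (@decidable_of_decidable_of_iff._proof_1 _ _ (@Fintype.decidableExistsFintype._proof_1.{ku0} _ _ _) @x4)) @(fun x4 => @Decidable.isTrue _ (@Iff.mp _ _ (@Fintype.decidableExistsFintype._proof_1.{ku0} _ _ _) @x4)) (@Cfsg.Agent.KO7551442.k93.{ku0} _ _ _ @x2))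
private theorem _root_.Cfsg.Agent.KO7551442.e94.{ku0} : @Fintype.decidableExistsFintype.{ku0} = @_root_.Cfsg.Agent.KO7551442.k94.{ku0} := by delta _root_.Cfsg.Agent.KO7551442.k94; rewrite [← Cfsg.Agent.KO7551442.e93.{ku0}]; rfl'

set_option synthInstance.maxHeartbeats 400000 in
set_option synthInstance.maxSize 2000 in
/-- symmetric invertible matrices of size 3 over the field with two elements are congruent to the identity -/
theorem key : ∀ a b c d e f : ZMod 2, a * (d * f - e * e) - b * (b * f - e * c) + c * (b * e - d * c) ≠ 0 →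
    ∃ u0 u1 u2 u3 u4 u5 u6 u7 u8 : ZMod 2, u0 * u0 + u1 * u1 + u2 * u2 = a ∧ u0 * u3 + u1 * u4 + u2 * u5 = b ∧
      u0 * u6 + u1 * u7 + u2 * u8 = c ∧ u3 * u3 + u4 * u4 + u5 * u5 = d ∧ u3 * u6 + u4 * u7 + u5 * u8 = e ∧
      u6 * u6 + u7 * u7 + u8 * u8 = f := by (first | (refine of_decide_eq_true ?_; rewrite [Cfsg.Agent.KO7551442.e0, Cfsg.Agent.KO7551442.e88.{0}, Cfsg.Agent.KO7551442.e20, Cfsg.Agent.KO7551442.e21, Cfsg.Agent.KO7551442.e66, Cfsg.Agent.KO7551442.e94.{0}, Cfsg.Agent.KO7551442.e3]; decide +kernel) | decide +kernel)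

theorem sq_zmod : ∀ a : ZMod 2, a ^ 2 = a := by decide

theorem exists_U {s : Matrix (Fin 3) (Fin 3) (ZMod 2)} (hs : sᵀ = s) (hd : s.det ≠ 0) :
    ∃ U : Matrix (Fin 3) (Fin 3) (ZMod 2), U * Uᵀ = s := by
  have h10 : s 1 0 = s 0 1 := congrFun (congrFun hs 0) 1
  have h20 : s 2 0 = s 0 2 := congrFun (congrFun hs 0) 2
  have h21 : s 2 1 = s 1 2 := congrFun (congrFun hs 1) 2
  obtain ⟨u0, u1, u2, u3, u4, u5, u6, u7, u8, e1, e2, e3, e4, e5, e6⟩ := key (s 0 0) (s 0 1) (s 0 2) (s 1 1) (s 1 2) (s 2 2) (by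
    intro h0
    apply hd
    rw [det_fin_three, h10, h20, h21, ← h0]
    ring)
  refine ⟨!![u0, u1, u2; u3, u4, u5; u6, u7, u8], ?_⟩
  ext i j
  rw [mul_apply, Fin.sum_univ_three]
  fin_cases i <;> fin_cases j <;>
    simp [h10, h20, h21, ← e1, ← e2, ← e3, ← e4, ← e5, ← e6] <;> ring

variable {K : Type*} [Field K] [IsAlgClosed K] [CharP K 2]

/-- **Lang's theorem for orthogonal matrices of size 3.** -/
theorem lang_o3_gen {A : SpecialLinearGroup (Fin 3) K} (h : A.1 * A.1.transpose = 1) :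
    ∃ Y : SpecialLinearGroup (Fin 3) K, Y.1 * Y.1.transpose = 1 ∧ ∀ i j, Y.1 i j ^ 2 = (Y.1 * A.1) i j := by
  classical
  have hp : Fact (Nat.Prime 2) := ⟨Nat.prime_two⟩
  obtain ⟨g, hg⟩ : ∃ g : GL (Fin 3) K, g.1 = A.1 := ⟨A.toGL, rfl⟩
  obtain ⟨x, hx⟩ := Cfsg.Agent.H192.lang_gl 2 1 le_rfl g
  obtain ⟨y, hy⟩ : ∃ y : GL (Fin 3) K, y = x⁻¹ := ⟨_, rfl⟩
  have h1 : GeneralLinearGroup.map (iterateFrobenius K 2 1) y = y * g := by
    rw [hx, hy, map_inv, inv_mul_cancel_left]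
  have h2 : ∀ i j, y.1 i j ^ 2 = (y.1 * A.1) i j := by
    intro i j
    have h3 := congrArg (fun z : GL (Fin 3) K => z.1 i j) h1
    simp only [Units.val_mul, hg] at h3
    rw [← h3]
    change _ = iterateFrobenius K 2 1 (y.1 i j)
    rw [iterateFrobenius_def, pow_one]
  -- the Gram matrix
  obtain ⟨S, hS⟩ : ∃ S, S = y.1 * y.1ᵀ := ⟨_, rfl⟩
  have hym : y.1.map (frobenius K 2) = y.1 * A.1 := by
    ext i j
    rw [map_apply, frobenius_def, h2]
  have hSm : S.map (frobenius K 2) = S := by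
    rw [hS, Matrix.map_mul, transpose_map, hym, transpose_mul, Matrix.mul_assoc, ← Matrix.mul_assoc A.1, h,
      Matrix.one_mul]
  have hS2 : ∀ i j, S i j ^ 2 = S i j := by
    intro i j
    have h3 := congrFun (congrFun hSm i) j
    rwa [map_apply, frobenius_def] at h3
  let f : ZMod 2 →+* K := ZMod.castHom dvd_rfl K
  have h3 : ∀ i j, ∃ a : ZMod 2, f a = S i j := by
    intro i j
    have h4 : S i j * (S i j - 1) = 0 := by
      have := hS2 i j
      linear_combination this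
    rcases mul_eq_zero.1 h4 with h5 | h5
    · exact ⟨0, by rw [map_zero, h5]⟩
    · exact ⟨1, by rw [map_one, sub_eq_zero.1 h5]⟩
  choose s hs using h3
  obtain ⟨s', hs'⟩ : ∃ s' : Matrix (Fin 3) (Fin 3) (ZMod 2), s' = Matrix.of s := ⟨_, rfl⟩
  have hsS : s'.map f = S := by
    ext i j
    rw [map_apply, hs']
    exact hs i j
  have hst : s'ᵀ = s' := by
    have hinj : Function.Injective f := f.injective
    ext i j
    apply hinj
    have h4 : Sᵀ = S := by rw [hS, transpose_mul, transpose_transpose]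
    have h5 := congrFun (congrFun h4 i) j
    rw [← hsS, transpose_apply, map_apply, map_apply] at h5
    exact h5
  have hsd : s'.det ≠ 0 := by
    intro h0
    have h4 : S.det = 0 := by
      rw [← hsS, ← RingHom.mapMatrix_apply, ← RingHom.map_det, h0, map_zero]
    rw [hS, det_mul, det_transpose] at h4
    have h5 : y.1.det ≠ 0 := by
      have := (GeneralLinearGroup.det y).ne_zero
      exact this
    exact mul_ne_zero h5 h5 h4
  obtain ⟨U, hU⟩ := exists_U hst hsd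
  have hUd : IsUnit U.det := by
    rw [isUnit_iff_ne_zero]
    intro h0
    apply hsd
    rw [← hU, det_mul, h0, zero_mul]
  obtain ⟨W, hW⟩ : ∃ W, W = U⁻¹ := ⟨_, rfl⟩
  have hWU : W * U = 1 := by rw [hW, nonsing_inv_mul U hUd]
  have hUW : Uᵀ * Wᵀ = 1 := by rw [← transpose_mul, hWU, transpose_one]
  obtain ⟨Y, hY⟩ : ∃ Y, Y = W.map f * y.1 := ⟨_, rfl⟩
  have hYY : Y * Yᵀ = 1 := by
    have h4 : (W * s' * Wᵀ).map f = 1 := by
      rw [← hU, Matrix.mul_assoc, Matrix.mul_assoc, hUW, Matrix.mul_one, hWU, Matrix.map_one f (map_zero f) (map_one f)]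
    rw [Matrix.map_mul, Matrix.map_mul, hsS, hS] at h4
    rw [hY, transpose_mul, ← transpose_map, ← h4]
    simp only [Matrix.mul_assoc]
  have hY2 : Y.map (frobenius K 2) = Y * A.1 := by
    have h4 : (W.map f).map (frobenius K 2) = W.map f := by
      ext i j
      rw [map_apply, map_apply, frobenius_def, ← map_pow]
      congr 1
      exact sq_zmod _
    rw [hY, Matrix.map_mul, h4, hym, Matrix.mul_assoc]
  have hdet : Y.det = 1 := by
    have h4 := congrArg det hYY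
    rw [det_mul, det_transpose, det_one] at h4
    have h5 : (Y.det - 1) ^ 2 = 0 := by
      have h2' : (2 : K) = 0 := CharTwo.two_eq_zero
      linear_combination h4 + (1 - Y.det) * h2'
    exact sub_eq_zero.1 (pow_eq_zero_iff two_ne_zero |>.1 h5)
  refine ⟨⟨Y, hdet⟩, hYY, fun i j => ?_⟩
  have h4 := congrFun (congrFun hY2 i) j
  rwa [map_apply, frobenius_def] at h4

/-- over the algebraic closure of the field with two elements -/
theorem lang_o3 {A : SpecialLinearGroup (Fin 3) (AlgebraicClosure (ZMod 2))} (h : A.1 * A.1.transpose = 1) :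
    ∃ Y : SpecialLinearGroup (Fin 3) (AlgebraicClosure (ZMod 2)), Y.1 * Y.1.transpose = 1 ∧
      ∀ i j, Y.1 i j ^ 2 = (Y.1 * A.1) i j :=
  haveI : CharP (AlgebraicClosure (ZMod 2)) 2 :=
    charP_of_injective_algebraMap (algebraMap (ZMod 2) (AlgebraicClosure (ZMod 2))).injective 2
  lang_o3_gen h

end Cfsg.Agent.H531.L34
end

-- part: H5/L34/Norm
section
/-!
# S5917 (`L₃(4)` in `E₈(2)`): the normal form of `E0 : Q₈`, type `A₂⁴` (helper5)

`frameQ` : the frame of `E0` can be chosen such that the generators `i`, `j` of `Q₈` are `gi`, `gj`.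
-/

set_option autoImplicit false
set_option linter.unusedSectionVars false
set_option maxRecDepth 100000

namespace Cfsg.Agent.H5.L34

open CoxeterSystem Cfsg Cfsg.Lie Cfsg.Lie.ChevalleyDatum
open Cfsg.Agent.ChevalleyStructure Cfsg.Agent.ChevalleyStructure.Elts Cfsg.Agent.ChevalleyStructure.CoxeterGeom
  Cfsg.Agent.ChevalleyStructure.CoxeterGeomTypes Cfsg.Agent.ChevalleyStructure.NPerm
open Cfsg.Agent.Tits.Roots Cfsg.Agent.Tits.Core Cfsg.Agent.Nodes Cfsg.Agent.Nodes.Reps Cfsg.Agent.Nodes.BNOf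
  Cfsg.Agent.Nodes.RGDChev Cfsg.Agent.Nodes.Bruhat Cfsg.Agent.Nodes.SubComb Cfsg.Agent.Nodes.Coroot
open Cfsg.Agent.KFacts.RgdField Cfsg.Agent.KFacts.RgdChevCoord Cfsg.Agent.BpExc.TorCent Cfsg.Agent.BpExc.TorChev
open Cfsg.Agent.GpExc.Field Cfsg.Agent.BpExc.Tow Cfsg.Agent.BpExc.TowChev Cfsg.Agent.BpExc.Fr
  Cfsg.Agent.BpExc.LangFr Cfsg.Agent.LangThm Cfsg.Agent.BpExc Cfsg.Agent.H129.TorusChar Cfsg.Agent.H129.TorusMain
open Cfsg.Agent.BpExc.RowsUntw (e8T)
open Cfsg.Agent.H129.TorusUntw (phi)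
open Cfsg.Agent.H939.L64 (KK E2 em)
open Cfsg.Agent.H413.L64 (charKK locKK)
open Cfsg.Agent.H939.L64 (aK)
open Cfsg.Agent.H876.L64 (aK_mul aK_smul)
open Cfsg.Agent.H413.L16 (er eq_of_er)
open Cfsg.Agent.H201.L34 (V1 V2 w1 w2 qi qj gi gj gz aK_gi aK_gj aK_t1 aK_t2 q_cw qi_lt qj_lt gi_gi gj_gj gz_gz gi_gj gz_gi
  gz_gj phi_gi phi_gj phi_gz)

/-! ### matrices -/

theorem th_eq_iff {A : S3} : th A = A ↔ A.1 * A.1.transpose = 1 := by
  constructor
  · intro h
    have h1 : (A⁻¹).1 = A.1.transpose := by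
      have h2 := congrArg (fun B : S3 => B.1.transpose) h
      simp only [th_coe, Matrix.transpose_transpose] at h2
      exact h2
    rw [← h1, ← Matrix.SpecialLinearGroup.coe_mul, mul_inv_cancel, Matrix.SpecialLinearGroup.coe_one]
  · intro h
    apply Subtype.ext
    rw [th_coe]
    have h1 : (A⁻¹).1 = A.1.transpose := by
      have h2 : (A⁻¹).1 * (A.1 * A.1.transpose) = A.1.transpose := by
        rw [← mul_assoc, ← Matrix.SpecialLinearGroup.coe_mul, inv_mul_cancel, Matrix.SpecialLinearGroup.coe_one, one_mul]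
      rw [h, mul_one] at h2
      exact h2
    rw [h1, Matrix.transpose_transpose]

theorem th_fm (A : S3) : th (fm A) = fm (th A) := by
  apply Subtype.ext
  ext i j
  rw [th_coe, ← map_inv, Matrix.transpose_apply, fm_coe, fm_coe, th_coe, Matrix.transpose_apply]

theorem mul_transpose_inv (C : S3) : (C⁻¹).1.transpose * C.1.transpose = 1 := by
  rw [← Matrix.transpose_mul, ← Matrix.SpecialLinearGroup.coe_mul, mul_inv_cancel, Matrix.SpecialLinearGroup.coe_one,
    Matrix.transpose_one]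

/-- `C C⁻ᵀ` a scalar of order dividing three: `C` is symmetric -/
theorem symm_of_scalar {C : S3} {ζ : KK} (h3 : ζ ^ 3 = 1) (h : (C * th C).1 = ζ • (1 : Matrix (Fin 3) (Fin 3) KK)) :
    C.1.transpose = C.1 := by
  have h1 : C.1 = ζ • C.1.transpose := by
    have h2 : (C * th C).1 * C.1.transpose = C.1 := by
      rw [Matrix.SpecialLinearGroup.coe_mul, th_coe, mul_assoc, mul_transpose_inv, mul_one]
    rw [h, smul_mul_assoc, one_mul] at h2
    exact h2.symm
  have h2 : C.1.transpose = ζ • C.1 := by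
    conv_lhs => rw [h1]
    rw [Matrix.transpose_smul, Matrix.transpose_transpose]
  have h4 : C.1 = ζ ^ 2 • C.1 := by
    conv_lhs => rw [h1, h2]
    rw [smul_smul, pow_two]
  have h5 : ζ ^ 2 = 1 := by
    have h6 : C.1 * (C⁻¹).1 = ζ ^ 2 • (C.1 * (C⁻¹).1) := by
      conv_lhs => rw [h4]
      rw [smul_mul_assoc]
    rw [← Matrix.SpecialLinearGroup.coe_mul, mul_inv_cancel, Matrix.SpecialLinearGroup.coe_one] at h6
    have h7 := congrFun (congrFun h6 0) 0
    rw [Matrix.smul_apply, Matrix.one_apply_eq, smul_eq_mul, mul_one] at h7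
    exact h7.symm
  have h6 : ζ = 1 := by
    calc ζ = ζ * ζ ^ 2 := by rw [h5, mul_one]
      _ = ζ ^ 3 := by ring
      _ = 1 := h3
  rw [h2, h6, one_smul]

/-- the tuples of orthogonal matrices -/
def OO (A : Fin 4 → S3) : Prop := ∀ k, th (A k) = A k

theorem OO.mul {A B : Fin 4 → S3} (hA : OO A) (hB : OO B) : OO (A * B) := fun k => by
  rw [Pi.mul_apply, map_mul, hA k, hB k]

theorem OO.inv {A : Fin 4 → S3} (hA : OO A) : OO A⁻¹ := fun k => by
  rw [Pi.inv_apply, map_inv, hA k]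

theorem OO.eq_one {A : Fin 4 → S3} (hA : OO A) (h : Psi A = 1) : A = 1 := by
  funext k
  obtain ⟨ζ, h3, hk⟩ := Psi_ker h k
  have h1 := th_eq_iff.1 (hA k)
  rw [hk, Matrix.transpose_smul, Matrix.transpose_one, smul_mul_smul_comm, one_mul] at h1
  have h2 : ζ * ζ = 1 := by
    have h7 := congrFun (congrFun h1 0) 0
    rwa [Matrix.smul_apply, Matrix.one_apply_eq, smul_eq_mul, mul_one] at h7
  have h4 : ζ = 1 := by
    calc ζ = ζ * (ζ * ζ) := by rw [h2, mul_one]
      _ = ζ ^ 3 := by ring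
      _ = 1 := h3
  apply Subtype.ext
  rw [hk, h4, one_smul]
  rfl

theorem OO.inj {A B : Fin 4 → S3} (hA : OO A) (hB : OO B) (h : Psi A = Psi B) : A = B := by
  have h1 : Psi (A * B⁻¹) = 1 := by rw [map_mul, map_inv, h, mul_inv_cancel]
  have h2 := (hA.mul hB.inv).eq_one h1
  exact mul_inv_eq_one.1 h2

/-- **elements fixed by `z`** -/
theorem exists_OO {A : Fin 4 → S3} (h : Psi (fun k => th (A k)) = Psi A) : ∃ A', OO A' ∧ Psi A' = Psi A := by
  have h1 : Psi (A⁻¹ * fun k => th (A k)) = 1 := by rw [map_mul, map_inv, h, inv_mul_cancel]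
  obtain ⟨S, hS⟩ : ∃ S, S = A⁻¹ * fun k => th (A k) := ⟨_, rfl⟩
  rw [← hS] at h1
  refine ⟨A * (S * S), fun k => ?_, by rw [map_mul, map_mul, h1, mul_one, mul_one]⟩
  rw [th_eq_iff]
  obtain ⟨ζ, h3, hk⟩ := Psi_ker h1 k
  have h4 : (A k).1 * (A k).1.transpose = ζ ^ 2 • (1 : Matrix (Fin 3) (Fin 3) KK) := by
    have h5 : th (A k) = A k * S k := by rw [hS, Pi.mul_apply, Pi.inv_apply, mul_inv_cancel_left]
    have h6 : (th (A k)).1 = ζ • (A k).1 := by
      rw [h5, Matrix.SpecialLinearGroup.coe_mul, hk, mul_smul_comm, mul_one]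
    have h7 : (A k).1.transpose = ζ ^ 2 • ((A k)⁻¹).1 := by
      have h8 : ((A k)⁻¹).1.transpose = ζ • (A k).1 := by rw [← h6]; rfl
      have h9 : ((A k)⁻¹).1 = ζ • (A k).1.transpose := by
        have := congrArg Matrix.transpose h8
        rwa [Matrix.transpose_transpose, Matrix.transpose_smul] at this
      rw [h9, smul_smul]
      have : ζ ^ 2 * ζ = 1 := by rw [← h3]; ring
      rw [this, one_smul]
    rw [h7, mul_smul_comm]
    have : (A k).1 * ((A k)⁻¹).1 = 1 := by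
      rw [← Matrix.SpecialLinearGroup.coe_mul, mul_inv_cancel, Matrix.SpecialLinearGroup.coe_one]
    rw [this]
  have h5 : ((A * (S * S)) k).1 = ζ ^ 2 • (A k).1 := by
    rw [Pi.mul_apply, Pi.mul_apply, Matrix.SpecialLinearGroup.coe_mul, Matrix.SpecialLinearGroup.coe_mul, hk,
      smul_mul_smul_comm, one_mul, mul_smul_comm, mul_one, ← pow_two]
  rw [h5, Matrix.transpose_smul, smul_mul_smul_comm, h4, smul_smul]
  have : ζ ^ 2 * ζ ^ 2 * ζ ^ 2 = 1 := by
    calc ζ ^ 2 * ζ ^ 2 * ζ ^ 2 = (ζ ^ 3) ^ 2 := by ring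
      _ = 1 := by rw [h3, one_pow]
  rw [this, one_smul]

/-! ### the action of `Q₈` on the torus elements -/

section tor

variable {t1 t2 : ↥(chevE8.group KK)} {ζ : KK} (hζ : IsPrimitiveRoot ζ 3) (ht1 : t1 ∈ TT chevE8 KK)
  (ht2 : t2 ∈ TT chevE8 KK) (hv1 : ∀ i, cX e8T t1 (sr i) = ζ ^ (V1 i).val)
  (hv2 : ∀ i, cX e8T t2 (sr i) = ζ ^ (V2 i).val)

theorem qcw {s : ℕ} (hs : s < 240) : w1 (qi s) = -w2 s ∧ w2 (qi s) = w1 s ∧
    w1 (qj s) = -(w1 s + w2 s) ∧ w2 (qj s) = -(w1 s - w2 s) :=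
  of_decide_eq_true (List.all_eq_true.1 q_cw s (List.mem_range.2 hs))

theorem zmod3 : ∀ a b : ZMod 3, -a + b + a = b ∧ -(a + b) + (-(a - b)) = a ∧ -(a - b) + b = -(a + b) := by decide

theorem pow_add_val {ζ : KK} (hζ : IsPrimitiveRoot ζ 3) (a b : ZMod 3) : ζ ^ a.val * ζ ^ b.val = ζ ^ (a + b).val := by
  rw [← pow_add, H413.L64.pow_val hζ, Nat.cast_add, ZMod.natCast_zmod_val, ZMod.natCast_zmod_val]

include hζ ht1 ht2 hv1 hv2

theorem gi_t1 : gi * t1 = t2 * gi := by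
  apply eq_of_er
  intro s hs
  rw [aK_mul, aK_mul, aK_t1 ht1 hζ hv1 hs, aK_smul, aK_gi hs, aK_t2 ht2 hζ hv2 (qi_lt hs), (qcw hs).2.1]

theorem gi_t2 : t1 * (gi * t2) = gi := by
  apply eq_of_er
  intro s hs
  rw [aK_mul, aK_mul, aK_t2 ht2 hζ hv2 hs, aK_smul, aK_smul, aK_gi hs, aK_t1 ht1 hζ hv1 (qi_lt hs), (qcw hs).1, smul_smul,
    pow_add_val hζ, add_neg_cancel, ZMod.val_zero, pow_zero, one_smul]

theorem gj_t1 : gj * t1 = t1 * t2 * gj := by
  apply eq_of_er
  intro s hs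
  rw [aK_mul, aK_mul, aK_mul, aK_t1 ht1 hζ hv1 hs, aK_smul, aK_gj hs, aK_t2 ht2 hζ hv2 (qj_lt hs), aK_smul,
    aK_t1 ht1 hζ hv1 (qj_lt hs), smul_smul, pow_add_val hζ, (qcw hs).2.2.1, (qcw hs).2.2.2, add_comm,
    (zmod3 (w1 s) (w2 s)).2.1]

theorem gj_t2 : t2 * (gj * t2) = t1 * gj := by
  apply eq_of_er
  intro s hs
  rw [aK_mul, aK_mul, aK_mul, aK_t2 ht2 hζ hv2 hs, aK_smul, aK_smul, aK_gj hs, aK_t2 ht2 hζ hv2 (qj_lt hs),
    aK_t1 ht1 hζ hv1 (qj_lt hs), smul_smul, pow_add_val hζ, (qcw hs).2.2.1, (qcw hs).2.2.2, add_comm,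
    (zmod3 (w1 s) (w2 s)).2.2]

end tor

/-! ### the normal form over the algebraic closure -/

theorem conj_gi (B : Fin 4 → S3) : gi * Psi B = Psi ![th (B 1), B 0, B 3, th (B 2)] * gi := by
  rw [← gi_Psi]; group

theorem conj_gj (B : Fin 4 → S3) : gj * Psi B = Psi ![th (B 2), th (B 3), B 0, B 1] * gj := by
  rw [← gj_Psi]; group

theorem conj_gz (B : Fin 4 → S3) : gz * Psi B = Psi (fun k => th (B k)) * gz := by
  rw [← gz_Psi]; group

theorem OO.sI {B : Fin 4 → S3} (h : OO B) : (![th (B 1), B 0, B 3, th (B 2)] : Fin 4 → S3) = ![B 1, B 0, B 3, B 2] := by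
  rw [h 1, h 2]

theorem OO.sJ {B : Fin 4 → S3} (h : OO B) : (![th (B 2), th (B 3), B 0, B 1] : Fin 4 → S3) = ![B 2, B 3, B 0, B 1] := by
  rw [h 2, h 3]

theorem OO.sZ {B : Fin 4 → S3} (h : OO B) : (fun k => th (B k)) = B := funext h

theorem OO_mk {a b c d : S3} (ha : th a = a) (hb : th b = b) (hc : th c = c) (hd : th d = d) : OO ![a, b, c, d] := by
  intro k
  fin_cases k
  · exact ha
  · exact hb
  · exact hc
  · exact hd

/-- elements commuting with `gz` -/
theorem exists_OO_of {x n : ↥(chevE8.group KK)} (hn : gz * n = n * gz) {X : Fin 4 → S3} (hx : x = Psi X * n)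
    (h : gz * x = x * gz) : ∃ X', OO X' ∧ x = Psi X' * n := by
  have h1 : Psi (fun k => th (X k)) = Psi X := by
    rw [hx, ← mul_assoc, conj_gz, mul_assoc, hn, mul_assoc] at h
    exact mul_right_cancel h
  obtain ⟨X', h2, h3⟩ := exists_OO h1
  exact ⟨X', h2, by rw [hx, h3]⟩

/-- the second part of the normal form: the square is `gz` -/
theorem exists_y2 {a b : ↥(chevE8.group KK)} {A B : Fin 4 → S3} (ha : a = Psi A * gi) (hb : b = Psi B * gj)
    (haa : a * a = gz) (hbb : b * b = gz) (hab : a * b = gz * (b * a)) :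
    ∃ Y, OO Y ∧ a * Psi Y = Psi Y * gi ∧ b * Psi Y = Psi Y * gj := by
  have hza : gz * a = a * gz := by rw [← haa, mul_assoc]
  have hzb : gz * b = b * gz := by rw [← hbb, mul_assoc]
  obtain ⟨A', hA, ha'⟩ := exists_OO_of gz_gi ha hza
  obtain ⟨B', hB, hb'⟩ := exists_OO_of gz_gj hb hzb
  have e1 : A' * ![A' 1, A' 0, A' 3, A' 2] = 1 := by
    have hO : OO (A' * ![A' 1, A' 0, A' 3, A' 2]) := hA.mul (OO_mk (hA 1) (hA 0) (hA 3) (hA 2))
    apply hO.eq_one
    rw [ha'] at haa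
    have h1 : Psi A' * gi * (Psi A' * gi) = Psi (A' * ![A' 1, A' 0, A' 3, A' 2]) * gz := by
      rw [map_mul, ← hA.sI]
      calc Psi A' * gi * (Psi A' * gi) = Psi A' * (gi * Psi A') * gi := by group
        _ = _ := by rw [conj_gi, ← gi_gi]; group
    rw [h1] at haa
    exact mul_eq_right.1 haa
  have e2 : B' * ![B' 2, B' 3, B' 0, B' 1] = 1 := by
    have hO : OO (B' * ![B' 2, B' 3, B' 0, B' 1]) := hB.mul (OO_mk (hB 2) (hB 3) (hB 0) (hB 1))
    apply hO.eq_one
    rw [hb'] at hbb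
    have h1 : Psi B' * gj * (Psi B' * gj) = Psi (B' * ![B' 2, B' 3, B' 0, B' 1]) * gz := by
      rw [map_mul, ← hB.sJ]
      calc Psi B' * gj * (Psi B' * gj) = Psi B' * (gj * Psi B') * gj := by group
        _ = _ := by rw [conj_gj, ← gj_gj]; group
    rw [h1] at hbb
    exact mul_eq_right.1 hbb
  have e3 : A' * ![B' 1, B' 0, B' 3, B' 2] = B' * ![A' 2, A' 3, A' 0, A' 1] := by
    apply OO.inj (hA.mul (OO_mk (hB 1) (hB 0) (hB 3) (hB 2))) (hB.mul (OO_mk (hA 2) (hA 3) (hA 0) (hA 1)))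
    rw [ha', hb'] at hab
    have h1 : Psi A' * gi * (Psi B' * gj) = Psi (A' * ![B' 1, B' 0, B' 3, B' 2]) * (gi * gj) := by
      rw [map_mul, ← hB.sI]
      calc Psi A' * gi * (Psi B' * gj) = Psi A' * (gi * Psi B') * gj := by group
        _ = _ := by rw [conj_gi]; group
    have h2 : gz * (Psi B' * gj * (Psi A' * gi)) = Psi (B' * ![A' 2, A' 3, A' 0, A' 1]) * (gi * gj) := by
      rw [map_mul, ← hA.sJ, gi_gj]
      calc gz * (Psi B' * gj * (Psi A' * gi)) = (gz * Psi B') * (gj * Psi A') * gi := by group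
        _ = Psi B' * (gz * Psi ![th (A' 2), th (A' 3), A' 0, A' 1]) * gj * gi := by
          rw [conj_gz, hB.sZ, conj_gj]; group
        _ = _ := by
          rw [conj_gz]
          have : (fun k => th ((![th (A' 2), th (A' 3), A' 0, A' 1] : Fin 4 → S3) k)) =
              ![th (A' 2), th (A' 3), A' 0, A' 1] := by
            rw [hA.sJ]
            exact (OO_mk (hA 2) (hA 3) (hA 0) (hA 1)).sZ
          rw [this]
          group
    rw [h1, h2] at hab
    exact mul_right_cancel hab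
  have f1 := congrFun e1 0
  have f2 := congrFun e1 1
  have f3 := congrFun e1 2
  have f4 := congrFun e1 3
  have g1 := congrFun e2 0
  have g2 := congrFun e2 1
  have g3 := congrFun e2 2
  have g4 := congrFun e2 3
  have k1 := congrFun e3 0
  simp only [Pi.mul_apply, Pi.one_apply] at f1 f2 f3 f4 g1 g2 g3 g4 k1
  replace f1 : A' 0 * A' 1 = 1 := f1
  replace f2 : A' 1 * A' 0 = 1 := f2
  replace f3 : A' 2 * A' 3 = 1 := f3
  replace f4 : A' 3 * A' 2 = 1 := f4
  replace g1 : B' 0 * B' 2 = 1 := g1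
  replace g2 : B' 1 * B' 3 = 1 := g2
  replace g3 : B' 2 * B' 0 = 1 := g3
  replace g4 : B' 3 * B' 1 = 1 := g4
  replace k1 : A' 0 * B' 1 = B' 0 * A' 2 := k1
  have hinv : ∀ {x : S3}, th x = x → th x⁻¹ = x⁻¹ := fun {x} hx => by rw [map_inv, hx]
  have hmul : ∀ {x y : S3}, th x = x → th y = y → th (x * y) = x * y := fun {x y} hx hy => by rw [map_mul, hx, hy]
  obtain ⟨Y, hY⟩ : ∃ Y : Fin 4 → S3, Y = ![1, (A' 0)⁻¹, (B' 0)⁻¹, (A' 2)⁻¹ * (B' 0)⁻¹] := ⟨_, rfl⟩
  have hYO : OO Y := by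
    rw [hY]
    exact OO_mk (map_one th) (hinv (hA 0)) (hinv (hB 0)) (hmul (hinv (hA 2)) (hinv (hB 0)))
  refine ⟨Y, hYO, ?_, ?_⟩
  · rw [ha', mul_assoc, conj_gi, hYO.sI, ← mul_assoc, ← map_mul]
    congr 2
    rw [hY]
    funext k
    fin_cases k
    · show A' 0 * (A' 0)⁻¹ = 1
      exact mul_inv_cancel _
    · show A' 1 * 1 = (A' 0)⁻¹
      rw [mul_one]
      exact eq_inv_of_mul_eq_one_left f2
    · show A' 2 * ((A' 2)⁻¹ * (B' 0)⁻¹) = (B' 0)⁻¹
      exact mul_inv_cancel_left _ _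
    · show A' 3 * (B' 0)⁻¹ = (A' 2)⁻¹ * (B' 0)⁻¹
      rw [eq_inv_of_mul_eq_one_left f4]
  · rw [hb', mul_assoc, conj_gj, hYO.sJ, ← mul_assoc, ← map_mul]
    congr 2
    rw [hY]
    funext k
    fin_cases k
    · show B' 0 * (B' 0)⁻¹ = 1
      exact mul_inv_cancel _
    · show B' 1 * ((A' 2)⁻¹ * (B' 0)⁻¹) = (A' 0)⁻¹
      have h1 : B' 1 = (A' 0)⁻¹ * (B' 0 * A' 2) := by rw [← k1]; group
      rw [h1]
      group
    · show B' 2 * 1 = (B' 0)⁻¹
      rw [mul_one]
      exact eq_inv_of_mul_eq_one_left g3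
    · show B' 3 * (A' 0)⁻¹ = (A' 2)⁻¹ * (B' 0)⁻¹
      have h1 : B' 3 = (B' 1)⁻¹ := eq_inv_of_mul_eq_one_left g4
      have h2 : B' 1 = (A' 0)⁻¹ * (B' 0 * A' 2) := by rw [← k1]; group
      rw [h1, h2]
      group

section main

variable (hB : ∀ c : S3, c.1.transpose = c.1 → ∃ g : S3, g.1 * c.1 * g.1.transpose = 1)
  (hC : ∀ A : S3, A.1 * A.1.transpose = 1 → ∃ Y : S3, Y.1 * Y.1.transpose = 1 ∧ ∀ i j, Y.1 i j ^ 2 = (Y.1 * A.1) i j)

include hB in
/-- **the normal form over the algebraic closure** -/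
theorem exists_y {a b : ↥(chevE8.group KK)} {A B : Fin 4 → S3} (ha : a = Psi A * gi) (hb : b = Psi B * gj)
    (h4 : a * a * (a * a) = 1) (hbb : b * b = a * a) (hab : a * b = a * a * (b * a)) :
    ∃ Y, a * Psi Y = Psi Y * gi ∧ b * Psi Y = Psi Y * gj := by
  obtain ⟨C, hCd⟩ : ∃ C : Fin 4 → S3, C = A * ![th (A 1), A 0, A 3, th (A 2)] := ⟨_, rfl⟩
  have hc : a * a = Psi C * gz := by
    rw [ha, hCd, map_mul]
    calc Psi A * gi * (Psi A * gi) = Psi A * (gi * Psi A) * gi := by group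
      _ = _ := by rw [conj_gi, ← gi_gi]; group
  obtain ⟨C', hC'⟩ : ∃ C' : Fin 4 → S3, C' = fun k => th (C k) := ⟨_, rfl⟩
  have h1 : Psi (C * C') = 1 := by
    have h2 : Psi C * gz * (Psi C * gz) = Psi (C * C') := by
      rw [map_mul]
      have h3 : gz * Psi C = Psi C' * gz := by rw [hC']; exact conj_gz C
      calc Psi C * gz * (Psi C * gz) = Psi C * (gz * Psi C) * gz := by group
        _ = Psi C * Psi C' * (gz * gz) := by rw [h3]; group
        _ = _ := by rw [gz_gz, mul_one]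
    rw [← h2, ← hc]
    exact h4
  have hsym : ∀ k, (C k).1.transpose = (C k).1 := by
    intro k
    obtain ⟨ζ, h3, hk⟩ := Psi_ker h1 k
    rw [Pi.mul_apply, hC'] at hk
    exact symm_of_scalar h3 hk
  choose g hg using fun k => hB (C k) (hsym k)
  have hg' : ∀ k, g k * C k * (th (g k))⁻¹ = 1 := by
    intro k
    apply Subtype.ext
    rw [Matrix.SpecialLinearGroup.coe_mul, Matrix.SpecialLinearGroup.coe_mul, ← map_inv, th_coe, inv_inv, hg k]
    rfl
  have hgg : Psi g * (a * a) * (Psi g)⁻¹ = gz := by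
    rw [hc]
    obtain ⟨g', hgd⟩ : ∃ g' : Fin 4 → S3, g' = fun k => th (g k) := ⟨_, rfl⟩
    have h3 : gz * Psi g * gz⁻¹ = Psi g' := by rw [hgd]; exact gz_Psi g
    have h5 : g * C * g'⁻¹ = 1 := by
      funext k
      rw [Pi.mul_apply, Pi.mul_apply, Pi.inv_apply, hgd]
      exact hg' k
    calc Psi g * (Psi C * gz) * (Psi g)⁻¹ = Psi g * Psi C * (gz * Psi g * gz⁻¹)⁻¹ * gz := by group
      _ = Psi (g * C * g'⁻¹) * gz := by
        rw [h3, map_mul, map_mul, map_inv]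
      _ = gz := by rw [h5, map_one, one_mul]
  obtain ⟨a1, ha1⟩ : ∃ a1, a1 = Psi g * a * (Psi g)⁻¹ := ⟨_, rfl⟩
  obtain ⟨b1, hb1⟩ : ∃ b1, b1 = Psi g * b * (Psi g)⁻¹ := ⟨_, rfl⟩
  have i1 : a1 * a1 = gz := by
    rw [ha1, ← hgg]; group
  have i2 : b1 * b1 = gz := by
    rw [hb1, ← hgg, ← hbb]; group
  have i3 : a1 * b1 = gz * (b1 * a1) := by
    rw [ha1, hb1, ← hgg]
    calc Psi g * a * (Psi g)⁻¹ * (Psi g * b * (Psi g)⁻¹) = Psi g * (a * b) * (Psi g)⁻¹ := by group
      _ = _ := by rw [hab]; group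
  have j1 : a1 = Psi (g * A * (![th (g 1), g 0, g 3, th (g 2)])⁻¹) * gi := by
    rw [ha1, ha, map_mul, map_mul, map_inv]
    have h := conj_gi g
    have h' : gi * (Psi g)⁻¹ = (Psi ![th (g 1), g 0, g 3, th (g 2)])⁻¹ * gi := by
      rw [eq_inv_mul_iff_mul_eq, ← mul_assoc, ← h]; group
    calc Psi g * (Psi A * gi) * (Psi g)⁻¹ = Psi g * Psi A * (gi * (Psi g)⁻¹) := by group
      _ = _ := by rw [h']; group
  have j2 : b1 = Psi (g * B * (![th (g 2), th (g 3), g 0, g 1])⁻¹) * gj := by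
    rw [hb1, hb, map_mul, map_mul, map_inv]
    have h := conj_gj g
    have h' : gj * (Psi g)⁻¹ = (Psi ![th (g 2), th (g 3), g 0, g 1])⁻¹ * gj := by
      rw [eq_inv_mul_iff_mul_eq, ← mul_assoc, ← h]; group
    calc Psi g * (Psi B * gj) * (Psi g)⁻¹ = Psi g * Psi B * (gj * (Psi g)⁻¹) := by group
      _ = _ := by rw [h']; group
  obtain ⟨Y, -, h2, h3⟩ := exists_y2 j1 j2 i1 i2 i3
  refine ⟨g⁻¹ * Y, ?_, ?_⟩
  · rw [map_mul, map_inv]
    calc a * ((Psi g)⁻¹ * Psi Y) = (Psi g)⁻¹ * (Psi g * a * (Psi g)⁻¹ * Psi Y) := by group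
      _ = (Psi g)⁻¹ * (Psi Y * gi) := by rw [← ha1, h2]
      _ = _ := by group
  · rw [map_mul, map_inv]
    calc b * ((Psi g)⁻¹ * Psi Y) = (Psi g)⁻¹ * (Psi g * b * (Psi g)⁻¹ * Psi Y) := by group
      _ = (Psi g)⁻¹ * (Psi Y * gj) := by rw [← hb1, h3]
      _ = _ := by group

end main

/-! ### the Frobenius map -/

/-- the Frobenius map of the frame -/
noncomputable def Fa : MulAut ↥(chevE8.group KK) := by
  haveI := charKK
  exact MulAut.conj gz * phi chevE8 KK 2 1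

theorem Fa_apply (x : ↥(chevE8.group KK)) : Fa x = gz * phi chevE8 KK 2 1 x * gz⁻¹ := rfl

theorem Fa_gi : Fa gi = gi := by
  rw [Fa_apply, phi_gi, gz_gi, mul_inv_cancel_right]

theorem Fa_gj : Fa gj = gj := by
  rw [Fa_apply, phi_gj, gz_gj, mul_inv_cancel_right]

theorem Fa_Psi (B : Fin 4 → S3) : Fa (Psi B) = Psi fun k => th (fm (B k)) := by
  rw [Fa_apply, phi_Psi, gz_Psi]

theorem fm_eq {Y A : S3} (h : ∀ i j, Y.1 i j ^ 2 = (Y.1 * A.1) i j) : fm Y = Y * A := by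
  apply Subtype.ext
  ext i j
  rw [fm_coe, h, Matrix.SpecialLinearGroup.coe_mul]

/-- **Lang's theorem for the centraliser of `Q₈`** -/
theorem lang_Q {a b : ↥(chevE8.group KK)} {Y : Fin 4 → S3} (hFa : Fa a = a) (hFb : Fa b = b)
    (h1 : a * Psi Y = Psi Y * gi) (h2 : b * Psi Y = Psi Y * gj) :
    ∃ Y', Fa (Psi Y') = Psi Y' ∧ a * Psi Y' = Psi Y' * gi ∧ b * Psi Y' = Psi Y' * gj := by
  obtain ⟨P, hP⟩ : ∃ P, P = Psi Y := ⟨_, rfl⟩
  obtain ⟨u, hu⟩ : ∃ u, u = P⁻¹ * Fa P := ⟨_, rfl⟩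
  have hFP : Fa P = P * u := by rw [hu]; group
  rw [← hP] at h1 h2
  have e1 : gi * u = u * gi := by
    have h3 := congrArg Fa h1
    rw [map_mul, map_mul, hFa, Fa_gi, hFP] at h3
    have h4 : P * (gi * u) = P * (u * gi) := by
      calc P * (gi * u) = a * P * u := by rw [h1]; group
        _ = a * (P * u) := by group
        _ = _ := by rw [h3]; group
    exact mul_left_cancel h4
  have e2 : gj * u = u * gj := by
    have h3 := congrArg Fa h2
    rw [map_mul, map_mul, hFb, Fa_gj, hFP] at h3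
    have h4 : P * (gj * u) = P * (u * gj) := by
      calc P * (gj * u) = b * P * u := by rw [h2]; group
        _ = b * (P * u) := by group
        _ = _ := by rw [h3]; group
    exact mul_left_cancel h4
  have e3 : gz * u = u * gz := by
    rw [← gi_gi]
    calc gi * gi * u = gi * (gi * u) := mul_assoc _ _ _
      _ = gi * (u * gi) := by rw [e1]
      _ = gi * u * gi := (mul_assoc _ _ _).symm
      _ = u * gi * gi := by rw [e1]
      _ = _ := mul_assoc _ _ _
  have e4 : ∃ U, u = Psi U := by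
    refine ⟨Y⁻¹ * (fun k => th (fm (Y k))), ?_⟩
    rw [map_mul, map_inv, ← Fa_Psi, hu, hP]
  obtain ⟨U, hU⟩ := e4
  obtain ⟨U', hO, hU'⟩ := exists_OO_of (n := 1) (by rw [mul_one, one_mul]) (X := U) (by rw [mul_one]; exact hU) e3
  rw [mul_one] at hU'
  have f1 : (![U' 1, U' 0, U' 3, U' 2] : Fin 4 → S3) = U' := by
    apply OO.inj (OO_mk (hO 1) (hO 0) (hO 3) (hO 2)) hO
    rw [hU', conj_gi, hO.sI] at e1
    exact mul_right_cancel e1
  have f2 : (![U' 2, U' 3, U' 0, U' 1] : Fin 4 → S3) = U' := by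
    apply OO.inj (OO_mk (hO 2) (hO 3) (hO 0) (hO 1)) hO
    rw [hU', conj_gj, hO.sJ] at e2
    exact mul_right_cancel e2
  have g1 : U' 1 = U' 0 := congrFun f1 0
  have g2 : U' 2 = U' 0 := congrFun f2 0
  have g3 : U' 3 = U' 0 := by
    have : U' 3 = U' 1 := congrFun f2 1
    rw [this, g1]
  obtain ⟨Y1, k1, k2⟩ := Cfsg.Agent.H531.L34.lang_o3 (A := U' 0) (th_eq_iff.1 (hO 0))
  have k3 : fm Y1 = Y1 * U' 0 := fm_eq k2
  have k4 : th Y1⁻¹ = Y1⁻¹ := by rw [map_inv, th_eq_iff.2 k1]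
  obtain ⟨D, hD⟩ : ∃ D : Fin 4 → S3, D = fun _ => Y1⁻¹ := ⟨_, rfl⟩
  have hDO : OO D := fun k => by rw [hD]; exact k4
  have m1 : (![th (D 1), D 0, D 3, th (D 2)] : Fin 4 → S3) = D := by
    rw [hDO.sI, hD]
    funext k
    fin_cases k <;> rfl
  have m2 : (![th (D 2), th (D 3), D 0, D 1] : Fin 4 → S3) = D := by
    rw [hDO.sJ, hD]
    funext k
    fin_cases k <;> rfl
  refine ⟨Y * D, ?_, ?_, ?_⟩
  · rw [map_mul, map_mul, ← hP, hFP, hU', Fa_Psi, mul_assoc, ← map_mul]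
    congr 2
    funext k
    rw [Pi.mul_apply, th_fm, hDO k, hD]
    show U' k * fm Y1⁻¹ = Y1⁻¹
    rw [map_inv, k3]
    have : U' k = U' 0 := by
      fin_cases k
      · rfl
      · exact g1
      · exact g2
      · exact g3
    rw [this, _root_.mul_inv_rev, mul_inv_cancel_left]
  · rw [map_mul, ← hP, ← mul_assoc, h1, mul_assoc, conj_gi, m1, mul_assoc]
  · rw [map_mul, ← hP, ← mul_assoc, h2, mul_assoc, conj_gj, m2, mul_assoc]

theorem cube_one {t : ↥(chevE8.group KK)} {ζ : KK} (ht : t ∈ TT chevE8 KK) (hζ : IsPrimitiveRoot ζ 3)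
    {v : Fin 8 → ZMod 3} (hv : ∀ i, cX e8T t (sr i) = ζ ^ (v i).val) : t ^ 3 = 1 := by
  refine cX_inj e8T (pow_mem ht 3) (one_mem _) fun i => ?_
  rw [cX_pow e8T ht, cX_one, hv, ← pow_mul, mul_comm, pow_mul, hζ.pow_eq_one, one_pow]

/-- **the normal form of `E0 : Q₈`, type `A₂⁴`** -/
theorem frameQ {e1 e2 i j : E2} {z0 t1 t2 : ↥(chevE8.group KK)} {ζ : KK} (hζ : IsPrimitiveRoot ζ 3)
    (h1 : z0⁻¹ * em e1 * z0 = t1) (h2 : z0⁻¹ * em e2 * z0 = t2) (ht1 : t1 ∈ TT chevE8 KK) (ht2 : t2 ∈ TT chevE8 KK)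
    (hv1 : ∀ i, cX e8T t1 (sr i) = ζ ^ (V1 i).val) (hv2 : ∀ i, cX e8T t2 (sr i) = ζ ^ (V2 i).val)
    (hi1 : i * e1 * i⁻¹ = e2) (hi2 : i * e2 * i⁻¹ = e1⁻¹) (hj1 : j * e1 * j⁻¹ = e1 * e2)
    (hj2 : j * e2 * j⁻¹ = e1 * e2⁻¹) (hi4 : i ^ 4 = 1) (hji : j ^ 2 = i ^ 2) (hq : i * j * i⁻¹ = j⁻¹) :
    ∃ z : ↥(chevE8.group KK), z⁻¹ * em e1 * z = t1 ∧ z⁻¹ * em e2 * z = t2 ∧ z⁻¹ * em i * z = gi ∧
      z⁻¹ * em j * z = gj ∧ z⁻¹ * phi chevE8 KK 2 1 z = gz := by
  have hch := charKK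
  obtain ⟨z, hz1, hz2, hzf⟩ := frameZ hζ h1 h2 ht1 ht2 hv1 hv2
  obtain ⟨f, hf⟩ : ∃ f : E2 →* ↥(chevE8.group KK), ∀ x, f x = z⁻¹ * em x * z :=
    ⟨(MulAut.conj z⁻¹).toMonoidHom.comp em, fun x => by
      show z⁻¹ * em x * z⁻¹⁻¹ = _
      rw [inv_inv]⟩
  have hφz : phi chevE8 KK 2 1 z = z * gz := by rw [← hzf]; group
  have hcard : Nat.card (ZMod 2) = 2 ^ 1 := by simp
  have hF : ∀ x, Fa (f x) = f x := by
    intro x
    have hx : phi chevE8 KK 2 1 (em x) = em x :=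
      Cfsg.Agent.H378.TorFin.phi_emb' e8T (algebraMap (ZMod 2) KK) 2 hcard x
    rw [Fa_apply, hf, map_mul, map_mul, map_inv, hφz, hx]
    group
  have f1 : f e1 = t1 := by rw [hf, hz1]
  have f2 : f e2 = t2 := by rw [hf, hz2]
  obtain ⟨a, ha⟩ : ∃ a, a = f i := ⟨_, rfl⟩
  obtain ⟨b, hb⟩ : ∃ b, b = f j := ⟨_, rfl⟩
  have r1 : a * t1 * a⁻¹ = t2 := by rw [ha, ← f1, ← f2, ← map_inv, ← map_mul, ← map_mul, hi1]
  have r2 : a * t2 * a⁻¹ = t1⁻¹ := by rw [ha, ← f1, ← f2, ← map_inv, ← map_mul, ← map_mul, hi2, map_inv]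
  have r3 : b * t1 * b⁻¹ = t1 * t2 := by rw [hb, ← f1, ← f2, ← map_inv, ← map_mul, ← map_mul, hj1, map_mul]
  have r4 : b * t2 * b⁻¹ = t1 * t2⁻¹ := by
    rw [hb, ← f1, ← f2, ← map_inv, ← map_mul, ← map_mul, hj2, map_mul, map_inv]
  have hi4' : i * i * (i * i) = 1 := by rw [← pow_two, ← pow_two, ← pow_mul, hi4]
  have hji' : j * j = i * i := by rw [← pow_two, ← pow_two, hji]
  have r5 : a * a * (a * a) = 1 := by
    rw [ha, ← map_mul, ← map_mul, hi4', map_one]
  have r6 : b * b = a * a := by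
    rw [ha, hb, ← map_mul, ← map_mul, hji']
  have r7 : a * b = a * a * (b * a) := by
    have h3 : a * b * a⁻¹ = b⁻¹ := by rw [ha, hb, ← map_inv, ← map_inv, ← map_mul, ← map_mul, hq]
    have h4 : b⁻¹ = a * a * b := by
      rw [← r6]
      have h5 : b * b * (b * b) = 1 := by rw [r6, r5]
      calc b⁻¹ = b⁻¹ * (b * b * (b * b)) := by rw [h5, mul_one]
        _ = b * b * b := by group
    calc a * b = a * b * a⁻¹ * a := by group
      _ = _ := by rw [h3, h4]; group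
  have tc : t1 * t2 = t2 * t1 := H413.L64.TT_comm ht1 ht2
  have t13 := cube_one ht1 hζ hv1
  have t23 := cube_one ht2 hζ hv2
  -- the action of `gi`, `gj`
  have s1 : gi * t1 * gi⁻¹ = t2 := by rw [gi_t1 hζ ht1 ht2 hv1 hv2]; group
  have s2 : gi * t2 * gi⁻¹ = t1⁻¹ := by
    have h3 := gi_t2 hζ ht1 ht2 hv1 hv2
    have h4 : gi * t2 = t1⁻¹ * gi := by rw [eq_inv_mul_iff_mul_eq]; exact h3
    rw [h4]; group
  have s3 : gj * t1 * gj⁻¹ = t1 * t2 := by rw [gj_t1 hζ ht1 ht2 hv1 hv2]; group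
  have s4 : gj * t2 * gj⁻¹ = t1 * t2⁻¹ := by
    have h3 := gj_t2 hζ ht1 ht2 hv1 hv2
    have h4 : gj * t2 = t2⁻¹ * (t1 * gj) := by rw [eq_inv_mul_iff_mul_eq]; exact h3
    have h5 : t2⁻¹ * t1 = t1 * t2⁻¹ := by
      rw [inv_mul_eq_iff_eq_mul, ← mul_assoc, ← tc]; group
    rw [h4, ← mul_assoc, h5]; group
  have c1 : ∃ A, a * gi⁻¹ = Psi A := by
    refine cent_Psi hζ ht1 ht2 hv1 hv2 ?_ ?_
    · have h3 : gi⁻¹ * t1 = t2⁻¹ * gi⁻¹ := by
        have : t2⁻¹ = gi⁻¹ * t1 * gi := by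
          rw [inv_eq_iff_eq_inv, ← inv_inv t1, ← s2]; group
        rw [this]; group
      have h4 : a * t2⁻¹ = t1 * a := by
        have : t1 = a * t2⁻¹ * a⁻¹ := by rw [← inv_inv t1, ← r2]; group
        rw [this]; group
      rw [mul_assoc, h3, ← mul_assoc, h4, mul_assoc]
    · have h3 : gi⁻¹ * t2 = t1 * gi⁻¹ := by rw [← s1]; group
      have h4 : a * t1 = t2 * a := by rw [← r1]; group
      rw [mul_assoc, h3, ← mul_assoc, h4, mul_assoc]
  have c2 : ∃ B, b * gj⁻¹ = Psi B := by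
    have k1 : Commute (b * gj⁻¹) (t1 * t2) := by
      show b * gj⁻¹ * (t1 * t2) = t1 * t2 * (b * gj⁻¹)
      rw [← s3]
      calc b * gj⁻¹ * (gj * t1 * gj⁻¹) = b * t1 * b⁻¹ * (b * gj⁻¹) := by group
        _ = _ := by rw [r3, s3]
    have k2 : Commute (b * gj⁻¹) (t1 * t2⁻¹) := by
      show b * gj⁻¹ * (t1 * t2⁻¹) = t1 * t2⁻¹ * (b * gj⁻¹)
      rw [← s4]
      calc b * gj⁻¹ * (gj * t2 * gj⁻¹) = b * t2 * b⁻¹ * (b * gj⁻¹) := by group
        _ = _ := by rw [r4, s4]
    have k3 : Commute (b * gj⁻¹) (t1 ^ 2) := by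
      have h3 : t1 * t2 * (t1 * t2⁻¹) = t1 ^ 2 := by rw [mul_assoc t1 t2, ← mul_assoc t2, ← tc, pow_two]; group
      rw [← h3]
      exact k1.mul_right k2
    have k4 : Commute (b * gj⁻¹) t1 := by
      have h3 : (t1 ^ 2) ^ 2 = t1 := by
        rw [← pow_mul, show 2 * 2 = 3 + 1 by norm_num, pow_succ, t13, one_mul]
      rw [← h3]
      exact k3.pow_right 2
    have k5 : Commute (b * gj⁻¹) t2 := by
      have h3 : t1⁻¹ * (t1 * t2) = t2 := by group
      rw [← h3]
      exact k4.inv_right.mul_right k1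
    exact cent_Psi hζ ht1 ht2 hv1 hv2 k4 k5
  obtain ⟨A, hA⟩ := c1
  obtain ⟨B, hB⟩ := c2
  have hA' : a = Psi A * gi := by rw [← hA]; group
  have hB' : b = Psi B * gj := by rw [← hB]; group
  obtain ⟨Y, hY1, hY2⟩ := exists_y (fun c hc => Cfsg.Agent.H389.L34.exists_diag hc) hA' hB' r5 r6 r7
  obtain ⟨Y', hY3, hY4, hY5⟩ := lang_Q (by rw [ha]; exact hF i) (by rw [hb]; exact hF j) hY1 hY2
  refine ⟨z * Psi Y', ?_, ?_, ?_, ?_, ?_⟩
  · calc (z * Psi Y')⁻¹ * em e1 * (z * Psi Y') = (Psi Y')⁻¹ * (z⁻¹ * em e1 * z * Psi Y') := by group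
      _ = t1 := by rw [hz1, ← Psi_t1 hζ ht1 ht2 hv1 hv2 Y', inv_mul_cancel_left]
  · calc (z * Psi Y')⁻¹ * em e2 * (z * Psi Y') = (Psi Y')⁻¹ * (z⁻¹ * em e2 * z * Psi Y') := by group
      _ = t2 := by rw [hz2, ← Psi_t2 hζ ht1 ht2 hv1 hv2 Y', inv_mul_cancel_left]
  · calc (z * Psi Y')⁻¹ * em i * (z * Psi Y') = (Psi Y')⁻¹ * (z⁻¹ * em i * z * Psi Y') := by group
      _ = gi := by rw [← hf, ← ha, hY4, inv_mul_cancel_left]
  · calc (z * Psi Y')⁻¹ * em j * (z * Psi Y') = (Psi Y')⁻¹ * (z⁻¹ * em j * z * Psi Y') := by group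
      _ = gj := by rw [← hf, ← hb, hY5, inv_mul_cancel_left]
  · rw [map_mul, hφz]
    rw [Fa_apply] at hY3
    calc (z * Psi Y')⁻¹ * (z * gz * phi chevE8 KK 2 1 (Psi Y'))
        = (Psi Y')⁻¹ * (gz * phi chevE8 KK 2 1 (Psi Y') * gz⁻¹) * gz := by group
      _ = gz := by rw [hY3, inv_mul_cancel, one_mul]

end Cfsg.Agent.H5.L34
end

-- part: H939/L34/Frm
section
/-!
# S5917: the situation in the frame (helper939)

* `UQ g1 g2 qi qj` : the explicit unitary matrices `gD`, `gP`, `gW`, `gJ` of helper550;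
* `Fsit V H f z ζ g1 g2 qi qj` : the situation with the torus frame `z` of `(e1, e2)`, values `(V1, V)`;
* `FsitA` : type `A₂⁴` with the normal form of `Q₈` and of the Frobenius map.
-/

set_option autoImplicit false
set_option linter.unusedSectionVars false
set_option maxRecDepth 100000

namespace Cfsg.Agent.H939.L34

open Matrix Cfsg Cfsg.Lie Cfsg.Lie.ChevalleyDatum
open Cfsg.Agent.Tits.Roots Cfsg.Agent.KFacts.RgdChevCoord Cfsg.Agent.BpExc.TorChev Cfsg.Agent.H129.TorusChar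
open Cfsg.Agent.BpExc.TowChev Cfsg.Agent.BpExc.FamUntw
open Cfsg.Agent.BpExc.RowsUntw (e8T)

open Cfsg.Agent.H691.L34
open Cfsg.Agent.H939.L64
open Cfsg.Agent.H437.L34 (fg rho)
open Cfsg.Agent.H888.L34.Model (Sit P3)
open Cfsg.Agent.H201.L34 (V1 V2 Fz)
open Cfsg.Agent.H550.L34 (Om gD gP gW gJ gZ gS)

variable {F : Type} [Field F]

/-- the explicit unitary matrices -/
def UQ (g1 g2 qi qj : G3 F) : Prop :=
  ∃ (ω : F) (h : Om ω), g1 = gD h ∧ g2 = gP h ∧ qi = gW h ∧ qj = gJ h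

/-- the situation in the frame, `V = V2` (type A) or `V = V3` (type D) -/
structure Fsit (V : Fin 8 → ZMod 3) (H : Subgroup E2) (f : P3 F →* E2) (z : ↥(chevE8.group KK)) (ζ : KK)
    (g1 g2 qi qj : G3 F) : Prop where
  sit : Sit H f
  uq : UQ g1 g2 qi qj
  prim : IsPrimitiveRoot ζ 3
  m1 : z⁻¹ * em (fg f g1) * z ∈ TT chevE8 KK
  m2 : z⁻¹ * em (fg f g2) * z ∈ TT chevE8 KK
  v1 : ∀ i, cX e8T (z⁻¹ * em (fg f g1) * z) (sr i) = ζ ^ (V1 i).val
  v2 : ∀ i, cX e8T (z⁻¹ * em (fg f g2) * z) (sr i) = ζ ^ (V i).val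

/-- type `A₂⁴` -/
structure FsitA (H : Subgroup E2) (f : P3 F →* E2) (z : ↥(chevE8.group KK)) (ζ : KK) (g1 g2 qi qj : G3 F) : Prop
    extends Fsit V2 H f z ζ g1 g2 qi qj where
  zi : z⁻¹ * em (fg f qi) * z = Cfsg.Agent.H201.L34.gi
  zj : z⁻¹ * em (fg f qj) * z = Cfsg.Agent.H201.L34.gj
  zm : z⁻¹ * Cfsg.Agent.H129.TorusUntw.phi chevE8 KK 2 1 z = Cfsg.Agent.H201.L34.gz

variable {V : Fin 8 → ZMod 3} {H : Subgroup E2} {f : P3 F →* E2} {z : ↥(chevE8.group KK)} {ζ : KK} {g1 g2 qi qj : G3 F}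

/-- the relations in `E₈(2)` -/
theorem UQ.rel (U : UQ g1 g2 qi qj) (f : P3 F →* E2) :
    fg f qi * fg f g1 * (fg f qi)⁻¹ = fg f g2 ∧ fg f qi * fg f g2 * (fg f qi)⁻¹ = (fg f g1)⁻¹ ∧
    fg f qj * fg f g1 * (fg f qj)⁻¹ = fg f g1 * fg f g2 ∧
    fg f qj * fg f g2 * (fg f qj)⁻¹ = fg f g1 * (fg f g2)⁻¹ ∧
    fg f qi ^ 4 = 1 ∧ fg f qj ^ 2 = fg f qi ^ 2 ∧ fg f qi * fg f qj * (fg f qi)⁻¹ = (fg f qj)⁻¹ ∧
    fg f g1 ^ 3 = 1 ∧ fg f g2 ^ 3 = 1 ∧ Commute (fg f g1) (fg f g2) := by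
  obtain ⟨ω, h, rfl, rfl, rfl, rfl⟩ := U
  exact Cfsg.Agent.H550.L34.rels h (fg f) fun c hc => Cfsg.Agent.H437.L34.fg_center f hc

/-- they are unitary -/
theorem UQ.un (U : UQ g1 g2 qi qj) : hact g1 (1 : M3 F) = 1 ∧ hact g2 (1 : M3 F) = 1 ∧ hact qi (1 : M3 F) = 1 ∧
    hact qj (1 : M3 F) = 1 := by
  obtain ⟨ω, h, rfl, rfl, rfl, rfl⟩ := U
  refine ⟨?_, ?_, ?_, ?_⟩
  · show Cfsg.Agent.H550.L34.mD ω * 1 * ct (Cfsg.Agent.H550.L34.mD ω) = 1
    rw [mul_one, Cfsg.Agent.H550.L34.DD h]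
  · show Cfsg.Agent.H550.L34.mP * 1 * ct (Cfsg.Agent.H550.L34.mP) = 1
    rw [mul_one, Cfsg.Agent.H550.L34.PP h]
  · show Cfsg.Agent.H550.L34.mW ω * 1 * ct (Cfsg.Agent.H550.L34.mW ω) = 1
    rw [mul_one, Cfsg.Agent.H550.L34.WW h]
  · show Cfsg.Agent.H550.L34.mJ ω * 1 * ct (Cfsg.Agent.H550.L34.mJ ω) = 1
    rw [mul_one, Cfsg.Agent.H550.L34.JJ h]

theorem not_comm {ω : F} (h : Om ω) : gP h * gD h ≠ gD h * gP h := by
  intro e
  rw [Cfsg.Agent.H550.L34.P_D] at e
  have e1 : gS h = 1 := by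
    have := mul_eq_right.1 e
    exact this
  have e2 := congrArg (fun g : G3 F => g.1 0 0) e1
  have e3 : ω = 1 := by
    have : (ω • (1 : M3 F)) 0 0 = (1 : M3 F) 0 0 := e2
    simpa using this
  exact Cfsg.Agent.H550.L34.om_ne h e3

/-- independence -/
theorem UQ.indep (U : UQ g1 g2 qi qj) (hf : Function.Injective f) : fg f g1 ≠ 1 ∧ ∀ i : ℕ, fg f g2 ≠ fg f g1 ^ i := by
  obtain ⟨ω, h, rfl, rfl, rfl, rfl⟩ := U
  constructor
  · intro e
    have h1 := Cfsg.Agent.H437.L34.fg_eq_one f hf e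
    exact not_comm h (Subgroup.mem_center_iff.1 h1 _)
  · intro i e
    have h1 : fg f (gP h * (gD h ^ i)⁻¹) = 1 := by rw [map_mul, map_inv, map_pow, ← e, mul_inv_cancel]
    have h2 := Cfsg.Agent.H437.L34.fg_eq_one f hf h1
    have h3 : gP h = (gP h * (gD h ^ i)⁻¹) * gD h ^ i := by group
    apply not_comm h
    rw [h3]
    have h4 := Subgroup.mem_center_iff.1 h2 (gD h)
    calc gP h * (gD h ^ i)⁻¹ * gD h ^ i * gD h = gP h * (gD h ^ i)⁻¹ * gD h * gD h ^ i := by
          rw [mul_assoc, ← pow_succ, pow_succ', ← mul_assoc]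
      _ = gD h * (gP h * (gD h ^ i)⁻¹) * gD h ^ i := by rw [h4]
      _ = _ := by group

theorem exists_uq [Fintype F] (hF : Fintype.card F = 4) : ∃ g1 g2 qi qj : G3 F, UQ g1 g2 qi qj := by
  obtain ⟨ω, h⟩ := Cfsg.Agent.H436.L34.exists_omega hF
  have h2 := Cfsg.Agent.H436.L34.two_eq_zero hF
  exact ⟨_, _, _, _, ω, ⟨h2, by linear_combination h - (ω + 1) * h2⟩, rfl, rfl, rfl, rfl⟩

end Cfsg.Agent.H939.L34
end

private theorem dce_a8ae5890846f : _root_.True := by
  try have : _root_.True := by simp only [_root_.Cfsg.Agent.H550.L34.gP.congr_simp]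
  try have : _root_.True := by simp only [_root_.Cfsg.Agent.H550.L34.gD.congr_simp]
  try have : _root_.True := by simp only [_root_.Cfsg.Agent.H888.L34.sc.congr_simp]
  try have : _root_.True := by simp only [_root_.Cfsg.Agent.H888.L34.sc.eq_1]
  exact _root_.True.intro
end

-- part: H939/L34/Hfix
section
prune_inst 0x35406d444522020000188500a22000402800049200400000e82003000b4820428d838040181001128a08bcc17008004011000130420000000a003c0000030120988312063040a10446000f800080000000000000000000000000000000000004000000000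
set_option linter.all false
open scoped Cfsg.Agent.FastGrp

-- part: H939/L34/PhiZ
section
/-!
# S5917: the map `Φ` of a given `φ` in frame coordinates (helper939)
-/

set_option autoImplicit false
set_option linter.unusedSectionVars false
set_option maxRecDepth 100000

namespace Cfsg.Agent.H939.L34

open Matrix Cfsg Cfsg.Lie Cfsg.Lie.ChevalleyDatum Cfsg.Agent.H691.L34
open Cfsg.Agent.H436.L34
open Cfsg.Agent.H939.L64

variable {F : Type} [Field F] [Fintype F]

/-- **`Φ` for a given `φ`** -/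
theorem exists_Phi_z (hF : Fintype.card F = 4) (ι : F →+* KK) (f : G3 F →* E2) {b : Bool} {φ : M3 F → L2}
    (h1 : ∀ X Y, HF X → HF Y → φ (X + Y) = φ X + φ Y) (h0 : ∀ X, HF X → φ X = 0 → X = 0)
    (h3 : ∀ (g : G3 F) X, HF X → a2 (f g) (φ X) = φ (hact (tw b g) X)) (z : ↥(chevE8.group KK)) :
    ∃ Φ : Matrix (Fin 3) (Fin 3) KK →ₗ[KK] LK, Function.Injective Φ ∧
      (∀ X, HF X → Φ (X.map ι) = aK z⁻¹ (up (φ X))) ∧
      (∀ X, Φ (X.map fun a => a ^ 2).transpose = aK z⁻¹ (fr (aK z (Φ X)))) ∧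
      (∀ (g : G3 F) X, aK (z⁻¹ * _root_.Cfsg.Agent.H939.L64.em (f g) * z) (Φ X) =
        Φ ((tw b g : M3 F).map ι * X * (ct (tw b g : M3 F)).map ι)) := by
  obtain ⟨Φ, i1, i2, i3, i4, i5⟩ := exists_Phi (K := KK) hF ι h1 h0
  have hz : ∀ v : LK, aK z (aK z⁻¹ v) = v := fun v => by rw [← aK_mul', mul_inv_cancel, aK_one']
  refine ⟨(ln z⁻¹).comp Φ, ?_, ?_, ?_, ?_⟩
  · intro X Y hXY
    have e : aK z⁻¹ (Φ X) = aK z⁻¹ (Φ Y) := hXY
    have e2 := congrArg (aK z) e
    rw [hz, hz] at e2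
    exact i1 e2
  · intro X hX
    rw [LinearMap.comp_apply, ln_apply, i2 X hX, jj_up]
  · intro X
    rw [LinearMap.comp_apply, LinearMap.comp_apply, ln_apply, ln_apply, hz]
    congr 1
    funext i
    exact i3 X i
  · intro g X
    rw [LinearMap.comp_apply, ln_apply, mul_assoc, aK_mul', aK_mul', hz]
    have e := i4 (fun v => a2 (f g) v) (ln (_root_.Cfsg.Agent.H939.L64.em (f g))) (fun v => by rw [ln_apply, jj_up, aK_em_up, jj_up]) (tw b g)
      (fun X hX => h3 g X hX) X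
    rw [ln_apply] at e
    rw [e]
    rfl

end Cfsg.Agent.H939.L34
end

-- part: H939/L34/Hfix
section
/-!
# S5917: `hfix` of type A (helper939)
-/

set_option autoImplicit false
set_option linter.unusedSectionVars false
set_option maxRecDepth 100000

namespace Cfsg.Agent.H939.L34

open Matrix Cfsg Cfsg.Lie Cfsg.Lie.ChevalleyDatum
open Cfsg.Agent.Tits.Roots Cfsg.Agent.KFacts.RgdChevCoord Cfsg.Agent.BpExc.TorChev Cfsg.Agent.H129.TorusChar
open Cfsg.Agent.BpExc.TowChev Cfsg.Agent.BpExc.FamUntw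
open Cfsg.Agent.BpExc.RowsUntw (e8T)
open Cfsg.Agent.H691.L34
open Cfsg.Agent.H939.L64
open Cfsg.Agent.H437.L34 (fg rho be)
open Cfsg.Agent.H888.L34.Model (Sit P3)
open Cfsg.Agent.H201.L34 (V1 V2 Fz gi gj)
open Cfsg.Agent.H288.L34 (d1 d2)

/-- the statement of helper496 -/
def HFA : Prop := ∀ {t1 t2 : ↥(chevE8.group KK)} {ω : KK}, t1 ∈ TT chevE8 KK → t2 ∈ TT chevE8 KK → IsPrimitiveRoot ω 3 →
  (∀ i, cX e8T t1 (sr i) = ω ^ (V1 i).val) → (∀ i, cX e8T t2 (sr i) = ω ^ (V2 i).val) → ∀ {a b : LK}, aK t1 a = a →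
  aK t2 a = ω • a → aK t1 b = b → aK t2 b = ω ^ 2 • b → aK gi (brK a b) = brK a b → aK gj (brK a b) = brK a b →
  brK a b = 0

variable {F : Type} [Field F] [Fintype F]

theorem exists_iota (hF : Fintype.card F = 4) : Nonempty (F →+* KK) := by
  classical
  have h2 := Cfsg.Agent.H436.L34.two_eq_zero hF
  have : CharP F 2 := Cfsg.Agent.H436.L34.charP_two h2
  let _ : Algebra (ZMod 2) F := ZMod.algebra F 2
  have : Algebra.IsAlgebraic (ZMod 2) F := Algebra.IsAlgebraic.of_finite (ZMod 2) F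
  exact ⟨(IsAlgClosed.lift (R := ZMod 2) (M := KK) (S := F)).toRingHom⟩

theorem one_add_one_KK : (1 : KK) + 1 = 0 := by
  rw [one_add_one_eq_two]
  exact_mod_cast CharP.cast_eq_zero KK 2

theorem hf_d1 : HF (d1 : M3 F) := by
  unfold HF ct d1
  ext i j
  (revert i j; simp only [_root_.Fin.forall_fin_succ, _root_.Matrix.transpose_apply, _root_.Matrix.map_apply, _root_.Matrix.of_apply, _root_.Matrix.cons_val', _root_.Matrix.cons_val_fin_one, Fin.isValue, _root_.Matrix.cons_val_zero, _root_.Matrix.cons_val_succ, _root_.forall_const, _root_.one_pow, _root_.ne_eq, _root_.OfNat.ofNat_ne_zero, _root_.not_false_eq_true, _root_.zero_pow, _root_.and_self, _root_.implies_true])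

theorem hf_d2 : HF (d2 : M3 F) := by
  unfold HF ct d2
  ext i j
  (revert i j; simp only [_root_.Fin.forall_fin_succ, _root_.Matrix.transpose_apply, _root_.Matrix.map_apply, _root_.Matrix.of_apply, _root_.Matrix.cons_val', _root_.Matrix.cons_val_fin_one, Fin.isValue, _root_.Matrix.cons_val_zero, _root_.Matrix.cons_val_succ, _root_.forall_const, _root_.ne_eq, _root_.OfNat.ofNat_ne_zero, _root_.not_false_eq_true, _root_.zero_pow, _root_.and_self, _root_.one_pow, _root_.implies_true])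

/-- the two eigenvectors -/
noncomputable def mA (ω : KK) : Matrix (Fin 3) (Fin 3) KK := !![1, 0, 0; 0, ω, 0; 0, 0, ω ^ 2]

noncomputable def mB (ω : KK) : Matrix (Fin 3) (Fin 3) KK := !![1, 0, 0; 0, ω ^ 2, 0; 0, 0, ω]

theorem map_d2 (ι : F →+* KK) {ω : KK} (hω : ω ^ 2 + ω + 1 = 0) : (d2 : M3 F).map ι = mA ω + mB ω := by
  have h2 := one_add_one_KK
  have h3 : ω + ω ^ 2 = 1 := by linear_combination hω - h2
  have h4 : ω ^ 2 + ω = 1 := by linear_combination hω - h2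
  unfold d2 mA mB
  ext i j
  (revert i j; simp only [h2, h3, h4, _root_.Fin.forall_fin_succ, _root_.Matrix.map_apply, _root_.Matrix.of_apply, _root_.Matrix.cons_val', _root_.Matrix.cons_val_fin_one, _root_.Matrix.add_apply, Fin.isValue, _root_.Matrix.cons_val_zero, _root_.Matrix.cons_val_succ, _root_.forall_const, _root_.map_zero, _root_.add_zero, _root_.and_self, _root_.map_one, _root_.implies_true])

theorem map_d1 (ι : F →+* KK) {ω : KK} (hω : ω ^ 2 + ω + 1 = 0) : (d1 : M3 F).map ι = ω • mA ω + ω ^ 2 • mB ω := by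
  have h2 := one_add_one_KK
  have h3 : ω + ω ^ 2 = 1 := by linear_combination hω - h2
  have h4 : ω * ω + ω ^ 2 * ω ^ 2 = 1 := by linear_combination (ω ^ 2 - ω + 1) * hω - h2
  have h5 : ω * ω ^ 2 + ω ^ 2 * ω = 0 := by linear_combination ω ^ 3 * h2
  unfold d1 mA mB
  ext i j
  (revert i j; simp only [h3, h4, h5, _root_.Fin.forall_fin_succ, _root_.Matrix.map_apply, _root_.Matrix.of_apply, _root_.Matrix.cons_val', _root_.Matrix.cons_val_fin_one, _root_.Matrix.smul_of, _root_.Matrix.smul_cons, _root_.smul_eq_mul, _root_.mul_one, _root_.MulZeroClass.mul_zero, _root_.Matrix.smul_empty, _root_.Matrix.add_apply, Fin.isValue, _root_.Matrix.cons_val_zero, _root_.Matrix.cons_val_succ, _root_.forall_const, _root_.map_one, _root_.map_zero, _root_.add_zero, _root_.and_self, _root_.implies_true])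

theorem prim_of {ω : KK} (hω : ω ^ 2 + ω + 1 = 0) : ω ^ 3 = 1 ∧ ω ≠ 1 := by
  refine ⟨by linear_combination (ω - 1) * hω, ?_⟩
  rintro rfl
  have h2 := one_add_one_KK
  have : (1 : KK) = 0 := by linear_combination hω - h2
  exact one_ne_zero this

theorem zeta_cases {ω ζ : KK} (hω : ω ^ 2 + ω + 1 = 0) (hζ : IsPrimitiveRoot ζ 3) : ω = ζ ∨ ω = ζ ^ 2 := by
  obtain ⟨h3, h1⟩ := prim_of hω
  obtain ⟨i, hi, e⟩ := hζ.eq_pow_of_pow_eq_one h3
  interval_cases i
  · exact absurd (by rw [← e, pow_zero]) h1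
  · exact Or.inl (by rw [← e, pow_one])
  · exact Or.inr e.symm

/-- the matrix of `tw b g1` -/
theorem tw_g1 {w : F} (hw : w ^ 2 + w + 1 = 0) {g : G3 F} (hg : g.1 = !![1, 0, 0; 0, w, 0; 0, 0, w ^ 2]) (b : Bool) :
    ∃ m : F, m ^ 3 = 1 ∧ (tw b g).1 = !![1, 0, 0; 0, m, 0; 0, 0, m ^ 2] := by
  have h3 : w ^ 3 = 1 := by linear_combination (w - 1) * hw
  cases b
  · exact ⟨w, h3, hg⟩
  · refine ⟨w ^ 2, by rw [← pow_mul, mul_comm, pow_mul, h3, one_pow], ?_⟩
    have h4 : (tw true g).1 = g.1.adjugate.transpose := rfl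
    rw [h4, hg, Matrix.adjugate_fin_three]
    have h5 : w * w ^ 2 = 1 := by rw [← h3]; ring
    have h6 : w = (w ^ 2) ^ 2 := by linear_combination (-w) * h3
    ext i j
    (revert i j; simp only [h5, _root_.Fin.forall_fin_succ, Fin.isValue, _root_.Matrix.of_apply, _root_.Matrix.cons_val', _root_.Matrix.cons_val_one, _root_.Matrix.cons_val_zero, _root_.Matrix.cons_val_fin_one, _root_.Matrix.cons_val, _root_.MulZeroClass.mul_zero, _root_.sub_zero, _root_.MulZeroClass.zero_mul, _root_.neg_zero, _root_.add_zero, _root_.sub_self, _root_.one_mul, _root_.Matrix.transpose_apply, _root_.Matrix.cons_val_succ, _root_.forall_const, _root_.and_true, _root_.true_and]) <;> (repeat' with_reducible apply And.intro)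
    exact h6

theorem tw_g2 {g : G3 F} (hg : g.1 = !![0, 1, 0; 0, 0, 1; 1, 0, 0]) (b : Bool) :
    (tw b g).1 = !![0, 1, 0; 0, 0, 1; 1, 0, 0] := by
  cases b
  · exact hg
  · have h4 : (tw true g).1 = g.1.adjugate.transpose := rfl
    rw [h4, hg, Matrix.adjugate_fin_three]
    ext i j
    (revert i j; simp only [_root_.Fin.forall_fin_succ, Fin.isValue, _root_.Matrix.of_apply, _root_.Matrix.cons_val', _root_.Matrix.cons_val_one, _root_.Matrix.cons_val_zero, _root_.Matrix.cons_val_fin_one, _root_.Matrix.cons_val, _root_.MulZeroClass.mul_zero, _root_.sub_self, _root_.neg_zero, _root_.add_zero, _root_.mul_one, _root_.sub_zero, _root_.zero_add, _root_.Matrix.transpose_apply, _root_.Matrix.cons_val_succ, _root_.forall_const, _root_.and_self, _root_.implies_true])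

/-- `g1` fixes `mA`, `mB` -/
theorem conj_g1 (ι : F →+* KK) {w : F} (hw : w ^ 2 + w + 1 = 0) {g : G3 F} (hg : g.1 = !![1, 0, 0; 0, w, 0; 0, 0, w ^ 2])
    (b : Bool) (x y : KK) :
    (tw b g : M3 F).map ι * !![1, 0, 0; 0, x, 0; 0, 0, y] * (ct (tw b g : M3 F)).map ι = !![1, 0, 0; 0, x, 0; 0, 0, y] := by
  obtain ⟨m, h3, hm⟩ := tw_g1 hw hg b
  have h4 : (ι m) ^ 3 = 1 := by rw [← map_pow, h3, map_one]
  rw [hm]
  unfold ct
  ext i j
  (revert i j; simp only [Matrix.mul_apply, Fin.sum_univ_three, _root_.Fin.forall_fin_succ, _root_.Matrix.map_apply, _root_.Matrix.of_apply, _root_.Matrix.cons_val', _root_.Matrix.cons_val_fin_one, Fin.isValue, _root_.Matrix.cons_val_zero, _root_.Matrix.cons_val_one, _root_.Matrix.cons_val, _root_.Matrix.transpose_apply, _root_.map_pow, _root_.mul_one, _root_.MulZeroClass.mul_zero, _root_.add_zero, _root_.zero_add, _root_.map_one, _root_.one_pow, _root_.map_zero, _root_.ne_eq, _root_.OfNat.ofNat_ne_zero,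 _root_.not_false_eq_true, _root_.zero_pow, _root_.Matrix.cons_val_succ, _root_.forall_const, _root_.MulZeroClass.zero_mul, _root_.and_true, _root_.true_and]) <;> (repeat' with_reducible apply And.intro)
  · linear_combination x * h4
  · linear_combination y * (ι m ^ 3 + 1) * h4

/-- `g2` -/
theorem conj_g2 (ι : F →+* KK) {g : G3 F} (hg : g.1 = !![0, 1, 0; 0, 0, 1; 1, 0, 0]) (b : Bool) (u x y : KK) :
    (tw b g : M3 F).map ι * !![u, 0, 0; 0, x, 0; 0, 0, y] * (ct (tw b g : M3 F)).map ι = !![x, 0, 0; 0, y, 0; 0, 0, u] := by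
  rw [tw_g2 hg b]
  unfold ct
  ext i j
  (revert i j; simp only [Matrix.mul_apply, Fin.sum_univ_three, _root_.Fin.forall_fin_succ, _root_.Matrix.map_apply, _root_.Matrix.of_apply, _root_.Matrix.cons_val', _root_.Matrix.cons_val_fin_one, Fin.isValue, _root_.Matrix.cons_val_zero, _root_.Matrix.cons_val_one, _root_.Matrix.cons_val, _root_.Matrix.transpose_apply, _root_.map_pow, _root_.MulZeroClass.mul_zero, _root_.add_zero, _root_.zero_add, _root_.map_zero, _root_.ne_eq, _root_.OfNat.ofNat_ne_zero, _root_.not_false_eq_true, _root_.zero_pow, _root_.map_one, _root_.one_pow, _root_.mul_one, _root_.Matrix.cons_val_succ, _root_.forall_const, _root_.one_mul, _root_.MulZeroClass.zero_mul, _root_.and_self, _root_.implies_true])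

theorem conj_A (ι : F →+* KK) {g : G3 F} (hg : g.1 = !![0, 1, 0; 0, 0, 1; 1, 0, 0]) (b : Bool) {ω : KK}
    (h3 : ω ^ 3 = 1) :
    (tw b g : M3 F).map ι * mA ω * (ct (tw b g : M3 F)).map ι = ω • mA ω := by
  unfold mA
  rw [conj_g2 ι hg b]
  ext i j
  (revert i j; simp only [_root_.Fin.forall_fin_succ, _root_.Matrix.of_apply, _root_.Matrix.cons_val', _root_.Matrix.cons_val_fin_one, _root_.Matrix.smul_apply, _root_.smul_eq_mul, Fin.isValue, _root_.Matrix.cons_val_zero, _root_.Matrix.cons_val_succ, _root_.forall_const, _root_.mul_one, _root_.MulZeroClass.mul_zero, _root_.and_true, _root_.true_and]) <;> (repeat' with_reducible apply And.intro)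
  · ring
  · linear_combination -h3

theorem conj_B (ι : F →+* KK) {g : G3 F} (hg : g.1 = !![0, 1, 0; 0, 0, 1; 1, 0, 0]) (b : Bool) {ω : KK}
    (h3 : ω ^ 3 = 1) :
    (tw b g : M3 F).map ι * mB ω * (ct (tw b g : M3 F)).map ι = ω ^ 2 • mB ω := by
  unfold mB
  rw [conj_g2 ι hg b]
  ext i j
  (revert i j; simp only [_root_.Fin.forall_fin_succ, _root_.Matrix.of_apply, _root_.Matrix.cons_val', _root_.Matrix.cons_val_fin_one, _root_.Matrix.smul_apply, _root_.smul_eq_mul, Fin.isValue, _root_.Matrix.cons_val_zero, _root_.Matrix.cons_val_succ, _root_.forall_const, _root_.mul_one, _root_.MulZeroClass.mul_zero, _root_.and_true, _root_.true_and]) <;> (repeat' with_reducible apply And.intro)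
  · linear_combination (-ω) * h3
  · linear_combination -h3


variable {H : Subgroup E2} {f : P3 F →* E2} {z : ↥(chevE8.group KK)} {ζ : KK} {g1 g2 qi qj : G3 F}

theorem brK_swap (a b : LK) : brK a b = brK b a := by
  have h := Cfsg.Agent.H201.L34.br_self' (a + b)
  rw [Cfsg.Agent.H201.L34.br_add_l, Cfsg.Agent.H201.L34.br_add_r, Cfsg.Agent.H201.L34.br_add_r,
    Cfsg.Agent.H201.L34.br_self', Cfsg.Agent.H201.L34.br_self', zero_add, add_zero] at h
  exact Cfsg.Agent.H201.L34.eq_of_add_zero h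

/-- **`hfix` of type A** -/
theorem hfix_A (hfa : HFA) (hF : Fintype.card F = 4) (S : FsitA H f z ζ g1 g2 qi qj) {b : Bool} {φ : M3 F → L2}
    (h1 : ∀ X Y, HF X → HF Y → φ (X + Y) = φ X + φ Y) (h0 : ∀ X, HF X → φ X = 0 → X = 0)
    (h3 : ∀ (g : G3 F) X, HF X → rho f g (φ X) = φ (hact (tw b g) X))
    (hfix : ∀ g : G3 F, hact g (1 : M3 F) = 1 → rho f g (be (φ d1) (φ d2)) = be (φ d1) (φ d2)) :
    be (φ d1) (φ d2) = 0 := by
  obtain ⟨ι⟩ := exists_iota hF
  obtain ⟨w, hg1, hg2⟩ : ∃ w : F, (w ^ 2 + w + 1 = 0 ∧ g1.1 = !![1, 0, 0; 0, w, 0; 0, 0, w ^ 2]) ∧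
      g2.1 = !![0, 1, 0; 0, 0, 1; 1, 0, 0] := by
    obtain ⟨ω, h, rfl, rfl, -, -⟩ := S.uq
    refine ⟨ω, ⟨by linear_combination h.eq + (ω + 1) * h.two, ?_⟩, rfl⟩
    show Cfsg.Agent.H550.L34.mD ω = _
    rw [h.eq]
    rfl
  obtain ⟨hw, hg1⟩ := hg1
  have hω : (ι w) ^ 2 + ι w + 1 = 0 := by rw [← map_pow, ← map_one ι, ← map_add, ← map_add, hw, map_zero]
  obtain ⟨hω3, hω1⟩ := prim_of hω
  obtain ⟨Φ, -, i2, -, i4⟩ := exists_Phi_z hF ι (fg f) h1 h0 h3 z
  have hb : aK z⁻¹ (up (be (φ d1) (φ d2))) = brK (Φ (mA (ι w))) (Φ (mB (ι w))) := by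
    rw [Cfsg.Agent.H437.L34.up_be, Cfsg.Agent.H876.L64.aK_brK, ← i2 d1 hf_d1, ← i2 d2 hf_d2, map_d1 ι hω, map_d2 ι hω,
      map_add, map_add, map_smul, map_smul]
    simp only [Cfsg.Agent.H201.L34.br_add_l, Cfsg.Agent.H201.L34.br_add_r, Cfsg.Agent.H201.L34.br_smul_l,
      Cfsg.Agent.H201.L34.br_self', smul_zero, zero_add, add_zero]
    rw [brK_swap (Φ (mB (ι w))), ← add_smul]
    have : ι w ^ 2 + ι w = 1 := by linear_combination hω - one_add_one_KK
    rw [this, one_smul]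
  have hfx : ∀ g : G3 F, hact g (1 : M3 F) = 1 → aK (z⁻¹ * _root_.Cfsg.Agent.H939.L64.em (fg f g) * z) (aK z⁻¹ (up (be (φ d1) (φ d2)))) =
      aK z⁻¹ (up (be (φ d1) (φ d2))) := by
    intro g hg
    have e : z⁻¹ * _root_.Cfsg.Agent.H939.L64.em (fg f g) * z * z⁻¹ = z⁻¹ * em (fg f g) := by group
    rw [← Cfsg.Agent.H436.L34.aK_mul', e, Cfsg.Agent.H436.L34.aK_mul', Cfsg.Agent.H436.L34.aK_em_up]
    exact congrArg (fun v => aK z⁻¹ (up v)) (hfix g hg)
  have hi := hfx qi S.uq.un.2.2.1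
  have hj := hfx qj S.uq.un.2.2.2
  rw [S.zi, hb] at hi
  rw [S.zj, hb] at hj
  have a1 : aK (z⁻¹ * _root_.Cfsg.Agent.H939.L64.em (fg f g1) * z) (Φ (mA (ι w))) = Φ (mA (ι w)) := by rw [i4, mA, conj_g1 ι hw hg1]
  have b1 : aK (z⁻¹ * _root_.Cfsg.Agent.H939.L64.em (fg f g1) * z) (Φ (mB (ι w))) = Φ (mB (ι w)) := by rw [i4, mB, conj_g1 ι hw hg1]
  have a2' : aK (z⁻¹ * _root_.Cfsg.Agent.H939.L64.em (fg f g2) * z) (Φ (mA (ι w))) = (ι w) • Φ (mA (ι w)) := by
    rw [i4, conj_A ι hg2 b hω3, map_smul]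
  have b2' : aK (z⁻¹ * em (fg f g2) * z) (Φ (mB (ι w))) = (ι w) ^ 2 • Φ (mB (ι w)) := by
    rw [i4, conj_B ι hg2 b hω3, map_smul]
  have key : brK (Φ (mA (ι w))) (Φ (mB (ι w))) = 0 := by
    rcases zeta_cases hω S.prim with h | h
    · rw [h] at a2' b2' hi hj a1 b1 ⊢
      exact hfa S.m1 S.m2 S.prim S.v1 S.v2 a1 a2' b1 b2' hi hj
    · rw [brK_swap] at hi hj ⊢
      rw [h] at a2' b2' hi hj a1 b1 ⊢
      have h4 : (ζ ^ 2) ^ 2 = ζ := by
        rw [← pow_mul, show 2 * 2 = 3 + 1 from rfl, pow_succ, S.prim.pow_eq_one, one_mul]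
      rw [h4] at b2'
      exact hfa S.m1 S.m2 S.prim S.v1 S.v2 b1 b2' a1 a2' hi hj
  rw [key] at hb
  apply Cfsg.Agent.H437.L34.up_injective
  rw [Cfsg.Agent.H437.L34.up_zero]
  have h5 := congrArg (aK z) hb
  rw [← Cfsg.Agent.H436.L34.aK_mul', mul_inv_cancel, Cfsg.Agent.H436.L34.aK_one', Cfsg.Agent.H876.L64.aK_zero] at h5
  exact h5

end Cfsg.Agent.H939.L34
end

private theorem dce_e960e67a6fb4 : _root_.True := by
  try have : _root_.True := by simp only [_root_.Cfsg.Agent.H939.L34.mB.eq_1]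
  try have : _root_.True := by simp only [_root_.Cfsg.Agent.H939.L34.mA.eq_1]
  exact _root_.True.intro
end

-- part: H939/L34/KillD
section
set_option linter.all false
open scoped Cfsg.Agent.FastGrp

-- part: H436/L34/Desc
section
/-!
# S5917, (DS): descent of fixed vectors from `LK` to `L2` (helper436)

`S : Set E2`, `F2 S` the vectors of `L2` fixed by `S`, `FK S` the vectors of `LK` fixed by `em '' S`.

* `finrank_fix` : `finrank (F2 S) = finrank (FK S)`;
* `desc_sum` : a sum `∑ q y`, `y ∈ FK S`, in `up '' L2` is `up` of such a sum in `L2`;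
* `mem_span_up` : `FK S` is spanned by `up '' F2 S`.
-/

set_option autoImplicit false
set_option maxRecDepth 100000

namespace Cfsg.Agent.H436.L34

open Matrix Cfsg Cfsg.Lie Cfsg.Lie.ChevalleyDatum
open Cfsg.Agent.ChevalleyStructure.LieAbs Cfsg.Agent.ChevalleyStructure.LieAut
open Cfsg.Agent.H939.L64

/-- the vectors of `L2` fixed by `S` -/
def F2 (S : Set E2) : Submodule (ZMod 2) L2 where
  carrier := {v | ∀ g ∈ S, a2 g v = v}
  zero_mem' := fun g _ => Matrix.mulVec_zero _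
  add_mem' := by
    intro v w hv hw g hg
    have h1 : a2 g (v + w) = a2 g v + a2 g w := Matrix.mulVec_add _ _ _
    rw [h1, hv g hg, hw g hg]
  smul_mem' := by
    intro c v hv g hg
    have h1 : a2 g (c • v) = c • a2 g v := Matrix.mulVec_smul _ _ _
    rw [h1, hv g hg]

/-- the vectors of `LK` fixed by `em '' S` -/
def FK (S : Set E2) : Submodule KK LK where
  carrier := {v | ∀ g ∈ S, aK (em g) v = v}
  zero_mem' := fun g _ => Matrix.mulVec_zero _
  add_mem' := by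
    intro v w hv hw g hg
    have h1 : aK (em g) (v + w) = aK (em g) v + aK (em g) w := Matrix.mulVec_add _ _ _
    rw [h1, hv g hg, hw g hg]
  smul_mem' := by
    intro c v hv g hg
    have h1 : aK (em g) (c • v) = c • aK (em g) v := Matrix.mulVec_smul _ _ _
    rw [h1, hv g hg]

theorem mem_F2 {S : Set E2} {v : L2} : v ∈ F2 S ↔ ∀ g ∈ S, a2 g v = v := Iff.rfl

theorem mem_FK {S : Set E2} {v : LK} : v ∈ FK S ↔ ∀ g ∈ S, aK (em g) v = v := Iff.rfl

/-- a functional of `KK`, coordinatewise -/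
noncomputable def pj (π : KK →ₗ[ZMod 2] ZMod 2) : LK →ₗ[ZMod 2] L2 where
  toFun y := fun i => π (y i)
  map_add' y z := by funext i; exact map_add π _ _
  map_smul' c y := by funext i; exact map_smul π _ _

theorem pj_apply (π : KK →ₗ[ZMod 2] ZMod 2) (y : LK) (i : chevE8.Idx) : pj π y i = π (y i) := rfl

theorem pj_aK (π : KK →ₗ[ZMod 2] ZMod 2) (g : E2) (y : LK) : pj π (aK (em g) y) = a2 g (pj π y) := by
  funext i
  show π ((((em g : ↥(chevE8.group KK)) : GL chevE8.Idx KK) : Matrix chevE8.Idx chevE8.Idx KK).mulVec y i) =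
    (((g : GL chevE8.Idx (ZMod 2)) : Matrix chevE8.Idx chevE8.Idx (ZMod 2))).mulVec (pj π y) i
  rw [Matrix.mulVec, Matrix.mulVec, dotProduct, dotProduct, map_sum]
  refine Finset.sum_congr rfl fun j _ => ?_
  rw [em_entry, ← Algebra.smul_def, map_smul, smul_eq_mul, pj_apply]

theorem pj_smul_up (π : KK →ₗ[ZMod 2] ZMod 2) (c : KK) (v : L2) : pj π (c • up v) = π c • v := by
  funext i
  show π (c * algebraMap (ZMod 2) KK (v i)) = π c * v i
  rw [mul_comm c, ← Algebra.smul_def, map_smul, smul_eq_mul, mul_comm]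

theorem pj_mem {S : Set E2} (π : KK →ₗ[ZMod 2] ZMod 2) {y : LK} (hy : y ∈ FK S) : pj π y ∈ F2 S := fun g hg => by
  rw [← pj_aK, hy g hg]

theorem up_mem {S : Set E2} {v : L2} (hv : v ∈ F2 S) : up v ∈ FK S := fun g hg => by
  rw [aK_em_up, hv g hg]

/-- a functional with value one at one -/
theorem exists_pi : ∃ π : KK →ₗ[ZMod 2] ZMod 2, ∀ x : ZMod 2, π (algebraMap (ZMod 2) KK x) = x := by
  obtain ⟨π, hπ⟩ := LinearMap.exists_leftInverse_of_injective (Algebra.linearMap (ZMod 2) KK)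
    (LinearMap.ker_eq_bot.2 (algebraMap (ZMod 2) KK).injective)
  exact ⟨π, fun x => LinearMap.congr_fun hπ x⟩

/-- **(b)** -/
theorem desc_sum {S : Set E2} {l : List E2} {u : L2} {y : LK} (hy : y ∈ FK S)
    (h : up u = (l.map fun q => aK (em q) y).sum) : ∃ y' ∈ F2 S, u = (l.map fun q => a2 q y').sum := by
  obtain ⟨π, hπ⟩ := exists_pi
  refine ⟨pj π y, pj_mem π hy, ?_⟩
  have h1 : pj π (up u) = u := funext fun i => hπ (u i)
  have h2 : ∀ l : List E2, pj π (l.map fun q => aK (em q) y).sum = (l.map fun q => a2 q (pj π y)).sum := by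
    intro l
    induction l with
    | nil => exact map_zero _
    | cons a l ih =>
      rw [List.map_cons, List.sum_cons, List.map_cons, List.sum_cons, ← ih, ← pj_aK]
      exact map_add (pj π) _ _
  exact h1.symm.trans ((congrArg (pj π) h).trans (h2 l))

/-- **(c)** -/
theorem mem_span_up {S : Set E2} {v : LK} (hv : v ∈ FK S) :
    v ∈ Submodule.span KK {w | ∃ u ∈ F2 S, w = up u} := by
  classical
  let B := Module.Basis.ofVectorSpace (ZMod 2) KK
  let s : Finset _ := Finset.univ.biUnion fun i : chevE8.Idx => (B.repr (v i)).support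
  have e : v = ∑ k ∈ s, B k • up (pj (B.coord k) v) := by
    funext i
    rw [Finset.sum_apply]
    have h1 : ∀ k, (B k • up (pj (B.coord k) v)) i = B.repr (v i) k • B k := by
      intro k
      show B k * algebraMap (ZMod 2) KK (B.repr (v i) k) = _
      rw [mul_comm, Algebra.smul_def]
    rw [Finset.sum_congr rfl fun k _ => h1 k]
    conv_lhs => rw [← B.linearCombination_repr (v i), Finsupp.linearCombination_apply, Finsupp.sum]
    refine Finset.sum_subset (Finset.subset_biUnion_of_mem (fun i : chevE8.Idx => (B.repr (v i)).support)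
      (Finset.mem_univ i)) fun k _ hk => ?_
    rw [Finsupp.notMem_support_iff.1 hk, zero_smul]
  rw [e]
  exact Submodule.sum_mem _ fun k _ => Submodule.smul_mem _ _ (Submodule.subset_span ⟨_, pj_mem _ hv, rfl⟩)

/-- **(a)** -/
theorem finrank_fix (S : Set E2) : Module.finrank (ZMod 2) (F2 S) = Module.finrank KK (FK S) := by
  classical
  let b := Module.finBasis (ZMod 2) (F2 S)
  let u : Fin (Module.finrank (ZMod 2) (F2 S)) → LK := fun k => up (b k : L2)
  have hli : LinearIndependent KK u := by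
    rw [Fintype.linearIndependent_iff]
    intro c hc k
    rw [← Module.forall_dual_apply_eq_zero_iff (ZMod 2)]
    intro π
    have h1 := congrArg (pj π) hc
    rw [map_sum, map_zero, Finset.sum_congr rfl fun k _ => pj_smul_up π (c k) (b k : L2)] at h1
    have h2 : ∑ k, π (c k) • b k = 0 := by
      apply Subtype.ext
      rw [AddSubmonoidClass.coe_finsetSum]
      exact h1
    exact Fintype.linearIndependent_iff.1 b.linearIndependent _ h2 k
  have hsp : Submodule.span KK (Set.range u) = FK S := by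
    apply le_antisymm
    · rw [Submodule.span_le]
      rintro _ ⟨k, rfl⟩
      exact up_mem (b k).2
    · intro v hv
      refine Submodule.span_le.2 ?_ (mem_span_up hv)
      rintro _ ⟨w, hw, rfl⟩
      have h1 := b.sum_repr ⟨w, hw⟩
      have h2 : w = ∑ k, b.repr ⟨w, hw⟩ k • (b k : L2) := by
        have h3 := congrArg Subtype.val h1
        rw [AddSubmonoidClass.coe_finsetSum] at h3
        exact h3.symm
      have h3 : up w = ∑ k, algebraMap (ZMod 2) KK (b.repr ⟨w, hw⟩ k) • u k := by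
        funext i
        rw [Finset.sum_apply]
        show algebraMap (ZMod 2) KK (w i) = _
        conv_lhs => rw [h2]
        rw [Finset.sum_apply, map_sum]
        refine Finset.sum_congr rfl fun k _ => ?_
        show algebraMap (ZMod 2) KK (b.repr ⟨w, hw⟩ k * (b k : L2) i) = _
        rw [map_mul]
        rfl
      show up w ∈ Submodule.span KK (Set.range u)
      rw [h3]
      exact Submodule.sum_mem _ fun k _ => Submodule.smul_mem _ _ (Submodule.subset_span ⟨k, rfl⟩)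
  rw [← hsp, finrank_span_eq_card hli, Fintype.card_fin]

end Cfsg.Agent.H436.L34
end

-- part: H939/L34/KillD
section
/-!
# S5917: type D, no fixed vector: the assembly (helper939)
-/

set_option autoImplicit false
set_option linter.unusedSectionVars false
set_option maxRecDepth 100000

namespace Cfsg.Agent.H939.L34

open Matrix Cfsg Cfsg.Lie Cfsg.Lie.ChevalleyDatum
open Cfsg.Agent.Tits.Roots Cfsg.Agent.KFacts.RgdChevCoord Cfsg.Agent.BpExc.TorChev Cfsg.Agent.H129.TorusChar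
open Cfsg.Agent.BpExc.TowChev Cfsg.Agent.BpExc.FamUntw
open Cfsg.Agent.BpExc.RowsUntw (e8T)
open Cfsg.Agent.H691.L34
open Cfsg.Agent.H939.L64
open Cfsg.Agent.H437.L34 (fg rho be)
open Cfsg.Agent.H888.L34.Model (Sit P3)
open Cfsg.Agent.H201.L34 (V1 V2)
open Cfsg.Agent.H251.L34 (V3)
open Cfsg.Agent.H288.L34 (d1 d2)
open Cfsg.Agent.H436.L34 (F2 FK)

/-- the sum over `Q₈ = ⟨i, j⟩` -/
def q8 (i j : E2) : List E2 := [1, i, i * i, i * i * i, j, j * i, j * (i * i), j * (i * i * i)]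

/-- D-NIL (helper544) -/
def DNIL : Prop := ∀ {F : Type} [Field F] [Fintype F], Fintype.card F = 4 → ∀ {H : Subgroup E2} {f : P3 F →* E2}
  {z : ↥(chevE8.group KK)} {ζ : KK} {g1 g2 qi qj : G3 F}, Fsit V3 H f z ζ g1 g2 qi qj →
  ∀ x : LK, aK (em (fg f g1)) x = x → aK (em (fg f g2)) x = x → aK (em (fg f qi)) x = x →
  aK (em (fg f qj)) x = x → Cfsg.Agent.H201.L34.sq x = 0 →
  ∃ u : LK, aK (em (fg f g1)) u = u ∧ aK (em (fg f g2)) u = u ∧
    x = ((q8 (fg f qi) (fg f qj)).map fun q => aK (em q) u).sum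

/-- `trace_zero` (helper904) -/
def TRZ : Prop := ∀ {F : Type} [Field F] [Fintype F], Fintype.card F = 4 → ∀ {H : Subgroup E2} {f : P3 F →* E2}
  {z : ↥(chevE8.group KK)} {ζ : KK} {g1 g2 qi qj : G3 F}, Fsit V3 H f z ζ g1 g2 qi qj →
  ∀ v u : L2, (∃ b W, IsNine (rho f) b W ∧ v ∈ W) ∨ v ∈ fixAll (rho f) → a2 (fg f g1) u = u → a2 (fg f g2) u = u →
  v = ((q8 (fg f qi) (fg f qj)).map fun q => a2 q u).sum → v = 0

/-- an abelian submodule of type 9 (helper616, helper259) -/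
def ABN : Prop := ∀ {F : Type} [Field F] [Fintype F], Fintype.card F = 4 → ∀ {f : P3 F →* E2}, Function.Injective f →
  fixAll (rho f) = ⊥ →
  (∀ (b : Bool) (φ : M3 F → L2), (∀ X Y, HF X → HF Y → φ (X + Y) = φ X + φ Y) → (∀ X, HF X → φ X = 0 → X = 0) →
    (∀ (g : G3 F) X, HF X → rho f g (φ X) = φ (hact (tw b g) X)) →
    (∀ g : G3 F, hact g (1 : M3 F) = 1 → rho f g (be (φ d1) (φ d2)) = be (φ d1) (φ d2)) → be (φ d1) (φ d2) = 0) →
  ∃ b W, IsNine (rho f) b W ∧ ∀ x ∈ W, ∀ y ∈ W, be x y = 0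

/-- with `[2] = 0` (helper201, helper906) -/
def ALT : Prop := ∀ {F : Type} [Field F] [Fintype F], Fintype.card F = 4 → ∀ {f : P3 F →* E2}, Function.Injective f →
  ∀ {b : Bool} {W : Submodule (ZMod 2) L2}, IsNine (rho f) b W → (∀ x ∈ W, ∀ y ∈ W, be x y = 0) →
  ∃ b' W', IsNine (rho f) b' W' ∧ (∀ x ∈ W', ∀ y ∈ W', be x y = 0) ∧ ∀ x ∈ W', Cfsg.Agent.H201.L34.sq (up x) = 0

variable {F : Type} [Field F] [Fintype F]
variable {V : Fin 8 → ZMod 3} {H : Subgroup E2} {f : P3 F →* E2} {z : ↥(chevE8.group KK)} {ζ : KK} {g1 g2 qi qj : G3 F}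

theorem hf_one : HF (1 : M3 F) := by
  unfold HF ct
  ext i j
  fin_cases i <;> fin_cases j <;> simp

/-- `tw b g` of a unitary matrix -/
theorem tw_unit (hF : Fintype.card F = 4) {g : G3 F} (hg : hact g (1 : M3 F) = 1) (b : Bool) :
    hact (tw b g) (1 : M3 F) = 1 := by
  cases b
  · exact hg
  · have h1 : g.1 * ct g.1 = 1 := by
      have := hg
      unfold hact at this
      rwa [Matrix.mul_one] at this
    have h2 : ct g.1 * g.1 = 1 := by rwa [mul_eq_one_comm] at h1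
    have h3 : (g⁻¹ : G3 F).1 = ct g.1 := by
      have h4 : (g⁻¹ : G3 F).1 * (g.1 * ct g.1) = ct g.1 := by
        rw [← mul_assoc]
        have : (g⁻¹ : G3 F).1 * g.1 = 1 := by
          have := congrArg Subtype.val (inv_mul_cancel g)
          exact this
        rw [this, one_mul]
      rw [← h4, h1, mul_one]
    have h5 : (tw true g).1 = g.1.map (fun a => a ^ 2) := by
      have : (tw true g).1 = (g⁻¹ : G3 F).1.transpose := rfl
      rw [this, h3]
      rfl
    have h6 : ct (tw true g).1 = g.1.transpose := by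
      rw [h5]
      unfold ct
      ext i j
      simp only [Matrix.transpose_apply, Matrix.map_apply]
      rw [← pow_mul]
      have := Cfsg.Agent.H436.L34.pow_four hF (g.1 j i)
      exact this
    have h7 : ((1 : M3 F)).map (fun a => a ^ 2) = 1 := by
      ext i j
      fin_cases i <;> fin_cases j <;> simp
    unfold hact
    rw [Matrix.mul_one, h6, h5]
    have h8 := congrArg Matrix.transpose h2
    rw [Matrix.transpose_mul, Matrix.transpose_one] at h8
    have h9 : (g.1.transpose * (g.1.map fun a => a ^ 2)) = 1 := by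
      have : (ct g.1).transpose = g.1.map (fun a => a ^ 2) := by unfold ct; rw [Matrix.transpose_transpose]
      rwa [this] at h8
    rwa [mul_eq_one_comm] at h9

/-- **type D, no fixed vector** -/
theorem killD_of (dnil : DNIL) (trz : TRZ) (abn : ABN) (alt : ALT) (hF : Fintype.card F = 4)
    (S : Fsit V3 H f z ζ g1 g2 qi qj) (h0 : fixAll (rho f) = ⊥)
    (hfix : ∀ (b : Bool) (φ : M3 F → L2), (∀ X Y, HF X → HF Y → φ (X + Y) = φ X + φ Y) →
      (∀ X, HF X → φ X = 0 → X = 0) → (∀ (g : G3 F) X, HF X → rho f g (φ X) = φ (hact (tw b g) X)) →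
      (∀ g : G3 F, hact g (1 : M3 F) = 1 → rho f g (be (φ d1) (φ d2)) = be (φ d1) (φ d2)) → be (φ d1) (φ d2) = 0) :
    False := by
  obtain ⟨b, W, hW, hab⟩ := abn hF S.sit.inj h0 hfix
  obtain ⟨b', W', hW', -, hsq⟩ := alt hF S.sit.inj hW hab
  obtain ⟨φ, a1, a0, aW, a3⟩ := hW'
  have hn : ∀ g : G3 F, hact g (1 : M3 F) = 1 → a2 (fg f g) (φ 1) = φ 1 := fun g hg => by
    have h := a3 g 1 hf_one
    rw [tw_unit hF hg] at h
    exact h
  have hW1 : φ 1 ∈ W' := (aW _).2 ⟨1, hf_one, rfl⟩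
  have hK : ∀ g : G3 F, hact g (1 : M3 F) = 1 → aK (em (fg f g)) (up (φ 1)) = up (φ 1) := fun g hg => by
    rw [Cfsg.Agent.H436.L34.aK_em_up, hn g hg]
  obtain ⟨u, u1, u2, hu⟩ := dnil hF S (up (φ 1)) (hK _ S.uq.un.1) (hK _ S.uq.un.2.1)
    (hK _ S.uq.un.2.2.1) (hK _ S.uq.un.2.2.2)
    (hsq _ hW1)
  obtain ⟨u', h1, h2⟩ := Cfsg.Agent.H436.L34.desc_sum (S := {fg f g1, fg f g2}) (y := u)
    ((Cfsg.Agent.H436.L34.mem_FK).2 (by rintro g (rfl | rfl); exacts [u1, u2])) hu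
  rw [Cfsg.Agent.H436.L34.mem_F2] at h1
  have h3 := trz hF S (φ 1) u' (Or.inl ⟨b', W', ⟨φ, a1, a0, aW, a3⟩, hW1⟩) (h1 _ (Or.inl rfl)) (h1 _ (Or.inr rfl)) h2
  have h4 := congrFun (congrFun (a0 1 hf_one h3) 0) 0
  rw [Matrix.one_apply_eq] at h4
  exact one_ne_zero h4

end Cfsg.Agent.H939.L34
end
end

-- part: H968/L34/BSet
section
set_option linter.all false
open scoped Cfsg.Agent.FastGrp

/-!
# S5917, END type D: the fixed vectors of the socle in the coordinates of the frame (helper968)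

`BB f z` : the set of the `z⁻¹ (up v)`, `v` a fixed vector of the socle.
-/

set_option autoImplicit false
set_option linter.unusedSectionVars false
set_option maxRecDepth 100000

namespace Cfsg.Agent.H968.L34

open Matrix Cfsg Cfsg.Lie Cfsg.Lie.ChevalleyDatum
open Cfsg.Agent.H691.L34
open Cfsg.Agent.H939.L64
open Cfsg.Agent.H876.L64 (aK_add aK_smul aK_zero aK_brK)
open Cfsg.Agent.H413.L16 (fr_aK)
open Cfsg.Agent.H129.TorusUntw (phi)
open Cfsg.Agent.BpExc.RowsUntw (e8T)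
open Cfsg.Agent.H437.L34 (fg rho up_injective up_add up_zero a2_br rho_apply')
open Cfsg.Agent.H888.L34.Model (Sit P3)
open Cfsg.Agent.H939.L34 (Fsit UQ)
open Cfsg.Agent.H942.DF (aK_mul' aK_one' aK_inv_r aK_inv_l VV EF Mp fr_smul)
open Cfsg.Agent.H906.L34 (fr_up exists_up sq2 up_sq2 a2_sq2)

variable {F : Type} [Field F] {H : Subgroup E2} {f : P3 F →* E2} {z : ↥(chevE8.group KK)} {ζ : KK} {g1 g2 qi qj : G3 F}

theorem aK_em_up (g : E2) (v : L2) : aK (em g) (up v) = up (a2 g v) := Cfsg.Agent.H436.L34.aK_em_up g v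

/-- the fixed vectors in the coordinates of the frame -/
noncomputable def BB (f : P3 F →* E2) (z : ↥(chevE8.group KK)) : AddSubgroup LK where
  carrier := {x | ∃ v : L2, v ∈ fixAll (rho f) ∧ x = aK z⁻¹ (up v)}
  add_mem' := by
    rintro _ _ ⟨u, hu, rfl⟩ ⟨v, hv, rfl⟩
    exact ⟨u + v, add_mem hu hv, by rw [up_add, aK_add]⟩
  zero_mem' := ⟨0, zero_mem _, by rw [up_zero, aK_zero]⟩
  neg_mem' := by
    rintro _ ⟨u, hu, rfl⟩
    refine ⟨u, hu, ?_⟩
    have h1 : aK z⁻¹ (up u) + aK z⁻¹ (up u) = 0 := by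
      funext i
      exact CharTwo.add_self_eq_zero _
    exact neg_eq_of_add_eq_zero_left h1

theorem fin_BB : Finite (BB f z) := by
  have h1 : (BB f z : Set LK) ⊆ Set.range fun v : L2 => aK z⁻¹ (up v) := by
    rintro _ ⟨v, -, rfl⟩
    exact ⟨v, rfl⟩
  exact (Set.finite_range _).subset h1

theorem BB_br {x y : LK} (hx : x ∈ BB f z) (hy : y ∈ BB f z) : brK x y ∈ BB f z := by
  obtain ⟨u, hu, rfl⟩ := hx
  obtain ⟨v, hv, rfl⟩ := hy
  refine ⟨br2 u v, fun g => ?_, ?_⟩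
  · have h1 : a2 (fg f g) u = u := hu g
    have h2 : a2 (fg f g) v = v := hv g
    show a2 (fg f g) (br2 u v) = br2 u v
    rw [a2_br, h1, h2]
  · rw [← aK_brK, Cfsg.Agent.H436.L34.up_br]

theorem BB_sq {x : LK} (hx : x ∈ BB f z) : Cfsg.Agent.H201.L34.sq x ∈ BB f z := by
  obtain ⟨u, hu, rfl⟩ := hx
  refine ⟨sq2 u, fun g => ?_, ?_⟩
  · have h1 : a2 (fg f g) u = u := hu g
    show a2 (fg f g) (sq2 u) = sq2 u
    rw [a2_sq2, h1]
  · rw [up_sq2, Cfsg.Agent.H201.L34.aK_sq]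

theorem BB_fix {x : LK} (hx : x ∈ BB f z) (g : G3 F) : aK (z⁻¹ * em (fg f g) * z) x = x := by
  obtain ⟨u, hu, rfl⟩ := hx
  have h1 : a2 (fg f g) u = u := hu g
  rw [aK_mul', aK_mul', aK_inv_r, aK_em_up, h1]

theorem BB_fr {x : LK} (hx : x ∈ BB f z) : aK (z⁻¹ * phi chevE8 KK 2 1 z) (Cfsg.Agent.H939.L64.fr x) = x := by
  obtain ⟨u, hu, rfl⟩ := hx
  rw [fr_aK, fr_up, ← aK_mul', map_inv]
  congr 1
  group

end Cfsg.Agent.H968.L34
end

-- part: H968/L34/Grp
section
set_option linter.all false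
open scoped Cfsg.Agent.FastGrp

/-!
# S5917, END type D: the group side (helper968)

* `card_dvd` : in the situation `Sit H f` the order of `H` divides `12 * 20160`;
* `no13`, `no49` : so `13` and `49` do not divide it.
-/

set_option autoImplicit false
set_option linter.unusedSectionVars false
set_option maxRecDepth 100000

namespace Cfsg.Agent.H968.L34

open Subgroup Cfsg Cfsg.Lie Matrix
open Cfsg.Agent.H939.L64 (KK E2 LK L2 a2 em aK rE)
open Cfsg.Agent.H888.L34.Model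
open Cfsg.Agent.H20.LF Cfsg.Agent.H793.RIM

theorem card_dvd' {F : Type} [Field F] [Fintype F] (hF : Fintype.card F = 4) {G : Type} [Group G] [Finite G]
    {H : Subgroup G} {f : P3 F →* G} (inj : Function.Injective f) (le : ∀ s, f s ∈ H)
    (nor : ∀ h ∈ H, ∃ τ : P3 F ≃* P3 F, ∀ s, f (τ s) = h * f s * h⁻¹)
    (tri : ∀ g ∈ H, (∀ s, Commute g (f s)) → g = 1) : Nat.card H ∣ 12 * 20160 := by
  have hle : f.range ≤ H := by
    rintro _ ⟨s, rfl⟩
    exact le s
  generalize hS : f.range.subgroupOf H = S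
  have hmem : ∀ x : ↥H, x ∈ S ↔ ∃ s, f s = (x : G) := by
    intro x
    rw [← hS, Subgroup.mem_subgroupOf, MonoidHom.mem_range]
  have e : ↥S ≃* P3 F := by
    rw [← hS]
    exact (Subgroup.subgroupOfEquivOfLe hle).trans (MonoidHom.ofInjective inj).symm
  have hn : S.Normal := by
    refine ⟨fun n hn g => ?_⟩
    rw [hmem] at hn ⊢
    obtain ⟨s, hs⟩ := hn
    obtain ⟨τ, hτ⟩ := nor g g.2
    refine ⟨τ s, ?_⟩
    rw [hτ s, hs]
    rfl
  have hB := b34_psl hF
  have hBS : B34 ↥S := b34_congr e.symm hB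
  have hna := na_of_b34 hBS
  have hs := hBS.simple
  have hI : (MulAut.conj : ↥S →* MulAut ↥S).range.index = 12 :=
    Cfsg.Agent.H199.RIM.idx_l34 hna hF e
  have hC : centralizer (S : Set ↥H) = ⊥ := by
    rw [Subgroup.eq_bot_iff_forall]
    intro x hx
    apply Subtype.ext
    refine tri x x.2 fun s => ?_
    have h1 : (⟨f s, le s⟩ : ↥H) ∈ S := (hmem _).2 ⟨s, rfl⟩
    exact (congrArg Subtype.val (mem_centralizer_iff.1 hx _ h1)).symm
  have h1 := card_index_dvd S hC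
  rw [hI] at h1
  rw [← S.index_mul_card, hBS.card]
  exact Nat.mul_dvd_mul_right h1 _

variable {F : Type} [Field F] {H : Subgroup E2} {f : P3 F →* E2}

theorem card_dvd [Fintype F] (S : Sit H f) (hF : Fintype.card F = 4) : Nat.card H ∣ 12 * 20160 :=
  card_dvd' hF S.inj S.le S.nor S.tri

theorem no13 [Fintype F] (S : Sit H f) (hF : Fintype.card F = 4) {g : E2} (hg : g ∈ H) (ho : orderOf g = 13) : False := by
  have h1 : orderOf (⟨g, hg⟩ : ↥H) ∣ Nat.card H := orderOf_dvd_natCard _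
  rw [Subgroup.orderOf_mk, ho] at h1
  have h2 := h1.trans (card_dvd S hF)
  norm_num at h2

end Cfsg.Agent.H968.L34
end

-- part: H400/L34/Faith
section
set_option linter.all false
open scoped Cfsg.Agent.FastGrp

/-!
# S5917, type (D): `C(E)` acts faithfully on the three 8-dimensional modules (helper400)

`faith` : `y ∈ LK` with `y (inr s) = 0` for the roots `s` of nonzero value (i.e. `y` fixed by `t₁, t₂`)
and `brK y (er (mt X w k)) = 0` for all `X w k` is zero.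
-/

set_option autoImplicit false
set_option maxRecDepth 100000

namespace Cfsg.Agent.H400.L34

open Cfsg Cfsg.Lie Cfsg.Lie.ChevalleyDatum
open Cfsg.Agent.ChevalleyStructure Cfsg.Agent.ChevalleyStructure.LieAbs
open Cfsg.Agent.ChevalleyStructure.Columns (car cor)
open Cfsg.Agent.H939.L64 Cfsg.Agent.H413.L16 Cfsg.Agent.H201.L34 Cfsg.Agent.H251.L34
open Cfsg.Agent.ChevalleyStructure.RootVec (rt)

/-- the index of a root -/
def ix {s : ℕ} (hs : s < 240) : chevE8.Idx := Sum.inr (⟨s, by rw [nr]; exact hs⟩ : Fin chevE8.nroots)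

/-- expansion in the basis -/
theorem expand (v : LK) : v = hv (fun i => v (Sum.inl i)) + ∑ s : Fin chevE8.nroots, v (Sum.inr s) • er s := by
  funext a
  rw [Pi.add_apply, Finset.sum_apply]
  rcases a with i | s
  · rw [Finset.sum_eq_zero, add_zero]
    · rfl
    · intro s _
      rw [Pi.smul_apply, er_of s.2, Pi.single_eq_of_ne (by simp), smul_zero]
  · have h1 : (hv fun i => v (Sum.inl i)) (Sum.inr s) = 0 := rfl
    rw [h1, zero_add, Finset.sum_eq_single s]
    · rw [Pi.smul_apply, er_inr, if_pos rfl, smul_eq_mul, mul_one]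
    · intro b _ hb
      rw [Pi.smul_apply, er_inr, if_neg (fun h => hb (Fin.ext h)), smul_zero]
    · intro h; exact absurd (Finset.mem_univ _) h

/-- elements of value zero -/
def Z00 (y : LK) : Prop := ∀ s : Fin chevE8.nroots, (∀ b, (s : ℕ) ≠ dr b) → y (Sum.inr s) = 0

theorem expand0 {y : LK} (hy : Z00 y) : y = hv (fun i => y (Sum.inl i)) +
    ∑ b : Fin 24, y (ix (dr_lt b)) • er (dr b) := by
  conv_lhs => rw [expand y]
  congr 1
  have hinj : Function.Injective (fun b : Fin 24 => (⟨dr b, by rw [nr]; exact dr_lt b⟩ : Fin chevE8.nroots)) :=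
    fun a b h => dr_inj (Fin.mk.inj_iff.1 h)
  have h1 : ∑ b : Fin 24, y (ix (dr_lt b)) • er (dr b) =
      ∑ s ∈ Finset.univ.image (fun b : Fin 24 => (⟨dr b, by rw [nr]; exact dr_lt b⟩ : Fin chevE8.nroots)),
        y (Sum.inr s) • er s := by
    rw [Finset.sum_image fun a _ b _ h => hinj h]
    rfl
  rw [h1]
  symm
  refine Finset.sum_subset (Finset.subset_univ _) fun s _ hs => ?_
  rw [hy s, zero_smul]
  intro b hb
  exact hs (Finset.mem_image.2 ⟨b, Finset.mem_univ _, Fin.ext hb.symm⟩)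

theorem br_sum_l {ι : Type*} (s : Finset ι) (f : ι → LK) (v : LK) :
    brK (∑ i ∈ s, f i) v = ∑ i ∈ s, brK (f i) v := by
  classical
  induction s using Finset.induction_on with
  | empty => rw [Finset.sum_empty, Finset.sum_empty, br_zero_l]
  | insert a s ha ih => rw [Finset.sum_insert ha, Finset.sum_insert ha, br_add_l, ih]

/-- the bracket with a root vector of an 8-dimensional module -/
theorem br_mt {y : LK} (hy : Z00 y) (X : Fin 3) (w k : Fin 8) : brK y (er (mt X w k)) =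
    (∑ i, y (Sum.inl i) * ((car chevE8 i (mt X w k) : ℤ) : KK)) • er (mt X w k) +
      ∑ b : Fin 24, y (ix (dr_lt b)) •
        (if h : rtb X b k < 8 then er (mt X w ⟨rtb X b k, h⟩) else 0) := by
  conv_lhs => rw [expand0 hy]
  rw [br_add_l, br_sum_l, br_hv _ (mt_lt X w k)]
  congr 1
  refine Finset.sum_congr rfl fun b _ => ?_
  rw [br_smul_l, br_dr_mt]

private noncomputable def _root_.Cfsg.Agent.LsF.f6f2728_0 : {f // @Cfsg.Agent.H251.L34.rtb = f} := ⟨_, by first | (delta Cfsg.Agent.H251.L34.rtb; rewrite [Cfsg.Agent.LsF.nadd_pat, Cfsg.Agent.LsF.nmul_pat, Cfsg.Agent.LsF.getD_eq]; exact rfl) | exact rfl⟩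
theorem rtb_ne : ∀ X b k, rtb X b k ≠ ((k : Fin 8) : ℕ) := by (refine of_decide_eq_true ?_; (try (rewrite [Cfsg.Agent.LsF.f6f2728_0.2, Cfsg.Agent.LsF.instDecEq_eq, Cfsg.Agent.LsF.dNot_eq, Cfsg.Agent.LsF.dForallFin_eq, Cfsg.Agent.LsF.decide_eq])); decide +kernel)

theorem rtb_ex : ∀ b : Fin 24, ∃ X k k', rtb X b k = ((k' : Fin 8) : ℕ) ∧ ∀ b', rtb X b' k = ((k' : Fin 8) : ℕ) → b' = b := by
  (refine of_decide_eq_true ?_; (try (rewrite [Cfsg.Agent.LsF.f6f2728_0.2, Cfsg.Agent.LsF.instDecEq_eq, Cfsg.Agent.LsF.dAnd_eq, Cfsg.Agent.LsF.dFinEq_eq, Cfsg.Agent.LsF.dForallFin_eq, Cfsg.Agent.LsF.dExistsFin_eq, Cfsg.Agent.LsF.decide_eq])); decide +kernel)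

/-- eight roots generating the lattice modulo two -/
def S8 : Fin 8 → Fin 3 × Fin 8 × Fin 8 :=
  ![(0, 0, 0), (0, 0, 1), (0, 0, 2), (0, 0, 3), (0, 0, 4), (0, 2, 0), (0, 3, 0), (1, 0, 0)]

def N8 : Fin 8 → Fin 8 → ℤ :=
  ![![1, 1, 1, 1, 0, 0, 0, 0], ![1, 1, 1, 0, 1, 0, 1, 0], ![1, 0, 1, 1, 1, 0, 0, 1], ![1, 1, 0, 1, 1, 0, 0, 0],
    ![0, 0, 0, 1, 1, 0, 1, 1], ![1, 1, 1, 0, 1, 0, 0, 0], ![0, 1, 1, 1, 0, 0, 1, 0], ![0, 0, 0, 0, 0, 1, 1, 0]]

private noncomputable def _root_.Cfsg.Agent.LsF.f6f2728_1 : {f // @Cfsg.Agent.H400.L34.N8 = f} := ⟨_, by first | (delta Cfsg.Agent.H400.L34.N8; rewrite [Cfsg.Agent.LsF.vecCons_eq]; exact rfl) | exact rfl⟩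
private noncomputable def _root_.Cfsg.Agent.LsF.f6f2728_2 : {f // @Cfsg.Agent.ChevalleyStructure.Columns.car = f} := ⟨_, by first | (delta Cfsg.Agent.ChevalleyStructure.Columns.car; rewrite [Cfsg.Agent.LsF.agetD_eq]; exact rfl) | exact rfl⟩
private noncomputable def _root_.Cfsg.Agent.LsF.f6f2728_3 : {f // @Cfsg.Agent.H251.L34.mt = f} := ⟨_, by first | (delta Cfsg.Agent.H251.L34.mt; rewrite [Cfsg.Agent.LsF.nadd_pat, Cfsg.Agent.LsF.nmul_pat, Cfsg.Agent.LsF.getD_eq]; exact rfl) | exact rfl⟩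
private noncomputable def _root_.Cfsg.Agent.LsF.f6f2728_4 : {f // @Cfsg.Agent.H400.L34.S8 = f} := ⟨_, by first | (delta Cfsg.Agent.H400.L34.S8; rewrite [Cfsg.Agent.LsF.vecCons_eq]; exact rfl) | exact rfl⟩
theorem N8_spec : ∀ a i : Fin 8, ((∑ j : Fin 8, N8 a j * car chevE8 i (mt (S8 j).1 (S8 j).2.1 (S8 j).2.2)) -
    if i = a then 1 else 0) % 2 = 0 := by (refine of_decide_eq_true ?_; (try (rewrite [Cfsg.Agent.LsF.f6f2728_1.2, Cfsg.Agent.LsF.f6f2728_2.2, Cfsg.Agent.LsF.f6f2728_3.2, Cfsg.Agent.LsF.f6f2728_4.2, Cfsg.Agent.LsF.imul_pat, Cfsg.Agent.LsF.isub_pat, Cfsg.Agent.LsF.imod_pat, Cfsg.Agent.LsF.finFintype_eq, Cfsg.Agent.LsF.fsum_eq, Cfsg.Agent.LsF.iACM_eq, Cfsg.Agent.LsF.instIDecEq_eq, Cfsg.Agent.LsF.dFinEq_eq, Cfsg.Agent.LsF.dForallFin_eq, Cfsg.Agent.LsF.ite_eq, Cfsg.Agent.LsF.decide_eq])); decide +kernel)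

/-- **faithfulness** -/
theorem faith {y : LK} (hy : Z00 y) (h : ∀ X w k, brK y (er (mt X w k)) = 0) : y = 0 := by
  -- the torus part
  have h1 : ∀ X w k, ∑ i, y (Sum.inl i) * ((car chevE8 i (mt X w k) : ℤ) : KK) = 0 := by
    intro X w k
    have h2 := congrFun (h X w k) (ix (mt_lt X w k))
    rw [br_mt hy, Pi.add_apply, Pi.smul_apply, Finset.sum_apply] at h2
    have hz : ∑ c : Fin 24, (y (ix (dr_lt c)) •
        (if h : rtb X c k < 8 then er (mt X w ⟨rtb X c k, h⟩) else 0) : LK) (ix (mt_lt X w k)) = 0 := by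
      refine Finset.sum_eq_zero fun b _ => ?_
      rw [Pi.smul_apply]
      unfold ix
      split_ifs with hb
      · rw [er_inr, if_neg, smul_zero]
        intro he
        exact rtb_ne X b k (congrArg Fin.val (mt_inj X w ⟨rtb X b k, hb⟩ X w k he).2.2)
      · rw [Pi.zero_apply, smul_zero]
    rw [hz, add_zero] at h2
    unfold ix at h2
    rw [er_inr, if_pos rfl, smul_eq_mul, mul_one] at h2
    exact h2
  have h3 : ∀ a : Fin 8, y (Sum.inl (show Fin chevE8.rank from a)) = 0 := by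
    intro a
    have e : ∀ i : Fin 8, ((∑ j : Fin 8, N8 a j * car chevE8 i (mt (S8 j).1 (S8 j).2.1 (S8 j).2.2) : ℤ) : KK) =
        if i = a then 1 else 0 := by
      intro i
      rw [cast_congr (N8_spec a i)]
      split_ifs <;> simp
    have e2 : ∑ j : Fin 8, ((N8 a j : ℤ) : KK) *
        (∑ i : Fin 8, y (Sum.inl (show Fin chevE8.rank from i)) *
          ((car chevE8 i (mt (S8 j).1 (S8 j).2.1 (S8 j).2.2) : ℤ) : KK)) = y (Sum.inl (show Fin chevE8.rank from a)) := by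
      simp only [Finset.mul_sum]
      rw [Finset.sum_comm]
      have : ∀ i : Fin 8, ∑ j : Fin 8, ((N8 a j : ℤ) : KK) *
          (y (Sum.inl (show Fin chevE8.rank from i)) *
            ((car chevE8 i (mt (S8 j).1 (S8 j).2.1 (S8 j).2.2) : ℤ) : KK)) =
          y (Sum.inl (show Fin chevE8.rank from i)) * (if i = a then 1 else 0) := by
        intro i
        rw [← e i]
        push_cast
        rw [Finset.mul_sum]
        refine Finset.sum_congr rfl fun j _ => ?_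
        ring
      rw [Finset.sum_congr rfl fun i _ => this i]
      rw [Finset.sum_eq_single a]
      · rw [if_pos rfl, mul_one]
      · intro b _ hb
        rw [if_neg hb, mul_zero]
      · intro hh; exact absurd (Finset.mem_univ _) hh
    rw [← e2]
    refine Finset.sum_eq_zero fun j _ => ?_
    have := h1 (S8 j).1 (S8 j).2.1 (S8 j).2.2
    exact (congrArg (fun t => ((N8 a j : ℤ) : KK) * t) this).trans (mul_zero _)
  have h4 : ∀ b, y (ix (dr_lt b)) = 0 := by
    intro b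
    obtain ⟨X, k, k', hk, hu⟩ := rtb_ex b
    have h2 := congrFun (h X 0 k) (ix (mt_lt X 0 k'))
    rw [br_mt hy, h1, zero_smul, zero_add, Finset.sum_apply] at h2
    unfold ix at h2
    rw [Finset.sum_eq_single b] at h2
    · rw [Pi.smul_apply, dif_pos (hk ▸ k'.2), er_inr, if_pos, smul_eq_mul, mul_one] at h2
      · exact h2
      · show mt X 0 ⟨rtb X b k, _⟩ = mt X 0 k'
        congr 1
        exact Fin.ext hk
    · intro b' _ hb'
      rw [Pi.smul_apply]
      split_ifs with hb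
      · rw [er_inr, if_neg, smul_zero]
        intro he
        exact hb' (hu b' (congrArg Fin.val (mt_inj X 0 ⟨rtb X b' k, hb⟩ X 0 k' he).2.2))
      · rw [Pi.zero_apply, smul_zero]
    · intro hh; exact absurd (Finset.mem_univ _) hh
  rw [expand0 hy]
  rw [Finset.sum_eq_zero fun b _ => by rw [h4, zero_smul], add_zero]
  funext a
  rcases a with i | s
  · exact h3 i
  · rfl

end Cfsg.Agent.H400.L34
end

-- part: H400/L34/Z00
section
set_option linter.all false
open scoped Cfsg.Agent.FastGrp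

/-!
# S5917, type (D): the fixed space of `t₁, t₂` (helper400)
-/

set_option autoImplicit false
set_option maxRecDepth 100000

namespace Cfsg.Agent.H400.L34


open CoxeterSystem Cfsg Cfsg.Lie Cfsg.Lie.ChevalleyDatum
open Cfsg.Agent.ChevalleyStructure Cfsg.Agent.ChevalleyStructure.Elts Cfsg.Agent.ChevalleyStructure.CoxeterGeom
  Cfsg.Agent.ChevalleyStructure.CoxeterGeomTypes Cfsg.Agent.ChevalleyStructure.NPerm
open Cfsg.Agent.ChevalleyStructure.LieAbs Cfsg.Agent.ChevalleyStructure.LieAut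
open Cfsg.Agent.ChevalleyStructure.Columns (car cor)
open Cfsg.Agent.ChevalleyStructure.RootVec (rt)
open Cfsg.Agent.Tits.Roots Cfsg.Agent.Tits.Core Cfsg.Agent.Nodes Cfsg.Agent.Nodes.Reps Cfsg.Agent.Nodes.BNOf
  Cfsg.Agent.Nodes.RGDChev Cfsg.Agent.Nodes.Bruhat Cfsg.Agent.Nodes.SubComb Cfsg.Agent.Nodes.Coroot
open Cfsg.Agent.KFacts.RgdField Cfsg.Agent.KFacts.RgdChevCoord Cfsg.Agent.BpExc.TorCent Cfsg.Agent.BpExc.TorChev
open Cfsg.Agent.GpExc.Field Cfsg.Agent.BpExc.Tow Cfsg.Agent.BpExc.TowChev Cfsg.Agent.BpExc.Fr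
  Cfsg.Agent.BpExc.LangFr Cfsg.Agent.LangThm Cfsg.Agent.BpExc Cfsg.Agent.H129.TorusMain Cfsg.Agent.H129.TorusUntw
open Cfsg.Agent.H129.TorusChar (cX cX_pow cX_one cX_inj isMC_cX cX_root cX_rp cX_mul ch_sigma exists_cX)
open Cfsg.Agent.H720.TorusReal Cfsg.Agent.H897
open Cfsg.Agent.H897.T5Frame (bc rc bf_eq)
open Cfsg.Agent.H897.T5UntwRow (A8)
open Cfsg.Agent.BpExc.RowsUntw (e8T)
open Cfsg.Agent.H939.L64
open Cfsg.Agent.H413.L64
open Cfsg.Agent.H413.L16
open Cfsg.Agent.H876.L64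


open Cfsg.Agent.H201.L34 Cfsg.Agent.H251.L34

theorem w_ne : ∀ w : Fin 8, (0 : ZMod 3) = (((w : ℕ) + 1) / 3 : ℕ) → (0 : ZMod 3) = (((w : ℕ) + 1) % 3 : ℕ) → False := by
  decide

theorem lt240 (s : Fin chevE8.nroots) : (s : ℕ) < 240 := lt_of_lt_of_eq s.2 nr

/-- a root with both values zero is a root of `D₄` -/
theorem val_zero {s : ℕ} (hs : s < 240) (h1 : w1 s = 0) (h3 : w3 s = 0) : ∃ b, s = dr b := by
  rcases root_cases hs with h | ⟨X, w, k, rfl⟩ | ⟨w, i, rfl⟩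
  · exact h
  · exfalso
    obtain ⟨e1, e3⟩ := val_mt X w k
    rw [h1] at e1
    rw [h3] at e3
    exact w_ne w e1 e3
  · exfalso
    obtain ⟨e1, e3⟩ := val_dp w i
    rw [h1] at e1
    rw [h3] at e3
    exact w_ne w e1 e3

theorem aK_coord {t : ↥(chevE8.group KK)} {ω : KK} (ht : t ∈ TT chevE8 KK) (hω : IsPrimitiveRoot ω 3)
    {V : Fin 8 → ZMod 3} (hv : ∀ i, cX e8T t (sr i) = ω ^ (V i).val) (y : LK) (s : Fin chevE8.nroots) :
    aK t y (Sum.inr s) = ω ^ (∑ i : Fin 8, V i * ((rt chevE8 s i : ℤ) : ZMod 3)).val * y (Sum.inr s) := by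
  have hs : (s : ℕ) < 240 := lt240 s
  have h1 := congrFun (aK_t3 ht hω hv hs) (Sum.inr s)
  rw [aK_tor ht, Pi.smul_apply, er_inr, if_pos rfl, smul_eq_mul, mul_one, mul_one] at h1
  rw [aK_tor ht, h1]

theorem pow_val_ne {ω : KK} (hω : IsPrimitiveRoot ω 3) {a : ZMod 3} (ha : a ≠ 0) : ω ^ a.val ≠ 1 := by
  intro h
  have h1 := hω.dvd_of_pow_eq_one _ h
  have h2 := ZMod.val_lt a
  have h3 : a.val = 0 := by omega
  exact ha ((ZMod.val_eq_zero a).1 h3)

/-- **the fixed space of `t₁, t₂`** -/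
theorem z00_iff {t1 t2 : ↥(chevE8.group KK)} {ω : KK} (ht1 : t1 ∈ TT chevE8 KK) (ht2 : t2 ∈ TT chevE8 KK)
    (hω : IsPrimitiveRoot ω 3) (hv1 : ∀ i, cX e8T t1 (sr i) = ω ^ (V1 i).val)
    (hv3 : ∀ i, cX e8T t2 (sr i) = ω ^ (V3 i).val) (y : LK) :
    (aK t1 y = y ∧ aK t2 y = y) ↔ Z00 y := by
  constructor
  · rintro ⟨h1, h2⟩ s hs
    by_contra hy
    have e1 := congrFun h1 (Sum.inr s)
    have e2 := congrFun h2 (Sum.inr s)
    rw [aK_coord ht1 hω hv1] at e1
    rw [aK_coord ht2 hω hv3] at e2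
    have hs' : (s : ℕ) < 240 := lt240 s
    have f1 : w1 s = 0 := by
      by_contra h
      exact pow_val_ne hω h (mul_right_cancel₀ hy (e1.trans (one_mul _).symm))
    have f3 : w3 s = 0 := by
      by_contra h
      exact pow_val_ne hω h (mul_right_cancel₀ hy (e2.trans (one_mul _).symm))
    obtain ⟨b, hb⟩ := val_zero hs' f1 f3
    exact hs b hb
  · intro hy
    have key : ∀ {t : ↥(chevE8.group KK)} {V : Fin 8 → ZMod 3} (_ : t ∈ TT chevE8 KK)
        (_ : ∀ i, cX e8T t (sr i) = ω ^ (V i).val)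
        (_ : ∀ b, (∑ i : Fin 8, V i * ((rt chevE8 (dr b) i : ℤ) : ZMod 3)) = 0), aK t y = y := by
      intro t V ht hv hb
      funext a
      rcases a with i | s
      · rw [aK_tor ht]
        exact one_mul _
      · rw [aK_coord ht hω hv]
        by_cases h : ∃ b, (s : ℕ) = dr b
        · obtain ⟨b, hb'⟩ := h
          rw [hb', hb b, ZMod.val_zero, pow_zero, one_mul]
        · push Not at h
          rw [hy s h, mul_zero]
    exact ⟨key ht1 hv1 fun b => (val_dr b).1, key ht2 hv3 fun b => (val_dr b).2⟩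

end Cfsg.Agent.H400.L34
end

-- part: H288/L34/HfixRho
section
prune_inst 0x314069047522020000008010922000006800040000000000c8a00b020b49200204c280401e100100028a90815001000010000020000000000000340000030120988242002250090446000f800004000000000000000000000000000000000004000000000
set_option linter.all false
open scoped Cfsg.Agent.FastGrp

-- part: H288/L34/LamEmb
section
/-! The exterior square of the 9 embedded: its socle is the dual 9 (S5917, part of `lam_emb`). -/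

set_option autoImplicit false
set_option linter.constructorNameAsVariable false

namespace Cfsg.Agent.H288.L34

open Matrix Cfsg.Agent.H691.L34 Cfsg.Agent.SporadicA.FieldFour

/-- coordinates of `Ep` in the socle. -/
def epc : List ℕ := [16, 50, 82, 2, 166, 298, 7, 11, 1]

theorem epc_ok : epc.map (act soc) = Ep := by decide +kernel

theorem Ep_lt : ltOK Ep 36 = true := by decide +kernel

theorem Ep_inj : ∀ n < 512, act Ep n = 0 → n = 0 := by decide +kernel

/-- is zero -/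
def zb (l : List F4) : Bool := eqb l [F4.z, F4.z, F4.z, F4.z, F4.z, F4.z, F4.z, F4.z, F4.z]

private theorem B4_colsR : B4.map (fun X => X 0 0) = [F4.o, F4.z, F4.z, F4.z, F4.z, F4.z, F4.z, F4.z, F4.z] ∧
    B4.map (fun X => X 0 1) = [F4.z, F4.o, F4.w, F4.z, F4.z, F4.z, F4.z, F4.z, F4.z] ∧
    B4.map (fun X => X 0 2) = [F4.z, F4.z, F4.z, F4.z, F4.o, F4.w, F4.z, F4.z, F4.z] ∧
    B4.map (fun X => X 1 0) = [F4.z, F4.o, F4.v, F4.z, F4.z, F4.z, F4.z, F4.z, F4.z] ∧
    B4.map (fun X => X 1 1) = [F4.z, F4.z, F4.z, F4.o, F4.z, F4.z, F4.z, F4.z, F4.z] ∧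
    B4.map (fun X => X 1 2) = [F4.z, F4.z, F4.z, F4.z, F4.z, F4.z, F4.o, F4.w, F4.z] ∧
    B4.map (fun X => X 2 0) = [F4.z, F4.z, F4.z, F4.z, F4.o, F4.v, F4.z, F4.z, F4.z] ∧
    B4.map (fun X => X 2 1) = [F4.z, F4.z, F4.z, F4.z, F4.z, F4.z, F4.o, F4.v, F4.z] ∧
    B4.map (fun X => X 2 2) = [F4.z, F4.z, F4.z, F4.z, F4.z, F4.z, F4.z, F4.z, F4.o] := by decide +kernel

private theorem evf_zR (l : List F4) (n : ℕ) : evf (F4.z :: l) n = evf l (n / 2) := by
  show F4.add (cond ((n % 2).beq 1) F4.z F4.z) (evf l (n / 2)) = _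
  cases (n % 2).beq 1 <;> cases evf l (n / 2) <;> rfl

private theorem evf_oR (l : List F4) (n : ℕ) :
    evf (F4.o :: l) n = F4.add (cond ((n % 2).beq 1) F4.o F4.z) (evf l (n / 2)) := rfl

private theorem evf_wR (l : List F4) (n : ℕ) :
    evf (F4.w :: l) n = F4.add (cond ((n % 2).beq 1) F4.w F4.z) (evf l (n / 2)) := rfl

private theorem evf_vR (l : List F4) (n : ℕ) :
    evf (F4.v :: l) n = F4.add (cond ((n % 2).beq 1) F4.v F4.z) (evf l (n / 2)) := rfl

private theorem evf_eR (n : ℕ) : evf [] n = F4.z := rfl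

theorem B4_inj' : ∀ n < 512, zb [evf (B4.map (fun X => X 0 0)) n, evf (B4.map (fun X => X 0 1)) n,
      evf (B4.map (fun X => X 0 2)) n, evf (B4.map (fun X => X 1 0)) n, evf (B4.map (fun X => X 1 1)) n,
      evf (B4.map (fun X => X 1 2)) n, evf (B4.map (fun X => X 2 0)) n, evf (B4.map (fun X => X 2 1)) n,
      evf (B4.map (fun X => X 2 2)) n] = true → n = 0 := by
  obtain ⟨h1, h2, h3, h4, h5, h6, h7, h8, h9⟩ := B4_colsR
  rw [h1, h2, h3, h4, h5, h6, h7, h8, h9]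
  simp only [evf_zR, evf_oR, evf_wR, evf_vR, evf_eR]
  decide +kernel

theorem B4_inj (n : ℕ) (hn : n < 2 ^ 9) (h : ev B4 n = 0) : n = 0 := by
  apply B4_inj' n hn
  have hz : ∀ a b : Fin 3, evf (B4.map (fun X => X a b)) n = F4.z := by
    intro a b
    rw [← ev_entry, h]; rfl
  rw [hz, hz, hz, hz, hz, hz, hz, hz, hz]
  rfl

theorem B4_inj2 (n m : ℕ) (hn : n < 2 ^ 9) (hm : m < 2 ^ 9) (h : ev B4 n = ev B4 m) : n = m := by
  have hV : ∀ X : M3 F4, X + X = 0 := by
    intro X; ext i j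
    have : ∀ a : F4, a + a = 0 := by decide
    exact this _
  have h1 : ev B4 (n ^^^ m) = 0 := by rw [ev_xor hV, h, hV]
  exact Nat.xor_eq_zero_iff.1 (B4_inj _ (Nat.xor_lt_two_pow hn hm) h1)

section

variable {F : Type} [Field F] (e : F4 ≃+* F)

/-- squaring -/
def sqh : F →+* F where
  toFun a := a ^ 2
  map_one' := one_pow 2
  map_mul' a b := mul_pow a b 2
  map_zero' := by ring
  map_add' a b := by linear_combination (a * b) * char_two e 1

theorem sqh_sqh (a : F) : sqh e (sqh e a) = a := by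
  show (a ^ 2) ^ 2 = a
  have h0 : ∀ x : F4, (x ^ 2) ^ 2 = x := by
    intro x
    have : ∀ x : F4, (x * x) * (x * x) = x := by decide
    rw [pow_two, pow_two]; exact this x
  have h := congrArg e (h0 (e.symm a))
  rw [map_pow, map_pow, RingEquiv.apply_symm_apply] at h
  exact h

/-- squaring on matrices -/
def cjm : M3 F →+* M3 F := (sqh e).mapMatrix

/-- squaring on the group -/
def cj : G3 F →* G3 F := SpecialLinearGroup.map (sqh e)

theorem cj_coe (g : G3 F) : (cj e g).1 = cjm e g.1 := rfl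

theorem cjm_cjm (X : M3 F) : cjm e (cjm e X) = X := by
  ext i j
  exact sqh_sqh e _

theorem cj_cj (g : G3 F) : cj e (cj e g) = g := by
  apply Subtype.ext
  rw [cj_coe, cj_coe, cjm_cjm]

theorem ct_cjm (X : M3 F) : ct (cjm e X) = cjm e (ct X) := rfl

theorem cjm_hact (g : G3 F) (X : M3 F) : cjm e (hact g X) = hact (cj e g) (cjm e X) := by
  unfold hact
  rw [map_mul, map_mul, cj_coe, ct_cjm]

theorem HF_cjm (X : M3 F) (hX : HF X) : HF (cjm e X) := by
  unfold HF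
  rw [ct_cjm, hX]

include e in
theorem HF_hact (g : G3 F) (X : M3 F) (hX : HF X) : HF (hact g X) := by
  unfold HF hact
  rw [ct_mul _ _ (char_two e), ct_mul _ _ (char_two e), ct_ct e, hX, Matrix.mul_assoc]

include e in
theorem hact_mul (a b : G3 F) (X : M3 F) : hact (a * b) X = hact a (hact b X) := by
  unfold hact
  show (a.1 * b.1) * X * ct (a.1 * b.1) = _
  rw [ct_mul _ _ (char_two e)]
  simp only [Matrix.mul_assoc]

omit e in
/-- entries of the product -/
def ge (k : ℕ) (a b : Fin 3) : F4 := (gm (tau k) * ct (gm k)) a b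

omit e in
theorem ge_ok : ∀ k < 10, ∀ a b : Fin 3, ge k a b = if a = b then F4.o else F4.z := by
  decide +kernel

omit e in
theorem it_eq (y h : G3 F) (hy : h.1 * y.1.transpose = 1) : it y = h := by
  apply Subtype.ext
  have h1 : (it y).1 * y.1.transpose = 1 := by
    show (y⁻¹ : G3 F).1.transpose * y.1.transpose = 1
    rw [← Matrix.transpose_mul]
    have h7 : y.1 * (y⁻¹ : G3 F).1 = 1 := by
      have : (y * y⁻¹ : G3 F).1 = (1 : G3 F).1 := by rw [mul_inv_cancel]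
      exact this
    rw [h7, Matrix.transpose_one]
  have h2 : y.1.transpose * h.1 = 1 := mul_eq_one_comm.1 hy
  calc (it y).1 = (it y).1 * (y.1.transpose * h.1) := by rw [h2, Matrix.mul_one]
    _ = ((it y).1 * y.1.transpose) * h.1 := (Matrix.mul_assoc _ _ _).symm
    _ = h.1 := by rw [h1, Matrix.one_mul]

theorem gF_tau (k : ℕ) (hk : k < 10) : it (cj e (gF e k)) = gF e (tau k) := by
  apply it_eq
  show mu e (gm (tau k)) * ct (mu e (gm k)) = 1
  rw [ct_mu, ← map_mul]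
  have h : gm (tau k) * ct (gm k) = 1 := by
    ext a b
    refine (ge_ok k hk a b).trans ?_
    rw [Matrix.one_apply]; rfl
  rw [h, map_one]

end

section

variable {F : Type} [Field F] (e : F4 ≃+* F)

open Classical in
/-- index of a hermitian matrix -/
noncomputable def idx (X : M3 F) : ℕ := if h : ∃ n < 2 ^ 9, X = mu e (ev B4 n) then h.choose else 0

theorem idx_spec (X : M3 F) (hX : HF X) : idx e X < 2 ^ 9 ∧ X = mu e (ev B4 (idx e X)) := by
  have h := herm_ev e X hX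
  unfold idx
  rw [dif_pos h]
  exact h.choose_spec

theorem idx_ev (n : ℕ) (hn : n < 2 ^ 9) : idx e (mu e (ev B4 n)) = n := by
  obtain ⟨h1, h2⟩ := idx_spec e _ (HF_ev e n)
  exact B4_inj2 _ _ h1 hn (mu_inj e _ _ h2.symm)

theorem idx_add (X Y : M3 F) (hX : HF X) (hY : HF Y) : idx e (X + Y) = idx e X ^^^ idx e Y := by
  obtain ⟨h1, h2⟩ := idx_spec e X hX
  obtain ⟨h3, h4⟩ := idx_spec e Y hY
  have hV : ∀ X : M3 F4, X + X = 0 := by
    intro X; ext i j
    have : ∀ a : F4, a + a = 0 := by decide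
    exact this _
  have h5 : X + Y = mu e (ev B4 (idx e X ^^^ idx e Y)) := by
    rw [ev_xor hV, map_add, ← h2, ← h4]
  rw [congrArg (idx e) h5]
  exact idx_ev e _ (Nat.xor_lt_two_pow h1 h3)

theorem M_lt : ∀ k < 10, ltOK (M k) 9 = true := by decide +kernel

theorem idx_hact (k : ℕ) (hk : k < 10) (X : M3 F) (hX : HF X) :
    idx e (hact (gF e k) X) = act (M k) (idx e X) := by
  obtain ⟨h1, h2⟩ := idx_spec e X hX
  have h3 : hact (gF e k) X = mu e (ev B4 (act (M k) (idx e X))) := by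
    conv_lhs => rw [h2]
    exact hact_gF e k hk _
  rw [h3]
  exact idx_ev e _ (act_lt _ _ _ (M_lt k hk))

end

section

variable {F : Type} [Field F] {V : Type} [AddCommGroup V] [Module (ZMod 2) V]
  {ρ : Representation (ZMod 2) (G3 F) V} (e : F4 ≃+* F)

theorem psi_all (b : Bool) (f : List V) (hf : Sys (fun g => rr e ρ b (tau g)) f) (y : G3 F) :
    ∀ X, HF X → ρ (tw b (it (cj e y))) (ev f (idx e X)) = ev f (idx e (hact y X)) := by
  apply gen_ind e (fun y => ∀ X, HF X → ρ (tw b (it (cj e y))) (ev f (idx e X)) = ev f (idx e (hact y X)))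
  · intro X hX
    rw [map_one, map_one, map_one, map_one]
    have h1 : ct (1 : M3 F) = 1 := by
      unfold ct
      ext i j
      rw [Matrix.transpose_apply, Matrix.map_apply, Matrix.one_apply, Matrix.one_apply]
      by_cases h : i = j
      · rw [if_pos h, if_pos h.symm, one_pow]
      · rw [if_neg h, if_neg (Ne.symm h)]; ring
    have : hact (1 : G3 F) X = X := by
      unfold hact
      show 1 * X * ct 1 = X
      rw [h1, Matrix.one_mul, Matrix.mul_one]
    rw [this]; rfl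
  · intro a c ha hc X hX
    rw [map_mul, map_mul, map_mul, map_mul, hact_mul e]
    show ρ _ (ρ _ (ev f _)) = _
    rw [hc X hX, ha _ (HF_hact e c X hX)]
  · intro k hk X hX
    rw [gF_tau e k hk, idx_hact e k hk X hX]
    exact hf.ev vv k hk _

theorem tw_it (b : Bool) (g : G3 F) : tw b (it (tw (!b) g)) = g := by
  cases b
  · exact it_it g
  · exact it_it g

/-- the dual nine -/
theorem dual_nine (b : Bool) (f : List V) (hf : Sys (fun g => rr e ρ b (tau g)) f)
    (hi : ∀ n < 2 ^ 9, ev f n = 0 → n = 0) (N : Submodule (ZMod 2) V)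
    (hN : ∀ v, v ∈ N ↔ ∃ n < 2 ^ 9, ev f n = v) : IsNine ρ (!b) N := by
  refine ⟨fun X => ev f (idx e (cjm e X)), ?_, ?_, ?_, ?_⟩
  · intro X Y hX hY
    show ev f (idx e (cjm e (X + Y))) = ev f _ + ev f _
    rw [map_add, idx_add e _ _ (HF_cjm e X hX) (HF_cjm e Y hY), ev_xor vv]
  · intro X hX h
    obtain ⟨h1, h2⟩ := idx_spec e _ (HF_cjm e X hX)
    have h3 := hi _ h1 h
    rw [h3, ev_zero, map_zero] at h2
    rw [← cjm_cjm e X, h2, map_zero]
  · intro v
    rw [hN]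
    constructor
    · rintro ⟨n, hn, rfl⟩
      refine ⟨cjm e (mu e (ev B4 n)), HF_cjm e _ (HF_ev e n), ?_⟩
      show ev f (idx e (cjm e (cjm e (mu e (ev B4 n))))) = _
      rw [cjm_cjm, idx_ev e n hn]
    · rintro ⟨X, hX, rfl⟩
      exact ⟨_, (idx_spec e _ (HF_cjm e X hX)).1, rfl⟩
  · intro g X hX
    show ρ g (ev f (idx e (cjm e X))) = ev f (idx e (cjm e (hact (tw (!b) g) X)))
    rw [cjm_hact, ← psi_all e b f hf _ _ (HF_cjm e X hX), cj_cj, tw_it]

end

section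

variable {F : Type} [Field F] [Fintype F] {V : Type} [AddCommGroup V] [Module (ZMod 2) V] [Module.Finite (ZMod 2) V]
  {ρ : Representation (ZMod 2) (G3 F) V}

omit [Module.Finite (ZMod 2) V] in
theorem bsp_sub {β : V →ₗ[ZMod 2] V →ₗ[ZMod 2] V} (hβ : Brk ρ β) (e : F4 ≃+* F) {W : Submodule (ZMod 2) V} {φ : M3 F → V}
    (h1 : ∀ X Y, HF X → HF Y → φ (X + Y) = φ X + φ Y) (h2 : ∀ v, v ∈ W ↔ ∃ X, HF X ∧ φ X = v) (v : V)
    (hv : v ∈ bsp β W) : ∃ n < 2 ^ 36, ev (cl (brA β) (el e φ)) n = v := by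
  unfold bsp at hv
  induction hv using Submodule.span_induction with
  | mem x hx =>
    obtain ⟨x, hx, y, hy, rfl⟩ := hx
    obtain ⟨X, hX, rfl⟩ := (h2 x).1 hx
    obtain ⟨Y, hY, rfl⟩ := (h2 y).1 hy
    obtain ⟨n, -, rfl⟩ := herm_ev e X hX
    obtain ⟨m, -, rfl⟩ := herm_ev e Y hY
    exact ⟨_, wedge_lt n m, (beta_ev hβ e h1 n m).symm⟩
  | zero => exact ⟨0, by norm_num, ev_zero _⟩
  | add x y _ _ hx hy =>
    obtain ⟨n, hn, rfl⟩ := hx
    obtain ⟨m, hm, rfl⟩ := hy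
    exact ⟨_, Nat.xor_lt_two_pow hn hm, ev_xor vv _ _ _⟩
  | smul a x _ hx =>
    obtain ⟨n, hn, rfl⟩ := hx
    have ha : a = 0 ∨ a = 1 := by revert a; decide
    rcases ha with rfl | rfl
    · exact ⟨0, by norm_num, by rw [ev_zero, zero_smul]⟩
    · exact ⟨n, hn, by rw [one_smul]⟩

theorem inj_of_le {β : V →ₗ[ZMod 2] V →ₗ[ZMod 2] V} (hβ : Brk ρ β) (e : F4 ≃+* F) {W : Submodule (ZMod 2) V} {φ : M3 F → V}
    (h1 : ∀ X Y, HF X → HF Y → φ (X + Y) = φ X + φ Y) (h2 : ∀ v, v ∈ W ↔ ∃ X, HF X ∧ φ X = v)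
    (h : 36 ≤ Module.finrank (ZMod 2) (bsp β W)) : ∀ n < 2 ^ 36, ev (cl (brA β) (el e φ)) n = 0 → n = 0 := by
  have hfin : Finite V := Module.finite_of_finite (ZMod 2)
  let f : Fin (2 ^ 36) → bsp β W := fun k => ⟨ev (cl (brA β) (el e φ)) k, cl_mem β e h2 k⟩
  have hf : Function.Surjective f := by
    rintro ⟨v, hv⟩
    obtain ⟨n, hn, h3⟩ := bsp_sub hβ e h1 h2 v hv
    exact ⟨⟨n, hn⟩, Subtype.ext h3⟩
  have hc : Nat.card (Fin (2 ^ 36)) ≤ Nat.card (bsp β W) := by
    rw [Nat.card_eq_fintype_card, Fintype.card_fin, card_sub]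
    exact Nat.pow_le_pow_right (by norm_num) h
  have hb := (hf.bijective_of_nat_card_le hc).1
  intro n hn h0
  have h3 : f ⟨n, hn⟩ = f ⟨0, by norm_num⟩ := by
    apply Subtype.ext
    show ev _ n = ev _ 0
    rw [h0, ev_zero]
  exact congrArg Fin.val (hb h3)

omit [Module.Finite (ZMod 2) V] in
theorem bsp_inv {β : V →ₗ[ZMod 2] V →ₗ[ZMod 2] V} (hβ : Brk ρ β) {W : Submodule (ZMod 2) V} (hW : _root_.Cfsg.Agent.H691.L34.Inv ρ W) :
    _root_.Cfsg.Agent.H691.L34.Inv ρ (bsp β W) := by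
  intro g w hw
  unfold bsp at hw ⊢
  induction hw using Submodule.span_induction with
  | mem x hx =>
    obtain ⟨x, hx, y, hy, rfl⟩ := hx
    apply Submodule.subset_span
    exact ⟨_, hW g x hx, _, hW g y hy, (hβ.inv g x y).symm⟩
  | zero => rw [map_zero]; exact Submodule.zero_mem _
  | add x y _ _ hx hy => rw [map_add]; exact Submodule.add_mem _ hx hy
  | smul a x _ hx => rw [map_smul]; exact Submodule.smul_mem _ _ hx

omit [Fintype F] [Module.Finite (ZMod 2) V] in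
theorem nine_inv (e : F4 ≃+* F) {b : Bool} {W : Submodule (ZMod 2) V} (hW : IsNine ρ b W) : _root_.Cfsg.Agent.H691.L34.Inv ρ W := by
  obtain ⟨φ, -, -, h2, h3⟩ := hW
  intro g w hw
  obtain ⟨X, hX, rfl⟩ := (h2 w).1 hw
  rw [h3 g X hX, h2]
  exact ⟨_, HF_hact e _ X hX, rfl⟩

/-- (I-Lc) without the dimensions -/
theorem lam_emb_of (hF : Fintype.card F = 4) {β : V →ₗ[ZMod 2] V →ₗ[ZMod 2] V} (hβ : Brk ρ β) {b : Bool}
    {W : Submodule (ZMod 2) V} (hW : IsNine ρ b W) (h : 36 ≤ Module.finrank (ZMod 2) (bsp β W)) :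
    _root_.Cfsg.Agent.H691.L34.Inv ρ (bsp β W) ∧ ∃ N, IsNine ρ (!b) N ∧ N ≤ bsp β W ∧
      ∀ X : Submodule (ZMod 2) V, _root_.Cfsg.Agent.H691.L34.Inv ρ X → X ≤ bsp β W → X ≠ ⊥ → N ≤ X := by
  obtain ⟨e⟩ := ringEq hF
  refine ⟨bsp_inv hβ (nine_inv e hW), ?_⟩
  obtain ⟨φ, h1, -, h2, h3⟩ := hW
  have hS := sys_of e b φ h1 h3
  have hinj := inj_of_le hβ e h1 h2 h
  have hd := hS.dual vv hβ.alt (br := brA β) (brA_eqv hβ e b)
  have he : ∀ n, ev (Ep.map (ev (cl (brA β) (el e φ)))) n = ev (cl (brA β) (el e φ)) (act Ep n) := fun n =>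
    ev_map_ev vv _ _ _
  have hlt : ∀ n, act Ep n < 2 ^ 36 := fun n => act_lt _ _ _ Ep_lt
  let N : Submodule (ZMod 2) V :=
    { carrier := {v | ∃ n < 2 ^ 9, ev (Ep.map (ev (cl (brA β) (el e φ)))) n = v}
      add_mem' := by
        rintro x y ⟨n, hn, rfl⟩ ⟨m, hm, rfl⟩
        exact ⟨_, Nat.xor_lt_two_pow hn hm, ev_xor vv _ _ _⟩
      zero_mem' := ⟨0, by norm_num, ev_zero _⟩
      smul_mem' := by
        rintro a x ⟨n, hn, rfl⟩
        have ha : a = 0 ∨ a = 1 := by revert a; decide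
        rcases ha with rfl | rfl
        · exact ⟨0, by norm_num, by rw [ev_zero, zero_smul]⟩
        · exact ⟨n, hn, by rw [one_smul]⟩ }
  have hN : ∀ v, v ∈ N ↔ ∃ n < 2 ^ 9, ev (Ep.map (ev (cl (brA β) (el e φ)))) n = v := fun v => Iff.rfl
  refine ⟨N, dual_nine e b _ hd ?_ N hN, ?_, ?_⟩
  · intro n hn h0
    rw [he] at h0
    exact Ep_inj n hn (hinj _ (hlt n) h0)
  · intro v hv
    obtain ⟨n, hn, rfl⟩ := (hN v).1 hv
    rw [he]
    exact cl_mem β e h2 _
  · intro X hX hXle hX0 v hv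
    obtain ⟨n, hn, rfl⟩ := (hN v).1 hv
    obtain ⟨w, hw, hw0⟩ := (Submodule.ne_bot_iff X).1 hX0
    obtain ⟨n0, hn0, h4⟩ := bsp_sub hβ e h1 h2 w (hXle hw)
    have hK := hS.stab (br := brA β) vv hβ.alt (brA_eqv hβ e b) (fun v => v ∈ X) X.zero_mem
      (fun x y hx hy => X.add_mem hx hy) (fun g _ x hx => hX _ x hx)
    have hs := hK.soc n0 ⟨hn0, by rw [h4]; exact hw⟩ (by rintro rfl; rw [ev_zero] at h4; exact hw0 h4.symm)
    have hE : ∀ x ∈ Ep, x < 2 ^ 36 ∧ ev (cl (brA β) (el e φ)) x ∈ X := by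
      rw [← epc_ok]
      intro x hx
      obtain ⟨m, -, rfl⟩ := List.mem_map.1 hx
      exact hK.act _ hs m
    rw [he]
    exact (hK.act _ hE n).2

end

end Cfsg.Agent.H288.L34
end

-- part: H288/L34/TDat
section
/-! Tables: the tensor product of the two nine-dimensional modules of SL(3,4). -/

set_option autoImplicit false

namespace Cfsg.Agent.H288.L34

end Cfsg.Agent.H288.L34
end

-- part: H288/L34/Tens
section
/-! The tensor product of the two modules of type 9: it has no composition factor of type 9 (S5917). -/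

set_option autoImplicit false
set_option linter.constructorNameAsVariable false

namespace Cfsg.Agent.H288.L34

open Matrix Cfsg.Agent.H691.L34 Cfsg.Agent.SporadicA.FieldFour

section

variable {V : Type*} [AddCommGroup V] (hV : ∀ v : V, v + v = 0) {ρ : ℕ → V →+ V} {br : V →+ V →+ V}

end

section

variable {V : Type*} [AddCommGroup V] (hV : ∀ v : V, v + v = 0) {ρ : ℕ → V →+ V} {br : V →+ V →+ V}

end

end Cfsg.Agent.H288.L34
end

-- part: H288/L34/QDat
section
/-! Tables: the quotients of the exterior square of the nine-dimensional module of SL(3,4). -/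

set_option autoImplicit false

namespace Cfsg.Agent.H288.L34

/-- complement of the 11-dimensional submodule. -/
def qs : List ℕ :=
   [1, 2, 4, 8, 16,
    256, 2048, 64, 128, 512,
    1024, 425984, 196608, 16384, 32768,
    65536, 16777216, 33554432, 2147483648, 4294967296,
    4194304, 8388608, 17179869184, 34359738368, 1073741824]

/-- the ten elements on the 25-dimensional quotient. -/
def Ht : List (List ℕ) :=
  [[1, 2, 5, 8, 16, 33,
    67, 136, 272, 512, 1024, 2072,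
    4104, 8192, 16896, 33792, 70280, 138512,
    262144, 524288, 1048576, 2105344, 4456448, 8912896,
    17833984],
   [1, 2, 6, 8, 16, 35,
    66, 144, 280, 520, 1040, 2064,
    4120, 8192, 17552, 34584, 69520, 135832,
    262144, 524288, 1056768, 2097152, 4718592, 9175040,
    18882560],
   [1, 2, 4, 9, 18, 32,
    64, 128, 260, 512, 1028, 2112,
    4128, 8324, 16384, 32800, 65536, 131072,
    262816, 526272, 1064992, 2134080, 4259840, 8585216,
    16842752],
   [1, 2, 4, 11, 17, 32,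
    64, 132, 256, 516, 1024, 2144,
    4160, 8452, 16416, 32768, 65536, 131072,
    264160, 525600, 1081376, 2152512, 4390912, 8519680,
    16908288],
   [262144, 786432, 8192, 4194304, 12582912, 8,
    24, 1048576, 2097152, 1053312, 2104576, 1920,
    640, 16777216, 512, 1152, 1, 2,
    65536, 196608, 20480, 51200, 32, 64,
    4],
   [3, 1, 4, 16, 24, 96,
    32, 384, 128, 768, 1408, 2048,
    4096, 8192, 34816, 53248, 196608, 65536,
    524288, 786432, 3145728, 1048576, 12582912, 4194304,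
    16777216],
   [33, 98, 36, 70280, 138512, 32,
    64, 82048, 164096, 16896, 33792, 198656,
    69632, 17833984, 16384, 32768, 65536, 131072,
    4456448, 8912896, 1048576, 18874368, 4194304, 8388608,
    16777216],
   [97, 66, 68, 204040, 69520, 32,
    64, 102528, 186624, 233984, 121856, 67584,
    135168, 18882560, 81920, 163840, 65536, 131072,
    12845056, 4718592, 17825792, 2097152, 4194304, 8388608,
    16777216],
   [9, 18, 8324, 8, 16, 262816,
    526272, 128, 8448, 512, 9216, 526336,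
    266240, 8192, 1069696, 2396032, 4259840, 12713984,
    262144, 524288, 1310720, 2621440, 4194304, 8388608,
    20971520],
   [17, 26, 8452, 8, 16, 525600,
    787136, 8320, 256, 8704, 1024, 264192,
    790528, 8192, 3690368, 1088768, 12648448, 8519680,
    262144, 524288, 1572864, 2883584, 4194304, 8388608,
    25165824]]

/-- corrections in the 11-dimensional submodule. -/
def HWt : List (List ℕ) :=
  [[0, 0, 0, 0, 0, 0, 1, 0, 0, 0, 0, 12,
    7, 0, 0, 0, 166, 298, 0, 0, 0, 0, 0, 0,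
    0],
   [0, 0, 0, 0, 0, 1, 0, 0, 0, 0, 0, 7,
    11, 0, 0, 0, 289, 384, 0, 0, 0, 0, 0, 0,
    0],
   [0, 0, 0, 0, 0, 0, 0, 0, 0, 0, 1, 0,
    0, 0, 0, 0, 0, 0, 640, 1908, 0, 0, 0, 16,
    0],
   [0, 0, 0, 0, 0, 0, 0, 0, 0, 1, 0, 0,
    0, 0, 0, 0, 0, 0, 1738, 1280, 0, 0, 16, 0,
    0],
   [0, 0, 0, 0, 0, 0, 0, 0, 0, 550, 1098, 12,
    7, 0, 0, 7, 0, 0, 0, 0, 166, 396, 0, 0,
    0],
   [0, 0, 0, 0, 0, 0, 0, 0, 0, 11, 12, 0,
    0, 0, 0, 0, 0, 0, 0, 0, 0, 0, 0, 0,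
    0],
   [0, 1, 0, 166, 298, 0, 0, 0, 0, 0, 0, 0,
    0, 0, 0, 0, 0, 0, 0, 0, 0, 0, 0, 0,
    0],
   [1, 0, 0, 161, 289, 0, 0, 0, 0, 166, 298, 0,
    0, 0, 0, 0, 0, 0, 0, 0, 0, 0, 0, 0,
    0],
   [0, 0, 0, 0, 0, 640, 1908, 0, 0, 0, 2, 82,
    50, 0, 550, 1644, 0, 16, 0, 0, 0, 0, 0, 0,
    0],
   [0, 0, 0, 0, 0, 1280, 970, 0, 0, 2, 0, 96,
    82, 0, 1630, 1066, 16, 0, 0, 0, 0, 0, 0, 0,
    0]]

/-- coordinates. -/
def qa : List ℕ :=
   [1, 2, 4, 8, 16, 4,
    128, 256, 32, 512, 1024, 64,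
    1152, 1792, 8192, 16384, 32768, 36864,
    55296, 20480, 38912, 8192, 1048576, 2097152,
    65536, 131072, 1053312, 3149696, 2101120, 1056000,
    16777216, 262144, 524288, 16777216, 4194304, 8388608]

/-- coordinates. -/
def qb : List ℕ :=
   [0, 0, 0, 0, 0, 1, 0, 0, 0, 0, 0, 0,
    7, 11, 0, 0, 0, 0, 0, 166, 298, 2, 0, 0,
    0, 0, 550, 1644, 1630, 1066, 0, 0, 0, 16, 0, 0]

/-- certificate for the fixed vectors. -/
def L25 : List (List ℕ) :=
  [[4, 68, 0, 275968, 1792, 0,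
    0, 357888, 169344, 292480, 304640, 0,
    0, 2101120, 0, 0, 0, 0,
    4194304, 8388608, 19930368, 0, 0, 0,
    0],
   [36, 0, 0, 512, 276096, 0,
    0, 0, 0, 0, 0, 0,
    0, 1053312, 0, 0, 0, 0,
    0, 0, 0, 0, 0, 0,
    0],
   [8, 16, 275072, 0, 0, 4736,
    3968, 266880, 793856, 0, 0, 0,
    0, 0, 0, 0, 0, 0,
    0, 0, 0, 0, 0, 0,
    0],
   [0, 0, 0, 0, 0, 0,
    0, 0, 0, 0, 0, 0,
    0, 0, 0, 0, 0, 0,
    0, 0, 0, 0, 0, 0,
    0]]

/-- words for the 16-dimensional submodule. -/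
def sw16 : List (ℕ × ℕ) :=
   [(4, 0), (5, 0), (6, 0), (7, 0), (8, 0), (9, 0), (2, 1), (3, 1), (4, 1),
    (5, 1), (6, 1), (7, 1), (6, 5), (7, 5), (7, 6)]

/-- its vectors. -/
def sv16 : List ℕ :=
   [1, 262144, 3, 33, 97, 9,
    17, 262816, 264160, 65536, 524288, 4456448,
    12845056, 70313, 204137, 69617]

/-- complement. -/
def us : List ℕ :=
   [16777216, 1048576, 2097152, 8192, 16384, 32768,
    128, 256, 4]

/-- coordinates. -/
def uc : List ℕ :=
   [0, 0, 256, 0, 0, 0, 0, 64, 128, 64, 128, 0,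
    0, 8, 16, 32, 0, 0, 0, 0, 2, 4, 0, 0,
    1]

/-- coordinates. -/
def ud : List ℕ :=
   [1, 5, 0, 33, 65, 9, 24, 0,
    0, 139, 408, 33602, 8866, 0, 0, 0,
    512, 57929, 2, 1024, 0, 0, 2050, 6144,
    0]

/-- corrections. -/
def ur : List (List ℕ) :=
  [[0, 0, 0, 0, 0, 0, 512, 57929, 9],
   [0, 0, 0, 0, 512, 57929, 8354, 17321, 24],
   [2050, 2, 1024, 0, 8745, 33363, 0, 0, 0],
   [6144, 1024, 1026, 0, 34385, 41080, 0, 0, 0],
   [0, 8866, 33602, 0, 139, 408, 0, 0, 0],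
   [0, 0, 0, 0, 33602, 8866, 0, 0, 0],
   [0, 0, 0, 0, 139, 408, 33, 65, 1],
   [0, 0, 0, 0, 473, 371, 65, 96, 5],
   [512, 9, 8890, 0, 0, 9, 0, 0, 0],
   [57929, 9, 41464, 0, 9, 0, 0, 0, 0]]

end Cfsg.Agent.H288.L34
end

-- part: H288/L34/LamNine
section
/-! The exterior square of the 9: quotients of dimension less than 25 are of type 9 (S5917, type D). -/

set_option autoImplicit false
set_option linter.constructorNameAsVariable false

namespace Cfsg.Agent.H288.L34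

open Matrix Cfsg.Agent.H691.L34 Cfsg.Agent.SporadicA.FieldFour

/-- a stable nonzero set contains a fixed vector of the unitriangular group -/
theorem min_fixed (N : ℕ) (Gs : ℕ → List ℕ) (hlen : ∀ g < 4, (Gs g).length = (pows N 0).length)
    (htri : ∀ g < 4, triOK (List.zipWith (· ^^^ ·) (Gs g) (pows N 0)) 0 = true)
    (K : ℕ → Prop) (hl : ∀ n, K n → n < 2 ^ N) (hx : ∀ n m, K n → K m → K (n ^^^ m))
    (hg : ∀ g < 4, ∀ n, K n → K (act (Gs g) n)) (n0 : ℕ) (h0 : K n0) (h1 : n0 ≠ 0) :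
    ∃ n, K n ∧ n ≠ 0 ∧ ∀ g < 4, act (Gs g) n = n := by
  classical
  have hex : ∃ n, K n ∧ n ≠ 0 := ⟨n0, h0, h1⟩
  obtain ⟨hK, hne⟩ := Nat.find_spec hex
  have hmin : ∀ m, K m → m < Nat.find hex → m = 0 := by
    intro m hm hlt
    by_contra hc
    exact Nat.find_min hex hlt ⟨hm, hc⟩
  generalize Nat.find hex = n at hK hne hmin
  refine ⟨n, hK, hne, ?_⟩
  intro g hg'
  have h2' := htri g hg'
  have h3 : n < 2 ^ (Nat.log2 n + 1) := Nat.lt_log2_self
  have h4 : 2 ^ Nat.log2 n ≤ n := Nat.log2_self_le hne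
  have h5 := act_tri _ 0 (Nat.log2 n) n h2' h3
  rw [Nat.add_zero] at h5
  have h6 := lt_of_lt_of_le h5 h4
  rw [act_zip _ _ (hlen g hg'), act_pows_zero N n (hl n hK)] at h6
  have h7 := hmin _ (hx _ _ (hg g hg' n hK) hK) h6
  exact Nat.xor_eq_zero_iff.1 h7

/-- the action on the quotient of dimension 25 -/
def H (g : ℕ) : List ℕ := Ht.getD g []

/-- corrections -/
def HW (g : ℕ) : List ℕ := HWt.getD g []

/-- the submodule of dimension 11 -/
def k0l : List ℕ := soc ++ [1073758212 ^^^ 9061996064, 1073758212 ^^^ 9531925024]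

theorem H_ok : ∀ g < 10, qs.map (act (G g)) = zx ((H g).map (act qs)) ((HW g).map (act k0l)) ∧
    ((H g).map (act qs)).length = ((HW g).map (act k0l)).length ∧ ltOK (H g) 25 = true := by decide +kernel

theorem qab_ok : pows 36 0 = zx (qa.map (act qs)) (qb.map (act k0l)) ∧
    (qa.map (act qs)).length = (qb.map (act k0l)).length ∧ ltOK qa 25 = true := by decide +kernel

theorem H_tri : ∀ g < 4, (H g).length = (pows 25 0).length ∧
    triOK (List.zipWith (· ^^^ ·) (H g) (pows 25 0)) 0 = true := by decide +kernel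

/-- differences -/
def DH (g : ℕ) : List ℕ := List.zipWith (· ^^^ ·) (H g) (pows 25 0)

/-- first two coordinates -/
def Q2 : List ℕ := [1, 2] ++ List.replicate 23 0

theorem c25 : pows 25 0 = zx ((DH 0).map (act (L25.getD 0 []))) (zx ((DH 1).map (act (L25.getD 1 [])))
    (zx ((DH 2).map (act (L25.getD 2 []))) (zx ((DH 3).map (act (L25.getD 3 []))) Q2))) := by decide +kernel

theorem len25 : ∀ g < 4, (DH g).length = 25 := by decide +kernel

theorem act_zx' (l m : List ℕ) (hl : l.length = 25) (hm : m.length = 25) (n : ℕ) :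
    act (zx l m) n = act l n ^^^ act m n := act_zip l m (by rw [hl, hm]) n

theorem len_zx' (l m : List ℕ) (hl : l.length = 25) (hm : m.length = 25) : (zx l m).length = 25 := by
  unfold zx; rw [List.length_zipWith, hl, hm]; rfl

theorem act_Q2 (n : ℕ) : act Q2 n = 0 ∨ act Q2 n = 1 ∨ act Q2 n = 2 ∨ act Q2 n = 3 := by
  have h0 : ∀ k m : ℕ, act (List.replicate k 0) m = 0 := by
    intro k
    induction k with
    | zero => intro m; rfl
    | succ k ih => intro m; rw [List.replicate_succ, act_cons, ih]; cases (m % 2).beq 1 <;> rfl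
  unfold Q2
  rw [List.cons_append, List.cons_append, List.nil_append, act_cons, act_cons, h0]
  cases (n % 2).beq 1 <;> cases (n / 2 % 2).beq 1 <;> decide

theorem fix25 (n : ℕ) (hn : n < 2 ^ 25) (h : ∀ g < 4, act (H g) n = n) : n = act Q2 n := by
  have hD : ∀ g < 4, act (DH g) n = 0 := by
    intro g hg
    unfold DH
    rw [act_zip _ _ (H_tri g hg).1, act_pows_zero 25 n hn, h g hg, Nat.xor_self]
  have lm : ∀ g < 4, ∀ l : List ℕ, ((DH g).map (act l)).length = 25 := by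
    intro g hg l; rw [List.length_map]; exact len25 g hg
  have lQ : Q2.length = 25 := by decide +kernel
  have h1 := act_pows_zero 25 n hn
  rw [c25, act_zx' _ _ (lm 0 (by norm_num) _) (len_zx' _ _ (lm 1 (by norm_num) _) (len_zx' _ _ (lm 2 (by norm_num) _)
      (len_zx' _ _ (lm 3 (by norm_num) _) lQ))),
    act_zx' _ _ (lm 1 (by norm_num) _) (len_zx' _ _ (lm 2 (by norm_num) _) (len_zx' _ _ (lm 3 (by norm_num) _) lQ)),
    act_zx' _ _ (lm 2 (by norm_num) _) (len_zx' _ _ (lm 3 (by norm_num) _) lQ),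
    act_zx' _ _ (lm 3 (by norm_num) _) lQ, ← act_act, ← act_act, ← act_act, ← act_act,
    hD 0 (by norm_num), hD 1 (by norm_num), hD 2 (by norm_num), hD 3 (by norm_num), act_zero, act_zero, act_zero,
    act_zero, Nat.zero_xor, Nat.zero_xor, Nat.zero_xor, Nat.zero_xor] at h1
  exact h1.symm

theorem chain25 : act (H 5) 2 = 1 ∧ act (H 5) 3 ^^^ 3 = 1 := by decide +kernel

/-- successive images. -/
def bldH : List (ℕ × ℕ) → List ℕ → List ℕ
  | [], acc => acc
  | (g, j) :: ws, acc => bldH ws (acc ++ [act (H g) (acc.getD j 0)])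

theorem bldH_mem {K : ℕ → Prop} (h0 : K 0) (h : ∀ g < 10, ∀ n, K n → K (act (H g) n)) (ws : List (ℕ × ℕ))
    (hw : ws.all (fun p => Nat.ble p.1 9) = true) (acc : List ℕ) (ha : ∀ x ∈ acc, K x) : ∀ x ∈ bldH ws acc, K x := by
  induction ws generalizing acc with
  | nil => exact ha
  | cons p ws ih =>
    obtain ⟨g, j⟩ := p
    rw [List.all_cons, Bool.and_eq_true] at hw
    have hg : g < 10 := by
      have := Nat.le_of_ble_eq_true hw.1
      simp only at this
      omega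
    apply ih hw.2
    intro x hx
    rcases List.mem_append.1 hx with hx | hx
    · exact ha x hx
    · rw [List.mem_singleton.1 hx]
      apply h g hg
      by_cases hj : j < acc.length
      · rw [List.getD_eq_getElem _ _ hj]; exact ha _ (List.getElem_mem hj)
      · rw [List.getD_eq_default _ _ (by omega)]; exact h0

theorem sv16_ok : bldH sw16 [1] = sv16 ∧ sw16.all (fun p => Nat.ble p.1 9) = true := by decide +kernel

theorem ucd_ok : pows 25 0 = zx (uc.map (act us)) (ud.map (act sv16)) ∧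
    (uc.map (act us)).length = (ud.map (act sv16)).length ∧ ltOK uc 9 = true := by decide +kernel

theorem ur_ok : ∀ g < 10, us.map (act (H (tau g))) = zx ((M g).map (act us)) ((ur.getD g []).map (act sv16)) ∧
    ((M g).map (act us)).length = ((ur.getD g []).map (act sv16)).length := by decide +kernel

theorem one_ok : act qa 1073758212 = act us 265 := by decide +kernel

theorem us_len : us.length = 9 := by decide +kernel

theorem M_tri : ∀ g < 4, (M g).length = (pows 9 0).length ∧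
    triOK (List.zipWith (· ^^^ ·) (M g) (pows 9 0)) 0 = true := by decide +kernel

theorem M_fix : ∀ n < 512, (act (M 0) n = n ∧ act (M 1) n = n ∧ act (M 2) n = n ∧ act (M 3) n = n) → n = 0 ∨ n = 1 := by
  decide +kernel

theorem M_one : 1 ^^^ (act (M 4) 1 ^^^ act (M 4) (act (M 4) 1)) = 265 := by decide +kernel

section

variable {V : Type*} [AddCommGroup V] (hV : ∀ v : V, v + v = 0) {ρ : ℕ → V →+ V} {br : V →+ V →+ V}

/-- the vector of a mask of the quotient -/
def EE (c : List V) (m : ℕ) : V := ev c (act qs m)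

include hV in
theorem EE_xor (c : List V) (m k : ℕ) : EE c (m ^^^ k) = EE c m + EE c k := by
  unfold EE
  rw [act_xor, ev_xor hV]

theorem EE_zero (c : List V) : EE c 0 = 0 := by
  unfold EE
  rw [act_zero, ev_zero]

include hV in
theorem EE_list (c : List V) (l : List ℕ) (h : ∀ x ∈ l, EE c x = 0) (n : ℕ) : EE c (act l n) = 0 := by
  induction l generalizing n with
  | nil => exact EE_zero c
  | cons a l ih =>
    rw [act_cons, EE_xor hV, ih (fun x hx => h x (List.mem_cons_of_mem _ hx)), add_zero]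
    cases (n % 2).beq 1
    · exact EE_zero c
    · exact h a (List.mem_cons_self ..)

include hV in
theorem ev_list (c : List V) (l : List ℕ) (h : ∀ x ∈ l, ev c x = 0) (n : ℕ) : ev c (act l n) = 0 := by
  induction l generalizing n with
  | nil => exact ev_zero c
  | cons a l ih =>
    rw [act_cons, ev_xor hV, ih (fun x hx => h x (List.mem_cons_of_mem _ hx)), add_zero]
    cases (n % 2).beq 1
    · exact ev_zero c
    · exact h a (List.mem_cons_self ..)

theorem zx_map (E : ℕ → V) (hE : ∀ a b, E (a ^^^ b) = E a + E b) (X Y : List ℕ) (hl : X.length = Y.length)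
    (hY : ∀ y ∈ Y, E y = 0) : (zx X Y).map E = X.map E := by
  unfold zx
  induction X generalizing Y with
  | nil => rfl
  | cons x X ih =>
    cases Y with
    | nil => simp at hl
    | cons y Y =>
      rw [List.zipWith_cons_cons, List.map_cons, List.map_cons, hE, hY y (List.mem_cons_self ..), add_zero,
        ih Y (by simpa using hl) (fun z hz => hY z (List.mem_cons_of_mem _ hz))]

include hV in
/-- the 11-dimensional submodule is killed -/
theorem Sys.k0 {e : List V} (h : Sys ρ e) (alt : ∀ x, br x x = 0)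
    (eqv : ∀ g < 10, ∀ x y, ρ g (br x y) = br (ρ g x) (ρ g y)) (hfix : ∀ v, (∀ g < 10, ρ g v = v) → v = 0)
    (n0 : ℕ) (hn : n0 < 2 ^ 36) (h0 : L34.ev (L34.cl br e) n0 = 0) (h1 : n0 ≠ 0) :
    ∀ x ∈ k0l, L34.ev (L34.cl br e) x = 0 := by
  have hS := h.stab hV alt eqv (fun v => v = 0) rfl (by intro x y hx hy; rw [hx, hy, add_zero])
    (by intro g hg x hx; rw [hx, map_zero])
  have hs := hS.soc n0 ⟨hn, h0⟩ h1
  have key : ∀ j < 3, L34.ev (L34.cl br e) (1073758212 ^^^ bt.getD (j + 1) 0) = 0 := by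
    intro j hj
    apply hfix
    intro g hg
    rw [h.cl hV alt eqv g hg, dif_ok j hj g hg, ev_xor hV, (hS.act _ hs _).2, add_zero]
  intro x hx
  unfold k0l at hx
  rcases List.mem_append.1 hx with hx | hx
  · exact (hs x hx).2
  · rcases List.mem_cons.1 hx with rfl | hx
    · exact key 0 (by norm_num)
    · rw [List.mem_singleton.1 hx]
      exact key 1 (by norm_num)

/-- the quotient of dimension 25 -/
structure Quo (ρ : ℕ → V →+ V) (c : List V) : Prop where
  eqv : ∀ g < 10, ∀ m, ρ g (EE c m) = EE c (act (H g) m)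
  all : ∀ n < 2 ^ 36, ev c n = EE c (act qa n)

include hV in
theorem Sys.quo {e : List V} (h : Sys ρ e) (alt : ∀ x, br x x = 0)
    (eqv : ∀ g < 10, ∀ x y, ρ g (br x y) = br (ρ g x) (ρ g y))
    (hk : ∀ x ∈ k0l, L34.ev (L34.cl br e) x = 0) : Quo ρ (L34.cl br e) where
  eqv g hg m := by
    obtain ⟨h1, h2, -⟩ := H_ok g hg
    unfold EE
    rw [h.cl hV alt eqv g hg, act_act, h1]
    unfold zx
    rw [act_zip _ _ h2, ev_xor hV, ← act_act, ← act_act, ev_list hV _ _ hk, add_zero]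
  all n hn := by
    obtain ⟨h1, h2, -⟩ := qab_ok
    have h3 := act_pows_zero 36 n hn
    rw [h1] at h3
    unfold zx at h3
    rw [act_zip _ _ h2, ← act_act, ← act_act] at h3
    conv_lhs => rw [← h3]
    rw [ev_xor hV, ev_list hV _ _ hk, add_zero]
    rfl

include hV in
theorem Quo.sv {c : List V} (h : Quo ρ c) (m0 : ℕ) (hm : m0 < 2 ^ 25) (h0 : EE c m0 = 0) (h1 : m0 ≠ 0) :
    ∀ x ∈ sv16, EE c x = 0 := by
  have hst : ∀ g < 10, ∀ n, (n < 2 ^ 25 ∧ EE c n = 0) → (act (H g) n < 2 ^ 25 ∧ EE c (act (H g) n) = 0) := by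
    rintro g hg n ⟨hn, h2⟩
    exact ⟨act_lt _ _ _ (H_ok g hg).2.2, by rw [← h.eqv g hg, h2, map_zero]⟩
  obtain ⟨n, ⟨hn, hK⟩, hne, hf⟩ := min_fixed 25 H (fun g hg => (H_tri g hg).1) (fun g hg => (H_tri g hg).2)
    (fun n => n < 2 ^ 25 ∧ EE c n = 0) (fun n hn => hn.1)
    (fun n m hn hm => ⟨Nat.xor_lt_two_pow hn.1 hm.1, by rw [EE_xor hV, hn.2, hm.2, add_zero]⟩)
    (fun g hg => hst g (by omega)) m0 ⟨hm, h0⟩ h1
  have h2 := fix25 n hn hf
  have h3 : EE c 1 = 0 := by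
    rcases act_Q2 n with h4 | h4 | h4 | h4 <;> rw [h4] at h2
    · exact absurd h2 hne
    · rw [← h2]; exact hK
    · rw [← chain25.1, ← h2]; exact (hst 5 (by norm_num) n ⟨hn, hK⟩).2
    · rw [← chain25.2, ← h2, EE_xor hV, (hst 5 (by norm_num) n ⟨hn, hK⟩).2, hK, add_zero]
  rw [← sv16_ok.1]
  apply bldH_mem (K := fun x => EE c x = 0) (EE_zero c)
  · intro g hg n hn
    rw [← h.eqv g hg, hn, map_zero]
  · exact sv16_ok.2
  · intro x hx
    rw [List.mem_singleton.1 hx]; exact h3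

include hV in
theorem ev_us (c : List V) (n : ℕ) : ev (us.map (EE c)) n = EE c (act us n) := by
  have h1 : us.map (EE c) = (us.map (act qs)).map (ev c) := by
    rw [List.map_map]; rfl
  rw [h1, ev_map_ev hV]
  unfold EE
  rw [act_act]

include hV in
/-- the dual nine -/
theorem Quo.nine {c : List V} (h : Quo ρ c) (hs : ∀ x ∈ sv16, EE c x = 0) :
    Sys (fun g => ρ (tau g)) (us.map (EE c)) where
  len := by rw [List.length_map]; exact us_len
  eq g hg := by
    have ht := (dual_ok g hg).2.1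
    rw [List.map_map]
    have h1 : us.map (⇑(ρ (tau g)) ∘ EE c) = (us.map (act (H (tau g)))).map (EE c) := by
      rw [List.map_map]
      apply List.map_congr_left
      intro m _
      exact h.eqv _ ht m
    rw [h1, (ur_ok g hg).1, zx_map (EE c) (EE_xor hV c) _ _ (ur_ok g hg).2, List.map_map]
    · apply List.map_congr_left
      intro m _
      exact (ev_us hV c m).symm
    · intro y hy
      obtain ⟨m, -, rfl⟩ := List.mem_map.1 hy
      exact EE_list hV c _ hs m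

include hV in
theorem Quo.all9 {c : List V} (h : Quo ρ c) (hs : ∀ x ∈ sv16, EE c x = 0) (n : ℕ) (hn : n < 2 ^ 36) :
    ev c n = ev (us.map (EE c)) (act uc (act qa n)) := by
  rw [h.all n hn, ev_us hV]
  obtain ⟨h1, h2, -⟩ := ucd_ok
  have h3 := act_pows_zero 25 (act qa n) (act_lt _ _ _ qab_ok.2.2)
  rw [h1] at h3
  unfold zx at h3
  rw [act_zip _ _ h2, ← act_act, ← act_act] at h3
  conv_lhs => rw [← h3]
  rw [EE_xor hV, EE_list hV c _ hs, add_zero]

include hV in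
theorem Quo.one9 {c : List V} (h : Quo ρ c) : ev (us.map (EE c)) 265 = ev c 1073758212 := by
  rw [ev_us hV, h.all _ (by norm_num), one_ok]

include hV in
theorem Sys.inj9 {f : List V} (h : Sys ρ f) (h0 : L34.ev f 265 ≠ 0) : ∀ n < 2 ^ 9, L34.ev f n = 0 → n = 0 := by
  intro n hn hn0
  by_contra hne
  obtain ⟨m, ⟨hm, hK⟩, hm0, hf⟩ := min_fixed 9 M (fun g hg => (M_tri g hg).1) (fun g hg => (M_tri g hg).2)
    (fun n => n < 2 ^ 9 ∧ L34.ev f n = 0) (fun n hn => hn.1)
    (fun n m hn hm => ⟨Nat.xor_lt_two_pow hn.1 hm.1, by rw [ev_xor hV, hn.2, hm.2, add_zero]⟩)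
    (fun g hg n hn => ⟨act_lt _ _ _ (M_lt g (by omega)), by rw [← h.ev hV g (by omega), hn.2, map_zero]⟩)
    n ⟨hn, hn0⟩ hne
  have h1 := M_fix m hm ⟨hf 0 (by norm_num), hf 1 (by norm_num), hf 2 (by norm_num), hf 3 (by norm_num)⟩
  rcases h1 with rfl | rfl
  · exact hm0 rfl
  · apply h0
    have e1 : L34.ev f (act (M 4) 1) = 0 := by rw [← h.ev hV 4 (by norm_num), hK, map_zero]
    have e2 : L34.ev f (act (M 4) (act (M 4) 1)) = 0 := by rw [← h.ev hV 4 (by norm_num), e1, map_zero]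
    rw [← M_one, ev_xor hV, ev_xor hV, hK, e1, e2, add_zero, add_zero]

end

section

variable {F : Type} [Field F] {V : Type} [AddCommGroup V] [Module (ZMod 2) V]
  {ρ : Representation (ZMod 2) (G3 F) V} (e : F4 ≃+* F)

theorem ev265 : ev B4 265 = (1 : M3 F4) := by
  ext i j
  rw [ev_entry]
  fin_cases i <;> fin_cases j <;> rfl

/-- the dual nine as a function -/
theorem dual_fun (b : Bool) (f : List V) (hf : Sys (fun g => rr e ρ b (tau g)) f)
    (hi : ∀ n < 2 ^ 9, ev f n = 0 → n = 0) (N : Submodule (ZMod 2) V)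
    (hN : ∀ v, v ∈ N ↔ ∃ n < 2 ^ 9, ev f n = v) : ∃ ψ : M3 F → V,
      (∀ X Y, HF X → HF Y → ψ (X + Y) = ψ X + ψ Y) ∧ (∀ X, HF X → ψ X = 0 → X = 0) ∧
      (∀ v, v ∈ N ↔ ∃ X, HF X ∧ ψ X = v) ∧ (∀ (g : G3 F) X, HF X → ρ g (ψ X) = ψ (hact (tw (!b) g) X)) ∧
      ψ 1 = ev f 265 := by
  refine ⟨fun X => ev f (idx e (cjm e X)), ?_, ?_, ?_, ?_, ?_⟩
  · intro X Y hX hY
    show ev f (idx e (cjm e (X + Y))) = ev f _ + ev f _
    rw [map_add, idx_add e _ _ (HF_cjm e X hX) (HF_cjm e Y hY), ev_xor vv]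
  · intro X hX h
    obtain ⟨h1, h2⟩ := idx_spec e _ (HF_cjm e X hX)
    have h3 := hi _ h1 h
    rw [h3, ev_zero, map_zero] at h2
    rw [← cjm_cjm e X, h2, map_zero]
  · intro v
    rw [hN]
    constructor
    · rintro ⟨n, hn, rfl⟩
      refine ⟨cjm e (mu e (ev B4 n)), HF_cjm e _ (HF_ev e n), ?_⟩
      show ev f (idx e (cjm e (cjm e (mu e (ev B4 n))))) = _
      rw [cjm_cjm, idx_ev e n hn]
    · rintro ⟨X, hX, rfl⟩
      exact ⟨_, (idx_spec e _ (HF_cjm e X hX)).1, rfl⟩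
  · intro g X hX
    show ρ g (ev f (idx e (cjm e X))) = ev f (idx e (cjm e (hact (tw (!b) g) X)))
    rw [cjm_hact, ← psi_all e b f hf _ _ (HF_cjm e X hX), cj_cj, tw_it]
  · show ev f (idx e (cjm e 1)) = _
    rw [map_one]
    have h : (1 : M3 F) = mu e (ev B4 265) := by rw [ev265, map_one]
    rw [h, idx_ev e 265 (by norm_num)]

end

section

variable {F : Type} [Field F] [Fintype F] {V : Type} [AddCommGroup V] [Module (ZMod 2) V] [Module.Finite (ZMod 2) V]
  {ρ : Representation (ZMod 2) (G3 F) V}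

/-- the square of a module of type 9 in a module without fixed vectors is zero or of type 9, of dimension 25 or 36 -/
theorem lam_nine (hF : Fintype.card F = 4) {β : V →ₗ[ZMod 2] V →ₗ[ZMod 2] V} (hβ : Brk ρ β) (h0 : fixAll ρ = ⊥) {b : Bool}
    {W : Submodule (ZMod 2) V} {φ : M3 F → V} (h1 : ∀ X Y, HF X → HF Y → φ (X + Y) = φ X + φ Y)
    (h2 : ∀ v, v ∈ W ↔ ∃ X, HF X ∧ φ X = v) (h3 : ∀ (g : G3 F) X, HF X → ρ g (φ X) = φ (hact (tw b g) X))
    (h : Module.finrank (ZMod 2) (bsp β W) < 25) (hne : β (φ d1) (φ d2) ≠ 0) :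
    ∃ ψ : M3 F → V, (∀ X Y, HF X → HF Y → ψ (X + Y) = ψ X + ψ Y) ∧ (∀ X, HF X → ψ X = 0 → X = 0) ∧
      (∀ v, v ∈ bsp β W ↔ ∃ X, HF X ∧ ψ X = v) ∧ (∀ (g : G3 F) X, HF X → ρ g (ψ X) = ψ (hact (tw (!b) g) X)) ∧
      ψ 1 = β (φ d1) (φ d2) := by
  classical
  obtain ⟨e⟩ := ringEq hF
  have hS := sys_of e b φ h1 h3
  have eqv := brA_eqv hβ e b
  have hfix : ∀ v, (∀ g < 10, rr e ρ b g v = v) → v = 0 := by
    intro v hv
    have h4 : v ∈ fixAll ρ := fix_all e b v hv
    rw [h0] at h4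
    exact (Submodule.mem_bot _).1 h4
  have hfin : Finite V := Module.finite_of_finite (ZMod 2)
  have hi36 : ¬ ∀ n < 2 ^ 36, ev (cl (brA β) (el e φ)) n = 0 → n = 0 := fun hi => by
    have := le_of_inj β e h2 hi
    omega
  push Not at hi36
  obtain ⟨n0, hn0, hn1, hn2⟩ := hi36
  have hk := hS.k0 vv hβ.alt (br := brA β) eqv hfix n0 hn0 hn1 hn2
  have hQ := hS.quo vv hβ.alt (br := brA β) eqv hk
  have hi25 : ¬ ∀ m < 2 ^ 25, EE (cl (brA β) (el e φ)) m = 0 → m = 0 := by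
    intro hi
    let f : Fin (2 ^ 25) → bsp β W := fun k => ⟨EE (cl (brA β) (el e φ)) k, cl_mem β e h2 _⟩
    have hf : Function.Injective f := by
      intro a c hac
      have h1 : EE (cl (brA β) (el e φ)) a.1 = EE (cl (brA β) (el e φ)) c.1 := congrArg Subtype.val hac
      have h3 : EE (cl (brA β) (el e φ)) (a.1 ^^^ c.1) = 0 := by rw [EE_xor vv, h1, vv]
      exact Fin.ext (Nat.xor_eq_zero_iff.1 (hi _ (Nat.xor_lt_two_pow a.2 c.2) h3))
    have h3 := Nat.card_le_card_of_injective f hf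
    rw [Nat.card_eq_fintype_card, Fintype.card_fin, card_sub] at h3
    have := (Nat.pow_le_pow_iff_right (by norm_num)).1 h3
    omega
  push Not at hi25
  obtain ⟨m0, hm0, hm1, hm2⟩ := hi25
  have hs := hQ.sv vv m0 hm0 hm1 hm2
  have hN := hQ.nine vv hs
  have hw : wedge 9 264 = 1073758212 := by decide +kernel
  have hone : ev (us.map (EE (cl (brA β) (el e φ)))) 265 = β (φ d1) (φ d2) := by
    rw [hQ.one9 vv, d1_eq e, d2_eq e, beta_ev hβ e h1, hw]
  have hinj := hN.inj9 vv (by rw [hone]; exact hne)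
  obtain ⟨ψ, k1, k2, k3, k4, k5⟩ := dual_fun e b _ hN hinj (bsp β W) (by
    intro v
    constructor
    · intro hv
      obtain ⟨n, hn, rfl⟩ := bsp_sub hβ e h1 h2 v hv
      exact ⟨_, act_lt _ _ _ ucd_ok.2.2, (hQ.all9 vv hs n hn).symm⟩
    · rintro ⟨n, hn, rfl⟩
      rw [ev_us vv]
      exact cl_mem β e h2 _)
  exact ⟨ψ, k1, k2, k3, k4, by rw [k5, hone]⟩

end

end Cfsg.Agent.H288.L34
end

-- part: H288/L34/Bprime
section
/-! A nonabelian module of type 9: existence of the second module of type 9; type D of S5917. -/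

set_option autoImplicit false
set_option linter.constructorNameAsVariable false

namespace Cfsg.Agent.H288.L34

open Matrix Cfsg.Agent.H691.L34 Cfsg.Agent.SporadicA.FieldFour Cfsg.Agent.H592.L34

theorem sv_inv : sv16.map (act ud) = pows 16 0 ∧ ltOK sv16 25 = true := by decide +kernel

section

variable {V : Type*} [AddCommGroup V] (hV : ∀ v : V, v + v = 0) {ρ : ℕ → V →+ V} {br : V →+ V →+ V}

include hV in
/-- a nonzero stable subspace of the quotient of dimension 25 contains the part of dimension 16 -/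
theorem Quo.svP {c : List V} (h : Quo ρ c) (P : V → Prop) (hP0 : P 0) (hPa : ∀ x y, P x → P y → P (x + y))
    (hPg : ∀ g < 10, ∀ x, P x → P (ρ g x)) (m0 : ℕ) (hm : m0 < 2 ^ 25) (h0 : P (EE c m0)) (h1 : m0 ≠ 0) :
    ∀ x ∈ sv16, P (EE c x) := by
  have hst : ∀ g < 10, ∀ n, (n < 2 ^ 25 ∧ P (EE c n)) → (act (H g) n < 2 ^ 25 ∧ P (EE c (act (H g) n))) := by
    rintro g hg n ⟨hn, h2⟩
    exact ⟨act_lt _ _ _ (H_ok g hg).2.2, by rw [← h.eqv g hg]; exact hPg g hg _ h2⟩
  obtain ⟨n, ⟨hn, hK⟩, hne, hf⟩ := min_fixed 25 H (fun g hg => (H_tri g hg).1) (fun g hg => (H_tri g hg).2)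
    (fun n => n < 2 ^ 25 ∧ P (EE c n)) (fun n hn => hn.1)
    (fun n m hn hm => ⟨Nat.xor_lt_two_pow hn.1 hm.1, by rw [EE_xor hV]; exact hPa _ _ hn.2 hm.2⟩)
    (fun g hg => hst g (by omega)) m0 ⟨hm, h0⟩ h1
  have h2 := fix25 n hn hf
  have h3 : P (EE c 1) := by
    rcases act_Q2 n with h4 | h4 | h4 | h4 <;> rw [h4] at h2
    · exact absurd h2 hne
    · rw [← h2]; exact hK
    · rw [← chain25.1, ← h2]; exact (hst 5 (by norm_num) n ⟨hn, hK⟩).2
    · rw [← chain25.2, ← h2, EE_xor hV]; exact hPa _ _ (hst 5 (by norm_num) n ⟨hn, hK⟩).2 hK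
  rw [← sv16_ok.1]
  apply bldH_mem (K := fun x => P (EE c x)) (by rw [EE_zero]; exact hP0)
  · intro g hg n hn
    rw [← h.eqv g hg]; exact hPg g hg _ hn
  · exact sv16_ok.2
  · intro x hx
    rw [List.mem_singleton.1 hx]; exact h3

end

section

variable {F : Type} [Field F] [Fintype F] {V : Type} [AddCommGroup V] [Module (ZMod 2) V] [Module.Finite (ZMod 2) V]
  {ρ : Representation (ZMod 2) (G3 F) V}

/-- the submodule of a map of type 9 -/
def imS (φ : M3 F → V) (e : F4 ≃+* F) (h1 : ∀ X Y, HF X → HF Y → φ (X + Y) = φ X + φ Y) : Submodule (ZMod 2) V where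
  carrier := {v | ∃ X, HF X ∧ φ X = v}
  add_mem' := by
    rintro x y ⟨X, hX, rfl⟩ ⟨Y, hY, rfl⟩
    exact ⟨X + Y, HF_add _ _ (char_two e) hX hY, h1 X Y hX hY⟩
  zero_mem' := by
    refine ⟨0, HF_zero, ?_⟩
    have h := h1 0 0 HF_zero HF_zero
    rw [add_zero] at h
    rw [h, vv]
  smul_mem' := by
    rintro a x ⟨X, hX, rfl⟩
    have ha : a = 0 ∨ a = 1 := by revert a; decide
    rcases ha with rfl | rfl
    · refine ⟨0, HF_zero, ?_⟩
      have h := h1 0 0 HF_zero HF_zero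
      rw [add_zero] at h
      rw [h, vv, zero_smul]
    · exact ⟨X, hX, by rw [one_smul]⟩

/-- invariant submodules of a span of dimension 25 -/
theorem sub25 {β : V →ₗ[ZMod 2] V →ₗ[ZMod 2] V} (hβ : Brk ρ β) (h0 : fixAll ρ = ⊥) (e : F4 ≃+* F) {b : Bool}
    {W : Submodule (ZMod 2) V} {φ : M3 F → V} (h1 : ∀ X Y, HF X → HF Y → φ (X + Y) = φ X + φ Y)
    (h2 : ∀ v, v ∈ W ↔ ∃ X, HF X ∧ φ X = v) (h3 : ∀ (g : G3 F) X, HF X → ρ g (φ X) = φ (hact (tw b g) X))
    (h : Module.finrank (ZMod 2) (bsp β W) < 36) (h' : 25 ≤ Module.finrank (ZMod 2) (bsp β W))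
    (Y : Submodule (ZMod 2) V) (hY : _root_.Cfsg.Agent.H691.L34.Inv ρ Y) (hYW : Y ≤ bsp β W) (hY0 : Y ≠ ⊥) :
    Module.finrank (ZMod 2) (bsp β W) = 25 ∧ 16 ≤ Module.finrank (ZMod 2) Y := by
  classical
  have hS := sys_of e b φ h1 h3
  have eqv := brA_eqv hβ e b
  have hfix : ∀ v, (∀ g < 10, rr e ρ b g v = v) → v = 0 := by
    intro v hv
    have h4 : v ∈ fixAll ρ := fix_all e b v hv
    rw [h0] at h4
    exact (Submodule.mem_bot _).1 h4
  have hfin : Finite V := Module.finite_of_finite (ZMod 2)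
  have hi36 : ¬ ∀ n < 2 ^ 36, ev (cl (brA β) (el e φ)) n = 0 → n = 0 := fun hi => by
    have := le_of_inj β e h2 hi
    omega
  push Not at hi36
  obtain ⟨n0, hn0, hn1, hn2⟩ := hi36
  have hk := hS.k0 vv hβ.alt (br := brA β) eqv hfix n0 hn0 hn1 hn2
  have hQ := hS.quo vv hβ.alt (br := brA β) eqv hk
  let f : Fin (2 ^ 25) → bsp β W := fun k => ⟨EE (cl (brA β) (el e φ)) k, cl_mem β e h2 _⟩
  have hf : Function.Surjective f := by
    rintro ⟨v, hv⟩
    obtain ⟨n, hn, h5⟩ := bsp_sub hβ e h1 h2 v hv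
    refine ⟨⟨act qa n, act_lt _ _ _ qab_ok.2.2⟩, Subtype.ext ?_⟩
    show EE _ (act qa n) = v
    rw [← hQ.all n hn, h5]
  have hle := Nat.card_le_card_of_surjective f hf
  have hc : Nat.card (Fin (2 ^ 25)) ≤ Nat.card (bsp β W) := by
    rw [Nat.card_eq_fintype_card, Fintype.card_fin, card_sub]
    exact Nat.pow_le_pow_right (by norm_num) h'
  have hb := (hf.bijective_of_nat_card_le hc).1
  have h25 : Module.finrank (ZMod 2) (bsp β W) = 25 := by
    have e1 : Nat.card (Fin (2 ^ 25)) = 2 ^ 25 := by rw [Nat.card_eq_fintype_card, Fintype.card_fin]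
    rw [e1, card_sub] at hle
    have := (Nat.pow_le_pow_iff_right (by norm_num)).1 hle
    omega
  refine ⟨h25, ?_⟩
  obtain ⟨w, hw, hw0⟩ := (Submodule.ne_bot_iff Y).1 hY0
  obtain ⟨⟨m0, hm0⟩, hm1⟩ := hf ⟨w, hYW hw⟩
  have hm2 : EE (cl (brA β) (el e φ)) m0 = w := congrArg Subtype.val hm1
  have hs := hQ.svP vv (fun v => v ∈ Y) Y.zero_mem (fun x y hx hy => Y.add_mem hx hy)
    (fun g _ x hx => hY _ x hx) m0 hm0 (by rw [hm2]; exact hw) (by
      rintro rfl
      rw [EE_zero] at hm2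
      exact hw0 hm2.symm)
  have hsm : ∀ n, EE (cl (brA β) (el e φ)) (act sv16 n) ∈ Y := by
    have : ∀ l : List ℕ, (∀ x ∈ l, EE (cl (brA β) (el e φ)) x ∈ Y) → ∀ n, EE (cl (brA β) (el e φ)) (act l n) ∈ Y := by
      intro l
      induction l with
      | nil => intro _ n; rw [act_nil, EE_zero]; exact Y.zero_mem
      | cons a l ih =>
        intro hl n
        rw [act_cons, EE_xor vv]
        apply Y.add_mem
        · cases (n % 2).beq 1
          · rw [cond_false, EE_zero]; exact Y.zero_mem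
          · exact hl a (List.mem_cons_self ..)
        · exact ih (fun x hx => hl x (List.mem_cons_of_mem _ hx)) _
    exact this sv16 hs
  let f2 : Fin (2 ^ 16) → Y := fun k => ⟨EE (cl (brA β) (el e φ)) (act sv16 k), hsm k⟩
  have hf2 : Function.Injective f2 := by
    intro a c hac
    have h5 : EE (cl (brA β) (el e φ)) (act sv16 a.1) = EE (cl (brA β) (el e φ)) (act sv16 c.1) :=
      congrArg Subtype.val hac
    have hl : ∀ k : Fin (2 ^ 16), act sv16 k.1 < 2 ^ 25 := fun k => act_lt _ _ _ sv_inv.2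
    have h6 : f ⟨act sv16 a.1, hl a⟩ = f ⟨act sv16 c.1, hl c⟩ := Subtype.ext h5
    have h7 : act sv16 a.1 = act sv16 c.1 := congrArg Fin.val (hb h6)
    have h8 : ∀ k : Fin (2 ^ 16), act ud (act sv16 k.1) = k.1 := by
      intro k
      rw [act_act, sv_inv.1, act_pows_zero 16 _ k.2]
    exact Fin.ext (by rw [← h8 a, ← h8 c, h7])
  have h3 := Nat.card_le_card_of_injective f2 hf2
  rw [Nat.card_eq_fintype_card, Fintype.card_fin, card_sub] at h3
  exact (Nat.pow_le_pow_iff_right (by norm_num)).1 h3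

/-- the classification of the simple submodules, as hypothesis -/
def SC (ρ : Representation (ZMod 2) (G3 F) V) : Prop := ∀ W : Submodule (ZMod 2) V, Simp ρ W →
      (∀ v ∈ W, ∀ g, ρ g v = v) ∨ IsNine ρ false W ∨ IsNine ρ true W ∨ Is16 ρ W ∨ Is64 ρ W

/-- the dimensions, as hypothesis -/
def PLh (ρ : Representation (ZMod 2) (G3 F) V) : Prop := ∀ A B : Submodule (ZMod 2) V, _root_.Cfsg.Agent.H691.L34.Inv ρ A → _root_.Cfsg.Agent.H691.L34.Inv ρ B → A ≤ B →
      ∃ a b c d : ℕ, Module.finrank (ZMod 2) B = Module.finrank (ZMod 2) A + (a + 16 * b + 9 * c + 64 * d) ∧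
      (∀ g : G3 F, orderOf g = 3 → g ∉ Subgroup.center (G3 F) → Module.finrank (ZMod 2) (fx ρ g B) =
        Module.finrank (ZMod 2) (fx ρ g A) + (a + 4 * b + 3 * c + 22 * d)) ∧
      (∀ g : G3 F, orderOf g = 5 → Module.finrank (ZMod 2) (fx ρ g B) =
        Module.finrank (ZMod 2) (fx ρ g A) + (a + 4 * b + c + 12 * d)) ∧
      ∀ g : G3 F, orderOf g = 7 → Module.finrank (ZMod 2) (fx ρ g B) =
        Module.finrank (ZMod 2) (fx ρ g A) + (a + 4 * b + 10 * d)

/-- submodules of type 16 are nondegenerate -/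
theorem h16 (hF : Fintype.card F = 4) (hPL : PLh ρ) {n5 n7 : ℕ} (hn5 : n5 = 68 ∨ n5 = 48) (hn7 : n7 = 80 ∨ n7 = 38)
    (hd : Dims ρ (⊤ : Submodule (ZMod 2) V) 248 86 n5 n7) (B : LinearMap.BilinForm (ZMod 2) V) (hB : B.Nondegenerate)
    (hi : ∀ g x y, B (ρ g x) (ρ g y) = B x y)
    (W : Submodule (ZMod 2) V) (hW : Simp ρ W) (hW16 : Is16 ρ W) : W ⊓ B.orthogonal W = ⊥ := by
  obtain ⟨g3, hg3, hg3c⟩ := exists_three (F := F) hF
  obtain ⟨g5, hg5⟩ := exists_order (F := F) hF (p := 5) (by norm_num) (by norm_num)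
  obtain ⟨g7, hg7⟩ := exists_order (F := F) hF (p := 7) (by norm_num) (by norm_num)
  obtain ⟨d0, d3, d5, d7⟩ := hd
  have d3 := d3 g3 hg3 hg3c
  have d5 := d5 g5 hg5
  have d7 := d7 g7 hg7
  have ho := inv_orth hi hW.1
  rcases hW.2.2 _ (_root_.Cfsg.Agent.H592.L34.inv_inf hW.1 ho) inf_le_left with h | h
  · exact h
  · exfalso
    have hle : W ≤ B.orthogonal W := inf_eq_left.1 h
    obtain ⟨e0, e3, e5, e7⟩ := hW16
    have e3 := e3 g3 hg3 hg3c
    have e5 := e5 g5 hg5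
    have e7 := e7 g7 hg7
    obtain ⟨a1, b1, c1, f1, p0, p3, p5, p7⟩ := hPL _ _ hW.1 ho hle
    obtain ⟨a2, b2, c2, f2, q0, q3, q5, q7⟩ := hPL _ _ ho inv_top le_top
    have p3 := p3 g3 hg3 hg3c
    have p5 := p5 g5 hg5
    have p7 := p7 g7 hg7
    have q3 := q3 g3 hg3 hg3c
    have q5 := q5 g5 hg5
    have q7 := q7 g7 hg7
    have hdim := LinearMap.BilinForm.finrank_orthogonal hB W
    have hV : Module.finrank (ZMod 2) (⊤ : Submodule (ZMod 2) V) = Module.finrank (ZMod 2) V := finrank_top _ _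
    have hle' := Submodule.finrank_le W
    rw [e0] at hdim p0 hle'
    rw [e3] at p3
    rw [e5] at p5
    rw [e7] at p7
    rw [d0] at q0 hV
    rw [d3] at q3
    rw [d5] at q5
    rw [d7] at q7
    rw [← hV] at hdim hle'
    exact num hn5 hn7 (by (clear * - hdim; omega)) p0 p3 p5 p7 q0 q3 q5 q7

/-- the second module of type 9 -/
theorem exists_psi (hF : Fintype.card F = 4) (hsc : SC ρ) (hPL : PLh ρ) {n5 n7 : ℕ} (hn5 : n5 = 68 ∨ n5 = 48)
    (hn7 : n7 = 80 ∨ n7 = 38) (hd : Dims ρ (⊤ : Submodule (ZMod 2) V) 248 86 n5 n7) (B : LinearMap.BilinForm (ZMod 2) V)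
    (hB : B.Nondegenerate) (hi : ∀ g x y, B (ρ g x) (ρ g y) = B x y) (h0 : fixAll ρ = ⊥)
    {β : V →ₗ[ZMod 2] V →ₗ[ZMod 2] V} (hβ : Brk ρ β) {b : Bool} {φ : M3 F → V}
    (h1 : ∀ X Y, HF X → HF Y → φ (X + Y) = φ X + φ Y) (hinj : ∀ X, HF X → φ X = 0 → X = 0)
    (h3 : ∀ (g : G3 F) X, HF X → ρ g (φ X) = φ (hact (tw b g) X)) (hne : β (φ d1) (φ d2) ≠ 0) :
    ∃ ψ : M3 F → V, (∀ X Y, HF X → HF Y → ψ (X + Y) = ψ X + ψ Y) ∧ (∀ X, HF X → ψ X = 0 → X = 0) ∧
      (∀ (g : G3 F) X, HF X → ρ g (ψ X) = ψ (hact (tw (!b) g) X)) := by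
  classical
  obtain ⟨e⟩ := ringEq hF
  have h2 : ∀ v, v ∈ imS φ e h1 ↔ ∃ X, HF X ∧ φ X = v := fun v => Iff.rfl
  generalize imS φ e h1 = W at h2
  have hW : IsNine ρ b W := ⟨φ, h1, hinj, h2, h3⟩
  rcases lt_or_ge (Module.finrank (ZMod 2) (bsp β W)) 25 with hlt | hge
  · obtain ⟨ψ, k1, k2, -, k4, -⟩ := lam_nine hF hβ h0 h1 h2 h3 hlt hne
    exact ⟨ψ, k1, k2, k4⟩
  rcases lt_or_ge (Module.finrank (ZMod 2) (bsp β W)) 36 with hlt | hge'
  · exfalso
    have hS := fun Y hY hYW hY0 => sub25 hβ h0 e h1 h2 h3 hlt hge Y hY hYW hY0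
    have hWi := nine_inv e hW
    have hX := bsp_inv hβ hWi
    have hX0 : bsp β W ≠ ⊥ := by
      intro h
      rw [h, finrank_bot] at hge
      omega
    have h25 := (hS _ hX le_rfl hX0).1
    obtain ⟨Y, hY, hYX⟩ := exists_simp hX hX0
    have hY16 := (hS Y hY.1 hYX hY.2.1).2
    have hYle := Submodule.finrank_mono hYX
    have hYt : Is16 ρ Y := by
      rcases hsc Y hY with h | h | h | h | h
      · exfalso
        apply hY.2.1
        rw [eq_bot_iff]
        intro v hv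
        rw [← h0]
        exact fun g => h v hv g
      · have := (H360.L34.nine_dims hF h).1
        omega
      · have := (H360.L34.nine_dims hF h).1
        omega
      · exact h
      · have := h.1.1
        omega
    have hYn := h16 hF hPL hn5 hn7 hd B hB hi Y hY hYt
    have ho := inv_orth hi hY.1
    have htop : Y ⊔ B.orthogonal Y = ⊤ := by
      apply Submodule.eq_top_of_finrank_eq
      have h3 := Submodule.finrank_sup_add_finrank_inf_eq Y (B.orthogonal Y)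
      rw [hYn, finrank_bot] at h3
      have hdim := LinearMap.BilinForm.finrank_orthogonal hB Y
      have hle' := Submodule.finrank_le Y
      omega
    have h5 := sup_inf_assoc_of_le (B.orthogonal Y) hYX
    rw [htop, top_inf_eq] at h5
    -- the complement
    have h6 : Y ⊓ (B.orthogonal Y ⊓ bsp β W) = ⊥ := by
      rw [← inf_assoc, hYn, bot_inf_eq]
    have h7 := Submodule.finrank_sup_add_finrank_inf_eq Y (B.orthogonal Y ⊓ bsp β W)
    rw [h6, finrank_bot, ← h5, add_zero, h25, hYt.1] at h7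
    have hZ0 : B.orthogonal Y ⊓ bsp β W ≠ ⊥ := by
      intro h
      rw [h, finrank_bot] at h7
      omega
    have h8 := (hS _ (_root_.Cfsg.Agent.H592.L34.inv_inf ho hX) inf_le_right hZ0).2
    omega
  · obtain ⟨-, N, ⟨ψ, k1, k2, -, k4⟩, -⟩ := lam_emb_of hF hβ hW hge'
    exact ⟨ψ, k1, k2, k4⟩

end

end Cfsg.Agent.H288.L34
end

-- part: H288/L34/HfixD
section
/-! Type D of S5917: every module of type 9 is abelian (from the values of the 2-map on the fixed vectors). -/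

set_option autoImplicit false
set_option linter.constructorNameAsVariable false

namespace Cfsg.Agent.H288.L34

open Matrix Cfsg.Agent.H691.L34 Cfsg.Agent.SporadicA.FieldFour Cfsg.Agent.H592.L34

section

variable {F : Type} [Field F] [Fintype F] {V : Type} [AddCommGroup V] [Module (ZMod 2) V] [Module.Finite (ZMod 2) V]
  {ρ : Representation (ZMod 2) (G3 F) V}

/-- an equivariant additive injective map of type `b` -/
structure Nin (ρ : Representation (ZMod 2) (G3 F) V) (b : Bool) (φ : M3 F → V) : Prop where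
  add : ∀ X Y, HF X → HF Y → φ (X + Y) = φ X + φ Y
  inj : ∀ X, HF X → φ X = 0 → X = 0
  eqv : ∀ (g : G3 F) X, HF X → ρ g (φ X) = φ (hact (tw b g) X)

/-- the 2-map on the fixed vectors of two modules of different types -/
def Sq2 (ρ : Representation (ZMod 2) (G3 F) V) (sq : V → V) : Prop := ∀ (b : Bool) (φ ψ : M3 F → V), Nin ρ b φ → Nin ρ (!b) ψ →
  (sq (φ 1) = φ 1 ∨ sq (φ 1) = ψ 1 ∨ sq (φ 1) = φ 1 + ψ 1) ∧ (sq (ψ 1) = φ 1 ∨ sq (ψ 1) = ψ 1 ∨ sq (ψ 1) = φ 1 + ψ 1) ∧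
  sq (φ 1) ≠ sq (ψ 1) ∧ ¬ (sq (φ 1) = ψ 1 ∧ sq (ψ 1) = φ 1)

/-- (D6) every module of type 9 is abelian -/
theorem hfixD (hF : Fintype.card F = 4) (hsc : SC ρ) (hPL : PLh ρ) {n5 n7 : ℕ} (hn5 : n5 = 68 ∨ n5 = 48)
    (hn7 : n7 = 80 ∨ n7 = 38) (hd : Dims ρ (⊤ : Submodule (ZMod 2) V) 248 86 n5 n7) (B : LinearMap.BilinForm (ZMod 2) V)
    (hB : B.Nondegenerate) (hi : ∀ g x y, B (ρ g x) (ρ g y) = B x y) (h0 : fixAll ρ = ⊥)
    {β : V →ₗ[ZMod 2] V →ₗ[ZMod 2] V} (hβ : Brk ρ β) {sq : V → V} (hadd : ∀ x y, sq (x + y) = sq x + sq y + β x y)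
    (hsi : ∀ g x, ρ g (sq x) = sq (ρ g x)) (hsb : ∀ x y, β (sq x) y = β x (β x y)) (hsq : Sq2 ρ sq)
    {b : Bool} {φ : M3 F → V} (hφ : Nin ρ b φ) : β (φ d1) (φ d2) = 0 := by
  by_contra hne
  obtain ⟨e⟩ := ringEq hF
  obtain ⟨ψ, k1, k2, k3⟩ := exists_psi hF hsc hPL hn5 hn7 hd B hB hi h0 hβ hφ.add hφ.inj hφ.eqv hne
  obtain ⟨l1, l2, l3, l4⟩ := hsq b φ ψ hφ ⟨k1, k2, k3⟩
  exact H906.L34.dead_B hF β hβ.alt hβ.inv hadd hsi hsb hφ.add k1 hφ.eqv k3 hφ.inj k2 l1 l2 l3 l4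
    ⟨d1, d2, HF_d1 e, HF_d2 e, hne⟩

end

end Cfsg.Agent.H288.L34
end

-- part: H288/L34/Sq2
section
/-! The values of the 2-map on the fixed vectors of two modules of type 9 (S5917, type D). -/

set_option autoImplicit false
set_option linter.constructorNameAsVariable false

namespace Cfsg.Agent.H288.L34

open Matrix Cfsg.Agent.H691.L34 Cfsg.Agent.SporadicA.FieldFour Cfsg.Agent.H592.L34
open Cfsg.Agent.H904.L34 (VE mem_VE RR SimpCases NineDims)

section

variable {F : Type} [Field F] [Fintype F] {V : Type} [AddCommGroup V] [Module (ZMod 2) V] [Module.Finite (ZMod 2) V]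
  {ρ : Representation (ZMod 2) (G3 F) V}

omit [Fintype F] [Module.Finite (ZMod 2) V] in
theorem imS_nine (e : F4 ≃+* F) {b : Bool} {φ : M3 F → V} (h : Nin ρ b φ) : IsNine ρ b (imS φ e h.add) :=
  ⟨φ, h.add, h.inj, fun _ => Iff.rfl, h.eqv⟩

/-- the span of the values of the 2-map and a subspace -/
def qsp (e : F4 ≃+* F) {β : V →ₗ[ZMod 2] V →ₗ[ZMod 2] V} {sq : V → V} (hadd : ∀ x y, sq (x + y) = sq x + sq y + β x y)
    {φ : M3 F → V} (h1 : ∀ X Y, HF X → HF Y → φ (X + Y) = φ X + φ Y) (W : Submodule (ZMod 2) V)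
    (hb : ∀ X Y, HF X → HF Y → β (φ X) (φ Y) ∈ W) : Submodule (ZMod 2) V where
  carrier := {v | ∃ X, HF X ∧ ∃ w ∈ W, sq (φ X) + w = v}
  add_mem' := by
    rintro x y ⟨X, hX, w, hw, rfl⟩ ⟨Y, hY, w', hw', rfl⟩
    refine ⟨X + Y, HF_add _ _ (char_two e) hX hY, w + w' + β (φ X) (φ Y), W.add_mem (W.add_mem hw hw') (hb X Y hX hY), ?_⟩
    rw [h1 X Y hX hY, hadd]
    have h := vv (β (φ X) (φ Y))
    calc sq (φ X) + sq (φ Y) + β (φ X) (φ Y) + (w + w' + β (φ X) (φ Y)) =
        (sq (φ X) + w) + (sq (φ Y) + w') + (β (φ X) (φ Y) + β (φ X) (φ Y)) := by abel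
      _ = _ := by rw [h, add_zero]
  zero_mem' := by
    have h0 : sq 0 = 0 := by
      have h := hadd 0 0
      rw [add_zero, vv, zero_add, map_zero] at h
      exact h
    have h2 : φ 0 = 0 := by
      have h := h1 0 0 HF_zero HF_zero
      rw [add_zero] at h
      rw [h, vv]
    exact ⟨0, HF_zero, 0, W.zero_mem, by rw [h2, h0, add_zero]⟩
  smul_mem' := by
    rintro a x hx
    have ha : a = 0 ∨ a = 1 := by revert a; decide
    have h0 : sq 0 = 0 := by
      have h := hadd 0 0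
      rw [add_zero, vv, zero_add, map_zero] at h
      exact h
    have h2 : φ 0 = 0 := by
      have h := h1 0 0 HF_zero HF_zero
      rw [add_zero] at h
      rw [h, vv]
    rcases ha with rfl | rfl
    · exact ⟨0, HF_zero, 0, W.zero_mem, by rw [h2, h0, add_zero, zero_smul]⟩
    · rw [one_smul]; exact hx

/-- the 2-map on the fixed vector has no trace part -/
theorem k_zero {T : Submodule (ZMod 2) V}
    (hTR : ∀ A : Submodule (ZMod 2) V, _root_.Cfsg.Agent.H691.L34.Inv ρ A → Module.finrank (ZMod 2) A < 64 → T ⊓ A = ⊥) (e : F4 ≃+* F)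
    {β : V →ₗ[ZMod 2] V →ₗ[ZMod 2] V} (hβ : Brk ρ β) {sq : V → V} (hadd : ∀ x y, sq (x + y) = sq x + sq y + β x y)
    (hsi : ∀ g x, ρ g (sq x) = sq (ρ g x)) {b : Bool} {φ : M3 F → V} (hφ : Nin ρ b φ) {D : Submodule (ZMod 2) V}
    (hD : _root_.Cfsg.Agent.H691.L34.Inv ρ D) (hD18 : Module.finrank (ZMod 2) D ≤ 18) {k d : V} (hk : k ∈ T) (hd : d ∈ D) (h : sq (φ 1) = k + d)
    (h1F : HF (1 : M3 F)) : k = 0 := by
  classical
  have hfin : Finite V := Module.finite_of_finite (ZMod 2)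
  have h2 : ∀ v, v ∈ imS φ e hφ.add ↔ ∃ X, HF X ∧ φ X = v := fun v => Iff.rfl
  have hN := nine_inv e (imS_nine e hφ)
  generalize imS φ e hφ.add = N at h2 hN
  have hb36 : Module.finrank (ZMod 2) (bsp β N) ≤ 36 := by
    let f : Fin (2 ^ 36) → bsp β N := fun k => ⟨ev (cl (brA β) (el e φ)) k, cl_mem β e h2 _⟩
    have hf : Function.Surjective f := by
      rintro ⟨v, hv⟩
      obtain ⟨n, hn, h5⟩ := bsp_sub hβ e hφ.add h2 v hv
      exact ⟨⟨n, hn⟩, Subtype.ext h5⟩
    have hle := Nat.card_le_card_of_surjective f hf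
    have e1 : Nat.card (Fin (2 ^ 36)) = 2 ^ 36 := by rw [Nat.card_eq_fintype_card, Fintype.card_fin]
    rw [e1, card_sub] at hle
    exact (Nat.pow_le_pow_iff_right (by norm_num)).1 hle
  have hW : _root_.Cfsg.Agent.H691.L34.Inv ρ (bsp β N ⊔ D) := by
    intro g w hw
    obtain ⟨x, hx, y, hy, rfl⟩ := Submodule.mem_sup.1 hw
    rw [map_add]
    exact Submodule.add_mem_sup (bsp_inv hβ hN g x hx) (hD g y hy)
  have hW54 := Submodule.finrank_add_le_finrank_add_finrank (bsp β N) D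
  have hbW : ∀ X Y, HF X → HF Y → β (φ X) (φ Y) ∈ bsp β N ⊔ D := fun X Y hX hY =>
    Submodule.mem_sup_left (Submodule.subset_span ⟨_, (h2 _).2 ⟨X, hX, rfl⟩, _, (h2 _).2 ⟨Y, hY, rfl⟩, rfl⟩)
  have hDW : D ≤ bsp β N ⊔ D := le_sup_right
  generalize bsp β N ⊔ D = W at hW hW54 hbW hDW
  let A := qsp e hadd hφ.add W hbW
  have hA : _root_.Cfsg.Agent.H691.L34.Inv ρ A := by
    rintro g v ⟨X, hX, w, hw, rfl⟩
    refine ⟨hact (tw b g) X, HF_hact e _ X hX, ρ g w, hW g w hw, ?_⟩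
    rw [map_add, hsi, hφ.eqv g X hX]
  have hA64 : Module.finrank (ZMod 2) A < 64 := by
    let f : Fin (2 ^ 9) × W → A := fun p => ⟨sq (φ (mu e (ev B4 p.1))) + p.2, _, HF_ev e _, p.2, p.2.2, rfl⟩
    have hf : Function.Surjective f := by
      rintro ⟨v, X, hX, w, hw, rfl⟩
      obtain ⟨n, hn, rfl⟩ := herm_ev e X hX
      exact ⟨⟨⟨n, hn⟩, ⟨w, hw⟩⟩, rfl⟩
    have hle := Nat.card_le_card_of_surjective f hf
    rw [Nat.card_prod, card_sub, card_sub, Nat.card_eq_fintype_card, Fintype.card_fin, ← pow_add] at hle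
    have := (Nat.pow_le_pow_iff_right (by norm_num)).1 hle
    omega
  have hkA : k ∈ A := by
    have h5 : k = sq (φ 1) + d := by rw [h, add_assoc, vv, add_zero]
    exact ⟨1, h1F, d, hDW hd, h5.symm⟩
  have h6 : k ∈ T ⊓ A := ⟨hk, hkA⟩
  rw [hTR A hA hA64] at h6
  exact (Submodule.mem_bot _).1 h6

/-- **(D6)** the values of the 2-map -/
theorem sq2_of (hF : Fintype.card F = 4) {T : Submodule (ZMod 2) V}
    (hTR : ∀ A : Submodule (ZMod 2) V, _root_.Cfsg.Agent.H691.L34.Inv ρ A → Module.finrank (ZMod 2) A < 64 → T ⊓ A = ⊥)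
    {β : V →ₗ[ZMod 2] V →ₗ[ZMod 2] V} (hβ : Brk ρ β) {sq : V → V} (hadd : ∀ x y, sq (x + y) = sq x + sq y + β x y)
    (hsi : ∀ g x, ρ g (sq x) = sq (ρ g x))
    {K3 Z0 : Submodule (ZMod 2) V} (hK3 : K3 ≤ T) (hK3R : K3 ≤ VE ρ (RR hF)) (h3 : Module.finrank (ZMod 2) K3 = 3)
    (hdec : ∀ v ∈ VE ρ (RR hF), ∃ k ∈ K3, ∃ t ∈ Z0, v = k + t) (hKZ : K3 ⊓ Z0 = ⊥)
    (hsK : ∀ k ∈ K3, sq k ∈ K3) (hsZ : ∀ t ∈ Z0, sq t ∈ Z0) (hsZ0 : ∀ t ∈ Z0, sq t = 0 → t = 0)
    (hbK : ∀ k ∈ K3, ∀ t ∈ Z0, β k t = 0) (hbZ : ∀ t ∈ Z0, ∀ t' ∈ Z0, β t t' = 0)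
    (hev : ∀ t ∈ Z0, ∀ t' ∈ Z0, t ≠ t' → ¬ (sq t = t' ∧ sq t' = t))
    (hV5 : ∀ (b : Bool) (N N' : Submodule (ZMod 2) V), IsNine ρ b N → IsNine ρ (!b) N' →
      Module.finrank (ZMod 2) (VE ρ (RR hF)) ≤ 5) : Sq2 ρ sq := by
  classical
  obtain ⟨e⟩ := ringEq hF
  have h1F : HF (1 : M3 F) := by
    have h : (1 : M3 F) = mu e (ev B4 265) := by rw [ev265, map_one]
    rw [h]; exact HF_ev e 265
  have h10 : (1 : M3 F) ≠ 0 := one_ne_zero
  have hRf : ∀ (b : Bool) (φ : M3 F → V), Nin ρ b φ → φ 1 ∈ VE ρ (RR hF) := by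
    intro b φ h
    rw [mem_VE]
    intro g hg
    rw [h.eqv g 1 h1F, unit_tw e b g hg]
  have hsR : ∀ v ∈ VE ρ (RR hF), sq v ∈ VE ρ (RR hF) := by
    intro v hv
    rw [mem_VE] at hv ⊢
    intro g hg
    rw [hsi, hv g hg]
  intro b φ ψ hφ hψ
  have hN9 := imS_nine e hφ
  have hN9' := imS_nine e hψ
  have hV5' := hV5 b _ _ hN9 hN9'
  have hnN : φ 1 ∈ imS φ e hφ.add := ⟨1, h1F, rfl⟩
  have hmN : ψ 1 ∈ imS ψ e hψ.add := ⟨1, h1F, rfl⟩
  have hn0 : φ 1 ≠ 0 := fun h => h10 (hφ.inj 1 h1F h)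
  have hm0 : ψ 1 ≠ 0 := fun h => h10 (hψ.inj 1 h1F h)
  have hnR := hRf b φ hφ
  have hmR := hRf (!b) ψ hψ
  have hk1 := fun (D : Submodule (ZMod 2) V) (hD : _root_.Cfsg.Agent.H691.L34.Inv ρ D) (hD18 : Module.finrank (ZMod 2) D ≤ 18) (k d : V)
    (hk : k ∈ T) (hd : d ∈ D) (h : sq (φ 1) = k + d) => k_zero hTR e hβ hadd hsi hφ hD hD18 hk hd h h1F
  have hk2 := fun (D : Submodule (ZMod 2) V) (hD : _root_.Cfsg.Agent.H691.L34.Inv ρ D) (hD18 : Module.finrank (ZMod 2) D ≤ 18) (k d : V)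
    (hk : k ∈ T) (hd : d ∈ D) (h : sq (ψ 1) = k + d) => k_zero hTR e hβ hadd hsi hψ hD hD18 hk hd h h1F
  generalize imS φ e hφ.add = N at hN9 hnN
  generalize imS ψ e hψ.add = N' at hN9' hmN
  generalize φ 1 = n at hnN hn0 hnR hk1
  generalize ψ 1 = m at hmN hm0 hmR hk2
  -- the two modules are disjoint
  have hNN : N ⊓ N' = ⊥ := by
    have s1 := H360.L34.nine_simp hF hN9
    have s2 := H360.L34.nine_simp hF hN9'
    rcases s1.2.2 _ (_root_.Cfsg.Agent.H592.L34.inv_inf s1.1 s2.1) inf_le_left with h | h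
    · exact h
    · exfalso
      have hle : N ≤ N' := inf_eq_left.1 h
      rcases s2.2.2 _ s1.1 hle with h' | h'
      · exact s1.2.1 h'
      · rw [h'] at hN9
        cases b
        · exact H360.L34.nine_ne hF hN9 hN9'
        · exact H360.L34.nine_ne hF hN9' hN9
  have hDi : _root_.Cfsg.Agent.H691.L34.Inv ρ (N ⊔ N') := by
    intro g w hw
    obtain ⟨x, hx, y, hy, rfl⟩ := Submodule.mem_sup.1 hw
    rw [map_add]
    exact Submodule.add_mem_sup (nine_inv e hN9 g x hx) (nine_inv e hN9' g y hy)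
  have hD18 : Module.finrank (ZMod 2) (N ⊔ N' : Submodule (ZMod 2) V) ≤ 18 := by
    have h1 := Submodule.finrank_add_le_finrank_add_finrank N N'
    have h2 : Module.finrank (ZMod 2) N = 9 := (H360.L34.nine_dims hF hN9).1
    have h3 : Module.finrank (ZMod 2) N' = 9 := (H360.L34.nine_dims hF hN9').1
    omega
  have hTD := hTR _ hDi (by omega)
  have hKD : ∀ x ∈ K3, x ∈ N ⊔ N' → x = 0 := by
    intro x h1 h2
    have h3 : x ∈ T ⊓ (N ⊔ N') := ⟨hK3 h1, h2⟩
    rw [hTD] at h3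
    exact (Submodule.mem_bot _).1 h3
  have hnD : n ∈ N ⊔ N' := Submodule.mem_sup_left hnN
  have hmD : m ∈ N ⊔ N' := Submodule.mem_sup_right hmN
  -- the plane
  have hPD : Submodule.span (ZMod 2) {n} ⊔ Submodule.span (ZMod 2) {m} ≤ N ⊔ N' :=
    sup_le_sup ((Submodule.span_singleton_le_iff_mem _ _).2 hnN) ((Submodule.span_singleton_le_iff_mem _ _).2 hmN)
  have hP2 : Module.finrank (ZMod 2) (Submodule.span (ZMod 2) {n} ⊔ Submodule.span (ZMod 2) {m} : Submodule (ZMod 2) V) = 2 := by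
    have h1 := Submodule.finrank_sup_add_finrank_inf_eq (Submodule.span (ZMod 2) {n}) (Submodule.span (ZMod 2) {m})
    have h2 : Submodule.span (ZMod 2) {n} ⊓ Submodule.span (ZMod 2) {m} = ⊥ := by
      rw [eq_bot_iff, ← hNN]
      exact inf_le_inf ((Submodule.span_singleton_le_iff_mem _ _).2 hnN) ((Submodule.span_singleton_le_iff_mem _ _).2 hmN)
    rw [h2, finrank_bot, finrank_span_singleton hn0, finrank_span_singleton hm0] at h1
    omega
  have hPel : ∀ d ∈ Submodule.span (ZMod 2) {n} ⊔ Submodule.span (ZMod 2) {m}, d = 0 ∨ d = n ∨ d = m ∨ d = n + m := by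
    intro d hd
    obtain ⟨x, hx, y, hy, rfl⟩ := Submodule.mem_sup.1 hd
    obtain ⟨a, rfl⟩ := Submodule.mem_span_singleton.1 hx
    obtain ⟨c, rfl⟩ := Submodule.mem_span_singleton.1 hy
    have z2 : ∀ a : ZMod 2, a = 0 ∨ a = 1 := by decide
    rcases z2 a with rfl | rfl <;> rcases z2 c with rfl | rfl
    · left; rw [zero_smul, zero_smul, add_zero]
    · right; right; left; rw [zero_smul, one_smul, zero_add]
    · right; left; rw [zero_smul, one_smul, add_zero]
    · right; right; right; rw [one_smul, one_smul]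
  generalize hPe : Submodule.span (ZMod 2) {n} ⊔ Submodule.span (ZMod 2) {m} = P at hPD hP2 hPel
  have hPR : P ≤ VE ρ (RR hF) := by
    rw [← hPe]
    exact sup_le ((Submodule.span_singleton_le_iff_mem _ _).2 hnR) ((Submodule.span_singleton_le_iff_mem _ _).2 hmR)
  have hall : K3 ⊔ P = VE ρ (RR hF) := by
    apply Submodule.eq_of_le_of_finrank_le (sup_le hK3R hPR)
    have h1 := Submodule.finrank_sup_add_finrank_inf_eq K3 P
    have h2 : K3 ⊓ P = ⊥ := by
      rw [eq_bot_iff]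
      intro x hx
      exact (Submodule.mem_bot _).2 (hKD x hx.1 (hPD hx.2))
    rw [h2, finrank_bot] at h1
    omega
  -- the values
  have hvn : ∃ d ∈ P, sq n = d := by
    have h1 := hsR n hnR
    rw [← hall] at h1
    obtain ⟨k, hk, d, hd, h2⟩ := Submodule.mem_sup.1 h1
    refine ⟨d, hd, ?_⟩
    rw [← h2, hk1 _ hDi hD18 k d (hK3 hk) (hPD hd) h2.symm, zero_add]
  have hvm : ∃ d ∈ P, sq m = d := by
    have h1 := hsR m hmR
    rw [← hall] at h1
    obtain ⟨k, hk, d, hd, h2⟩ := Submodule.mem_sup.1 h1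
    refine ⟨d, hd, ?_⟩
    rw [← h2, hk2 _ hDi hD18 k d (hK3 hk) (hPD hd) h2.symm, zero_add]
  -- the decompositions
  obtain ⟨k1, hk1', t1, ht1, en⟩ := hdec n hnR
  obtain ⟨k2, hk2', t2, ht2, em⟩ := hdec m hmR
  have hz : ∀ x, x ∈ K3 → x ∈ Z0 → x = 0 := by
    intro x h1 h2
    have h3 : x ∈ K3 ⊓ Z0 := ⟨h1, h2⟩
    rw [hKZ] at h3
    exact (Submodule.mem_bot _).1 h3
  have sn : sq n = sq k1 + sq t1 := by rw [en, hadd, hbK k1 hk1' t1 ht1, add_zero]
  have sm : sq m = sq k2 + sq t2 := by rw [em, hadd, hbK k2 hk2' t2 ht2, add_zero]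
  have uniq : ∀ k ∈ K3, ∀ t ∈ Z0, ∀ k' ∈ K3, ∀ t' ∈ Z0, k + t = k' + t' → t = t' := by
    intro k hk t ht k' hk' t' ht' h
    have h4 : t + t' = k + k' := by
      have h5 := vv t'
      have h6 := vv k
      calc t + t' = (k + k) + t + t' := by rw [h6, zero_add]
        _ = k + (k + t) + t' := by abel
        _ = k + (k' + t') + t' := by rw [h]
        _ = k + k' + (t' + t') := by abel
        _ = k + k' := by rw [h5, add_zero]
    have h7 := hz (t + t') (by rw [h4]; exact K3.add_mem hk hk') (Z0.add_mem ht ht')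
    exact add_right_cancel (h7.trans (vv t').symm)
  have ht12 : t1 ≠ t2 := by
    intro h
    have h5 : n + m = k1 + k2 := by
      rw [en, em, h]
      have h6 := vv t2
      calc k1 + t2 + (k2 + t2) = k1 + k2 + (t2 + t2) := by abel
        _ = _ := by rw [h6, add_zero]
    have h7 := hKD (n + m) (by rw [h5]; exact K3.add_mem hk1' hk2') (Submodule.add_mem _ hnD hmD)
    have h8 : n = m := add_right_cancel (h7.trans (vv m).symm)
    have h9 : n ∈ N ⊓ N' := ⟨hnN, h8 ▸ hmN⟩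
    rw [hNN] at h9
    exact hn0 ((Submodule.mem_bot _).1 h9)
  have key : ∀ x k t, x ∈ N ⊔ N' → x ≠ 0 → k ∈ K3 → t ∈ Z0 → x = k + t → sq x = sq k + sq t → sq x ≠ 0 := by
    intro x k t hx hx0 hk ht h1 h2 h3
    rw [h2] at h3
    have h4 : sq t = 0 := by
      apply hz _ _ (hsZ t ht)
      have h5 : sq t = sq k := by
        have h6 := vv (sq k)
        calc sq t = (sq k + sq k) + sq t := by rw [h6, zero_add]
          _ = sq k + (sq k + sq t) := by abel
          _ = sq k := by rw [h3, add_zero]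
      rw [h5]
      exact hsK k hk
    have h5 := hsZ0 t ht h4
    rw [h5, add_zero] at h1
    exact hx0 (hKD x (h1 ▸ hk) hx)
  have n1 := key n k1 t1 hnD hn0 hk1' ht1 en sn
  have n2 := key m k2 t2 hmD hm0 hk2' ht2 em sm
  obtain ⟨d, hd, hdn⟩ := hvn
  obtain ⟨d', hd', hdm⟩ := hvm
  refine ⟨?_, ?_, ?_, ?_⟩
  · rcases hPel d hd with h | h | h | h
    · exact absurd (hdn.trans h) n1
    · left; exact hdn.trans h
    · right; left; exact hdn.trans h
    · right; right; exact hdn.trans h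
  · rcases hPel d' hd' with h | h | h | h
    · exact absurd (hdm.trans h) n2
    · left; exact hdm.trans h
    · right; left; exact hdm.trans h
    · right; right; exact hdm.trans h
  · intro h
    rw [sn, sm] at h
    have h1 := uniq _ (hsK k1 hk1') _ (hsZ t1 ht1) _ (hsK k2 hk2') _ (hsZ t2 ht2) h
    apply ht12
    have h2 : sq (t1 + t2) = 0 := by rw [hadd, h1, vv, zero_add, hbZ t1 ht1 t2 ht2]
    exact add_right_cancel ((hsZ0 _ (Z0.add_mem ht1 ht2) h2).trans (vv t2).symm)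
  · rintro ⟨h, h'⟩
    apply hev t1 ht1 t2 ht2 ht12
    refine ⟨?_, ?_⟩
    · apply uniq _ (hsK k1 hk1') _ (hsZ t1 ht1) _ hk2' _ ht2
      rw [← sn, h, em]
    · apply uniq _ (hsK k2 hk2') _ (hsZ t2 ht2) _ hk1' _ ht1
      rw [← sm, h', en]

end

end Cfsg.Agent.H288.L34
end

-- part: H288/L34/Sq2b
section
/-! Variant of `sq2_of` with the dimension of `Z0` (S5917, type D). -/

set_option autoImplicit false

namespace Cfsg.Agent.H288.L34

open Matrix Cfsg.Agent.H691.L34 Cfsg.Agent.SporadicA.FieldFour Cfsg.Agent.H592.L34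
open Cfsg.Agent.H904.L34 (VE mem_VE RR SimpCases NineDims)

variable {F : Type} [Field F] [Fintype F] {V : Type} [AddCommGroup V] [Module (ZMod 2) V] [Module.Finite (ZMod 2) V]
  {ρ : Representation (ZMod 2) (G3 F) V}

/-- **(D6)** the values of the 2-map, from `finrank Z0 = 2` -/
theorem sq2_of_two (hF : Fintype.card F = 4) {T : Submodule (ZMod 2) V}
    (hTR : ∀ A : Submodule (ZMod 2) V, _root_.Cfsg.Agent.H691.L34.Inv ρ A → Module.finrank (ZMod 2) A < 64 → T ⊓ A = ⊥)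
    {β : V →ₗ[ZMod 2] V →ₗ[ZMod 2] V} (hβ : Brk ρ β) {sq : V → V} (hadd : ∀ x y, sq (x + y) = sq x + sq y + β x y)
    (hsi : ∀ g x, ρ g (sq x) = sq (ρ g x))
    {K3 Z0 : Submodule (ZMod 2) V} (hK3 : K3 ≤ T) (hK3R : K3 ≤ VE ρ (RR hF)) (h3 : Module.finrank (ZMod 2) K3 = 3)
    (hZR : Z0 ≤ VE ρ (RR hF)) (h2 : Module.finrank (ZMod 2) Z0 = 2) (hKZ : K3 ⊓ Z0 = ⊥)
    (hsK : ∀ k ∈ K3, sq k ∈ K3) (hsZ : ∀ t ∈ Z0, sq t ∈ Z0) (hsZ0 : ∀ t ∈ Z0, sq t = 0 → t = 0)
    (hbK : ∀ k ∈ K3, ∀ t ∈ Z0, β k t = 0) (hbZ : ∀ t ∈ Z0, ∀ t' ∈ Z0, β t t' = 0)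
    (hev : ∀ t ∈ Z0, ∀ t' ∈ Z0, t ≠ t' → ¬ (sq t = t' ∧ sq t' = t))
    (hV5 : ∀ (b : Bool) (N N' : Submodule (ZMod 2) V), IsNine ρ b N → IsNine ρ (!b) N' →
      Module.finrank (ZMod 2) (VE ρ (RR hF)) ≤ 5) : Sq2 ρ sq := by
  intro b φ ψ hφ hψ
  obtain ⟨e⟩ := ringEq hF
  have h5 := hV5 b _ _ (imS_nine e hφ) (imS_nine e hψ)
  have hall : K3 ⊔ Z0 = VE ρ (RR hF) := by
    apply Submodule.eq_of_le_of_finrank_le (sup_le hK3R hZR)
    have h1 := Submodule.finrank_sup_add_finrank_inf_eq K3 Z0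
    rw [hKZ, finrank_bot] at h1
    omega
  refine sq2_of hF hTR hβ hadd hsi hK3 hK3R h3 ?_ hKZ hsK hsZ hsZ0 hbK hbZ hev hV5 b φ ψ hφ hψ
  intro v hv
  rw [← hall] at hv
  obtain ⟨k, hk, t, ht, h⟩ := Submodule.mem_sup.1 hv
  exact ⟨k, hk, t, ht, h.symm⟩

end Cfsg.Agent.H288.L34
end

-- part: H288/L34/HfixRho
section
/-! (D6) on the Lie algebra over `F₂`: every module of type 9 is abelian (S5917, type D), S-side. -/

set_option autoImplicit false

namespace Cfsg.Agent.H288.L34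

open Matrix Cfsg.Agent.H691.L34 Cfsg.Agent.SporadicA.FieldFour Cfsg.Agent.H592.L34
open Cfsg.Agent.H904.L34 (VE mem_VE RR SimpCases NineDims)
open Cfsg.Agent.H955.L34 (trR)

section

variable {F : Type} [Field F] [Fintype F] {V : Type} [AddCommGroup V] [Module (ZMod 2) V] [Module.Finite (ZMod 2) V]
  {ρ : Representation (ZMod 2) (G3 F) V}

end

section

open Cfsg.Agent.H437.L34
open Cfsg.Agent.H906.L34 (sq2 sq2_add sq2_br rho_sq2)
open Cfsg.Agent.H939.L64 (E2 L2)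

variable {F : Type} [Field F] [Fintype F]

end

end Cfsg.Agent.H288.L34
end
end

-- part: H159/L34/YEnd
section
prune_inst 0x310029440522020000000000a0000040200000000000000080200100080020400402800008200000080800804000000001100000020000000a000000000101209000000480480004040008800080000000000000000000000000000000000004000000000
set_option linter.all false
open scoped Cfsg.Agent.FastGrp

namespace Cfsg.Agent
private noncomputable def fN (x : ℕ) (f : ℕ → ℕ) : ℕ := Nat.rec (f 0) (fun n _ => f (Nat.succ n)) x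

private noncomputable def lk (l : List (ℕ × Array (ℕ × ℤ))) (s : ℕ) : ℕ :=
  List.rec 240 (fun e _ ih => @Bool.rec (fun _ => ℕ) ih (e.2.getD 0 (240, 0)).1 (Nat.beq e.1 s)) l

private noncomputable def mk (l : List (ℕ × Array (ℕ × ℤ))) : ℕ :=
  List.rec 0 (fun e _ ih => Nat.lor ih (Nat.shiftLeft 1 e.1)) l

private noncomputable def tgF (r s : ℕ) : ℕ := fN r fun r => fN s fun s => @Bool.rec (fun _ => ℕ)
  (lk (Cfsg.Agent.H413.L16.row r) s) 240 (Nat.beq (Nat.land (Nat.shiftRight (mk (Cfsg.Agent.H413.L16.row r)) s) 1) 0)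

private theorem tg_eq : Cfsg.Agent.H413.L16.tg = tgF := by
  have h0 : ∀ x f, fN x f = f x := fun x f => by cases x <;> rfl
  have h1 : ∀ (s : ℕ) (l : List (ℕ × Array (ℕ × ℤ))),
      ((l.find? fun e => e.1 == s).elim 240 fun e => (e.2.getD 0 (240, 0)).1) = lk l s := fun s l => by
    induction l with
    | nil => rfl
    | cons e l ih =>
      show _ = @Bool.rec (fun _ => ℕ) (lk l s) _ (Nat.beq e.1 s)
      rw [List.find?_cons, ← ih]
      by_cases h : e.1 = s
      · rw [beq_iff_eq.2 h, show Nat.beq e.1 s = true from h ▸ Nat.beq_refl _]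
        rfl
      · rw [beq_false_of_ne h, Bool.eq_false_iff.2 fun h' => h (Nat.eq_of_beq_eq_true h')]
  have h2 : ∀ (s : ℕ) (l : List (ℕ × Array (ℕ × ℤ))), (mk l).testBit s = false → lk l s = 240 := fun s l h => by
    induction l with
    | nil => rfl
    | cons e l ih =>
      have h1 : (mk l ||| 1 <<< e.1).testBit s = false := h
      rw [Nat.testBit_or, Bool.or_eq_false_iff, Nat.one_shiftLeft, Nat.testBit_two_pow] at h1
      show @Bool.rec (fun _ => ℕ) (lk l s) _ (Nat.beq e.1 s) = 240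
      rw [Bool.eq_false_iff.2 fun h2 => of_decide_eq_false h1.2 (Nat.eq_of_beq_eq_true h2)]
      exact ih h1.1
  funext r s
  delta tgF
  rw [h0, h0]
  refine (h1 s (Cfsg.Agent.H413.L16.row r)).trans ?_
  cases h : Nat.beq (Nat.land (Nat.shiftRight (mk (Cfsg.Agent.H413.L16.row r)) s) 1) 0 with
  | false => rfl
  | true =>
    refine h2 _ _ ?_
    have h3 : (mk (Cfsg.Agent.H413.L16.row r) >>> s) &&& 1 = 0 := Nat.eq_of_beq_eq_true h
    rw [Nat.and_one_is_mod] at h3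
    rw [← Nat.add_zero s, ← Nat.testBit_shiftRight, Nat.testBit_zero, h3]
    rfl

private theorem rf_eq : Cfsg.Agent.H413.L16.rf = fun r a => fN a (Cfsg.Agent.H413.L16.rf r) := by
  funext r a
  cases a <;> rfl

private noncomputable def fG {α : Type} (x : ℕ) (f : ℕ → α) : α := Nat.rec (f 0) (fun n _ => f (Nat.succ n)) x

private theorem fG_eq {α β : Type} (g : ℕ → β → α) : g = fun r i => fG r fun r => g r i := by
  funext r i
  cases r <;> rfl

private def bc8 (x y : Fin 8 → ℤ) : ℤ :=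
  Int.add (Int.mul (x 0) (Int.sub (Int.add (y 0) (y 0)) (y 2)))
  (Int.add (Int.mul (x 1) (Int.sub (Int.add (y 1) (y 1)) (y 3)))
  (Int.add (Int.mul (x 2) (Int.sub (Int.add (y 2) (y 2)) (Int.add (y 0) (y 3))))
  (Int.add (Int.mul (x 3) (Int.sub (Int.add (y 3) (y 3)) (Int.add (y 1) (Int.add (y 2) (y 4)))))
  (Int.add (Int.mul (x 4) (Int.sub (Int.add (y 4) (y 4)) (Int.add (y 3) (y 5))))
  (Int.add (Int.mul (x 5) (Int.sub (Int.add (y 5) (y 5)) (Int.add (y 4) (y 6))))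
  (Int.add (Int.mul (x 6) (Int.sub (Int.add (y 6) (y 6)) (Int.add (y 5) (y 7))))
  (Int.mul (x 7) (Int.sub (Int.add (y 7) (y 7)) (y 6)))))))))

private theorem bc8_eq : Cfsg.Agent.H897.T5Frame.bc Cfsg.Agent.H897.T5UntwRow.A8 = bc8 := by
  funext x y
  delta Cfsg.Agent.H897.T5Frame.bc
  simp only [Fin.sum_univ_eight]
  show x 0 * 2 * y 0 + x 0 * 0 * y 1 + x 0 * -1 * y 2 + x 0 * 0 * y 3 + x 0 * 0 * y 4 + x 0 * 0 * y 5 + x 0 * 0 * y 6 + x 0 * 0 * y 7 +
    (x 1 * 0 * y 0 + x 1 * 2 * y 1 + x 1 * 0 * y 2 + x 1 * -1 * y 3 + x 1 * 0 * y 4 + x 1 * 0 * y 5 + x 1 * 0 * y 6 + x 1 * 0 * y 7) +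
    (x 2 * -1 * y 0 + x 2 * 0 * y 1 + x 2 * 2 * y 2 + x 2 * -1 * y 3 + x 2 * 0 * y 4 + x 2 * 0 * y 5 + x 2 * 0 * y 6 + x 2 * 0 * y 7) +
    (x 3 * 0 * y 0 + x 3 * -1 * y 1 + x 3 * -1 * y 2 + x 3 * 2 * y 3 + x 3 * -1 * y 4 + x 3 * 0 * y 5 + x 3 * 0 * y 6 + x 3 * 0 * y 7) +
    (x 4 * 0 * y 0 + x 4 * 0 * y 1 + x 4 * 0 * y 2 + x 4 * -1 * y 3 + x 4 * 2 * y 4 + x 4 * -1 * y 5 + x 4 * 0 * y 6 + x 4 * 0 * y 7) +
    (x 5 * 0 * y 0 + x 5 * 0 * y 1 + x 5 * 0 * y 2 + x 5 * 0 * y 3 + x 5 * -1 * y 4 + x 5 * 2 * y 5 + x 5 * -1 * y 6 + x 5 * 0 * y 7) +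
    (x 6 * 0 * y 0 + x 6 * 0 * y 1 + x 6 * 0 * y 2 + x 6 * 0 * y 3 + x 6 * 0 * y 4 + x 6 * -1 * y 5 + x 6 * 2 * y 6 + x 6 * -1 * y 7) +
    (x 7 * 0 * y 0 + x 7 * 0 * y 1 + x 7 * 0 * y 2 + x 7 * 0 * y 3 + x 7 * 0 * y 4 + x 7 * 0 * y 5 + x 7 * -1 * y 6 + x 7 * 2 * y 7) =
    x 0 * (y 0 + y 0 - y 2) + (x 1 * (y 1 + y 1 - y 3) + (x 2 * (y 2 + y 2 - (y 0 + y 3)) +
    (x 3 * (y 3 + y 3 - (y 1 + (y 2 + y 4))) + (x 4 * (y 4 + y 4 - (y 3 + y 5)) + (x 5 * (y 5 + y 5 - (y 4 + y 6)) +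
    (x 6 * (y 6 + y 6 - (y 5 + y 7)) + x 7 * (y 7 + y 7 - y 6)))))))
  ring
end Cfsg.Agent

namespace Cfsg.Agent.H90F

private noncomputable def alf (n : ℕ) (p : Fin n → Bool) : Bool := List.rec true (fun a _ ih => Bool.rec false ih (p a)) (List.finRange n)

private theorem alf_of {n : ℕ} {p : Fin n → Bool} (h : alf n p = true) (a : Fin n) : p a = true := by
  have h1 : ∀ l : List (Fin n), (List.rec true (fun a _ ih => Bool.rec false ih (p a)) l : Bool) = true → ∀ a ∈ l, p a = true := by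
    intro l
    induction l with
    | nil => intro _ a ha; cases ha
    | cons b l ih =>
      intro h2 a ha
      cases hb : p b
      · simp only [hb] at h2; cases h2
      · simp only [hb] at h2
        rcases List.mem_cons.1 ha with rfl | ha
        · exact hb
        · exact ih h2 a ha
  exact h1 _ h a (List.mem_finRange a)

private noncomputable def frc {α : Type} (x : ℕ) (f : ℕ → α) : α := Nat.rec (f 0) (fun k _ => f (Nat.succ k)) x

private theorem frc_eq {α : Type} (x : ℕ) (f : ℕ → α) : frc x f = f x := by cases x <;> rfl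

private noncomputable def nth {α : Type} (d : α) (l : List α) : ℕ → α :=
  List.rec (fun _ => d) (fun a _ ih n => Nat.rec a (fun k _ => ih k) n) l

private theorem nth_eq {α : Type} (d : α) (l : List α) (n : ℕ) : nth d l n = l.getD n d := by
  induction l generalizing n with
  | nil => rfl
  | cons a l ih => cases n with
    | zero => rfl
    | succ k => exact ih k

private theorem nth_arr {α : Type} (d : α) (a : Array α) (n : ℕ) : a.getD n d = nth d a.toList n := by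
  rw [nth_eq, List.getD_eq_getElem?_getD, Array.getD_eq_getD_getElem?, Array.getElem?_toList]

private noncomputable def row (D : Cfsg.Lie.ChevalleyDatum) (r : ℕ) : List (ℕ × Array (ℕ × ℤ)) := (nth #[] D.chain.toList r).toList

private noncomputable def fnd (s : ℕ) (l : List (ℕ × Array (ℕ × ℤ))) : List (ℕ × ℤ) :=
  List.rec [] (fun e _ ih => Bool.rec ih e.2.toList (Nat.beq e.1 s)) l

private theorem ce_eq0 (D : Cfsg.Lie.ChevalleyDatum) (r s : ℕ) : D.chainEntry r s = fnd s (row D r) := by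
  unfold Cfsg.Lie.ChevalleyDatum.chainEntry row
  rw [nth_arr]
  generalize (nth #[] D.chain.toList r).toList = l
  induction l with
  | nil => rfl
  | cons e l ih =>
    show _ = (Bool.rec (fnd s l) e.2.toList (Nat.beq e.1 s) : List (ℕ × ℤ))
    by_cases h : e.1 = s
    · rw [List.find?_cons_of_pos (by simpa using h), Nat.beq_eq.mpr h]
    · rw [List.find?_cons_of_neg (by simpa using h), ih, Bool.eq_false_iff.2 fun h1 => h (Nat.eq_of_beq_eq_true h1)]

private noncomputable def fce (D : Cfsg.Lie.ChevalleyDatum) (r s : ℕ) : List (ℕ × ℤ) := frc r fun r => frc s fun s => fnd s (row D r)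

private theorem ce_eq (D : Cfsg.Lie.ChevalleyDatum) : D.chainEntry = fce D := by
  funext r s
  rw [fce, frc_eq, frc_eq, ce_eq0]

private noncomputable def fcr (D : Cfsg.Lie.ChevalleyDatum) (r s i : ℕ) : Option ℕ := ((fce D r s)[i - 1]?).map Prod.fst

private theorem cr_eq (D : Cfsg.Lie.ChevalleyDatum) : D.chainRoot = fcr D := by
  funext r s i
  rw [fcr, ← ce_eq]; rfl

private noncomputable def fcm (D : Cfsg.Lie.ChevalleyDatum) (r s i : ℕ) : ℤ := (((fce D r s)[i - 1]?).map Prod.snd).getD 0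

private theorem cm_eq (D : Cfsg.Lie.ChevalleyDatum) : D.chainM = fcm D := by
  funext r s i
  rw [fcm, ← ce_eq]; rfl

private noncomputable def gct (cr : ℕ → ℕ → ℕ → Option ℕ) (cm : ℕ → ℕ → ℕ → ℤ) (r s : ℕ) : List (ℕ × ℤ × ℕ × ℕ) :=
  ([(cr r s 1, cm r s 1, 1, 1), (cr r s 2, cm r s 2, 2, 1), (cr s r 2, cm s r 2, 1, 2), (cr r s 3, cm r s 3, 3, 1),
      (cr s r 3, - cm s r 3, 1, 3),
      ((cr r s 3).bind fun k => cr k s 1, ((cr r s 1).map fun k => cm k r 2 / 3).getD 0, 3, 2),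
      ((cr s r 3).bind fun k => cr k r 1, ((cr r s 1).map fun k => -2 * cm k s 2 / 3).getD 0, 2, 3)] :
    List (Option ℕ × ℤ × ℕ × ℕ)).filterMap fun c => c.1.map fun k => (k, c.2)

private theorem gct_eq (D : Cfsg.Lie.ChevalleyDatum) (r s : ℕ) : D.commTerms r s = gct (fcr D) (fcm D) r s := by
  rw [← cr_eq, ← cm_eq]; rfl

private noncomputable def msk (l : List (ℕ × Array (ℕ × ℤ))) : ℕ := List.rec 0 (fun e _ ih => Nat.lor ih (Nat.shiftLeft 1 e.1)) l

private theorem fnd_nil {s : ℕ} {l : List (ℕ × Array (ℕ × ℤ))} (h : (msk l).testBit s = false) : fnd s l = [] := by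
  induction l with
  | nil => rfl
  | cons e l ih =>
    have h1 : (msk l ||| 1 <<< e.1).testBit s = false := h
    rw [Nat.testBit_or, Bool.or_eq_false_iff, Nat.one_shiftLeft, Nat.testBit_two_pow] at h1
    show (Bool.rec (fnd s l) e.2.toList (Nat.beq e.1 s) : List (ℕ × ℤ)) = []
    rw [Bool.eq_false_iff.2 fun h2 => of_decide_eq_false h1.2 (Nat.eq_of_beq_eq_true h2)]
    exact ih h1.1

private noncomputable def fc2 (D : Cfsg.Lie.ChevalleyDatum) (r s : ℕ) : List (ℕ × ℤ) → List (ℕ × ℤ) → List (ℕ × ℤ × ℕ × ℕ)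
  | [x], [_] => [(x.1, x.2, 1, 1)]
  | _, _ => gct (fcr D) (fcm D) r s

private noncomputable def fct (D : Cfsg.Lie.ChevalleyDatum) (r s : ℕ) : List (ℕ × ℤ × ℕ × ℕ) :=
  frc r fun r => frc s fun s =>
    Bool.rec (fc2 D r s (fnd s (row D r)) (fnd r (row D s))) []
      (Nat.beq (Nat.land (Nat.lor (Nat.shiftRight (msk (row D r)) s) (Nat.shiftRight (msk (row D s)) r)) 1) 0)

private theorem ct_eq (D : Cfsg.Lie.ChevalleyDatum) : D.commTerms = fct D := by
  funext r s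
  rw [fct, frc_eq, frc_eq]
  cases h : Nat.beq (Nat.land (Nat.lor (Nat.shiftRight (msk (row D r)) s) (Nat.shiftRight (msk (row D s)) r)) 1) 0
  · show _ = fc2 D r s _ _
    rw [← ce_eq0, ← ce_eq0]
    unfold fc2
    split
    · rename_i h1 h2
      unfold Cfsg.Lie.ChevalleyDatum.commTerms Cfsg.Lie.ChevalleyDatum.chainRoot Cfsg.Lie.ChevalleyDatum.chainM
      rw [h1, h2]; rfl
    · exact gct_eq D r s
  · have h1 : ((msk (row D r) >>> s ||| msk (row D s) >>> r)).testBit 0 = false := by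
      have h2 : (msk (row D r) >>> s ||| msk (row D s) >>> r) &&& 1 = 0 := Nat.eq_of_beq_eq_true h
      rw [Nat.and_one_is_mod] at h2
      rw [Nat.testBit_zero, h2]; rfl
    rw [Nat.testBit_or, Bool.or_eq_false_iff, Nat.testBit_shiftRight, Nat.testBit_shiftRight, Nat.add_zero, Nat.add_zero] at h1
    show _ = []
    unfold Cfsg.Lie.ChevalleyDatum.commTerms Cfsg.Lie.ChevalleyDatum.chainRoot Cfsg.Lie.ChevalleyDatum.chainM
    rw [ce_eq0 D r s, ce_eq0 D s r, fnd_nil h1.1, fnd_nil h1.2]; rfl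

private noncomputable def fng (D : Cfsg.Lie.ChevalleyDatum) (r : ℕ) : ℕ := frc r (nth 0 D.negIdx.toList)

private theorem ng_eq (D : Cfsg.Lie.ChevalleyDatum) : D.neg = fng D := by
  funext r
  rw [fng, frc_eq]
  exact nth_arr _ _ _

private noncomputable def cz (D : Cfsg.Lie.ChevalleyDatum) (r s : ℕ) (l : List (ℕ × ℤ × ℕ × ℕ)) : Bool :=
  frc r fun r => frc s fun s => Bool.rec (Bool.rec (decide (fct D r s = l)) false (Nat.beq s (fng D r))) false (Nat.beq s r)

private theorem cz_of {D : Cfsg.Lie.ChevalleyDatum} {r s : ℕ} {l : List (ℕ × ℤ × ℕ × ℕ)} (h : cz D r s l = true) :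
    s ≠ r ∧ s ≠ D.neg r ∧ D.commTerms r s = l := by
  rw [cz, frc_eq, frc_eq] at h
  rw [ct_eq, ng_eq]
  cases h1 : Nat.beq s r
  · cases h2 : Nat.beq s (fng D r)
    · rw [h1, h2] at h
      exact ⟨Nat.ne_of_beq_eq_false h1, Nat.ne_of_beq_eq_false h2, of_decide_eq_true h⟩
    · rw [h1, h2] at h; cases h
  · rw [h1] at h; cases h

private noncomputable def ore {n : ℕ} (a b : Fin n) (x : Bool) : Bool := Bool.rec x true (Nat.beq a b)

private theorem ore_of {n : ℕ} {a b : Fin n} {x : Bool} (h : ore a b x = true) (hab : a ≠ b) : x = true := by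
  rwa [ore, Bool.eq_false_iff.2 fun h1 => hab (Fin.ext (Nat.eq_of_beq_eq_true h1))] at h

private theorem rtb_of {D : Cfsg.Lie.ChevalleyDatum} {n : ℕ} {r : Fin n → Fin n → ℕ} {s : Fin n → Fin n → ℤ}
    (h : (alf n fun a => alf n fun b => ore a b (alf n fun c => ore b c (ore a c
      (cz D (r a b) (r b c) [(r a c, s a b * s b c * s a c, 1, 1)])))) = true) : Cfsg.Agent.TitsThree.KExcRT.RTb D r s := fun a b c h1 =>
  cz_of (ore_of (ore_of (alf_of (ore_of (alf_of (alf_of h a) b) h1.1) c) h1.2.1) h1.2.2)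

private theorem rtc_of {D : Cfsg.Lie.ChevalleyDatum} {n : ℕ} {r : Fin n → Fin n → ℕ}
    (h : (alf n fun a => alf n fun b => ore a b (alf n fun c => ore b c (alf n fun d => ore c d (ore a d
      (ore a c (cz D (r a b) (r c d) []) && ore b d (cz D (r a b) (r c d) [])))))) = true) : Cfsg.Agent.TitsThree.KExcRT.RTc D r := fun a b c d h1 => by
  have h2 := Bool.and_eq_true_iff.1
    (ore_of (ore_of (alf_of (ore_of (alf_of (ore_of (alf_of (alf_of h a) b) h1.1) c) h1.2.2.1) d) h1.2.1) h1.2.2.2.1)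
  by_cases h3 : a = c
  · exact cz_of (ore_of h2.2 fun h4 => h1.2.2.2.2 ⟨h3, h4⟩)
  · exact cz_of (ore_of h2.1 h3)

end Cfsg.Agent.H90F

-- part: H958/L34/Tab5
section
/-!
# S5917 (`L₃(4)` in `E₈(2)`), the element of order 5: the tables of `A₄A₄` (helper958)

* `a5 k i j` : the root `e_i - e_j` of the component `k` (index `240` for `i = j`);
* `J k M` : the element of the Lie algebra with the matrix `M` (of trace zero) in the component `k`.
-/

set_option autoImplicit false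
set_option linter.unusedSectionVars false
set_option maxRecDepth 100000

namespace Cfsg.Agent.H958.L34

open Cfsg Cfsg.Lie Cfsg.Lie.ChevalleyDatum
open Cfsg.Agent.H939.L64
open Cfsg.Agent.H413.L64
open Cfsg.Agent.H413.L16
open Cfsg.Agent.H876.L64
open Cfsg.Agent.H201.L34

/-- the root `e_i - e_j` of the component `k` -/
def a5 : Fin 2 → Fin 5 → Fin 5 → ℕ :=
  ![![![240, 162, 163, 164, 169], ![77, 240, 135, 136, 147], ![76, 104, 240, 130, 142], ![75, 103, 109, 240, 141],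
      ![70, 92, 97, 98, 240]],
    ![![240, 0, 1, 2, 3], ![239, 240, 120, 122, 125], ![238, 119, 240, 121, 124], ![237, 117, 118, 240, 123],
      ![236, 114, 115, 116, 240]]]

/-- the partial sums of the diagonal -/
noncomputable def ps (M : Matrix (Fin 5) (Fin 5) KK) : Fin 4 → KK :=
  ![M 0 0, M 0 0 + M 1 1, M 0 0 + M 1 1 + M 2 2, M 0 0 + M 1 1 + M 2 2 + M 3 3]

/-- the element with the matrix `M` in the component `k` -/
noncomputable def J (k : Fin 2) (M : Matrix (Fin 5) (Fin 5) KK) : LK :=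
  (∑ i, ∑ j, M i j • er (a5 k i j)) + ∑ i : Fin 4, ps M i • hr (a5 k i.castSucc i.succ)

theorem J_add (k : Fin 2) (M N : Matrix (Fin 5) (Fin 5) KK) : J k (M + N) = J k M + J k N := by
  have h : ps (M + N) = ps M + ps N := by
    funext i
    (revert i; simp only [ps, _root_.Fin.forall_fin_succ, Fin.isValue, _root_.Matrix.add_apply, _root_.Pi.add_apply, _root_.Matrix.cons_val_zero, _root_.Matrix.cons_val_succ, _root_.Matrix.cons_val_fin_one, _root_.forall_const, _root_.true_and]) <;> (repeat' with_reducible apply And.intro) <;> ring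
  unfold J
  rw [h]
  simp only [Matrix.add_apply, Pi.add_apply, add_smul, Finset.sum_add_distrib]
  abel

end Cfsg.Agent.H958.L34
end

-- part: H159/L34/Kac5
section
/-!
# S5917: an element of order 5 of `E₈(2)` with a fixed space of dimension 48 is of type `A₄A₄`
-/

set_option autoImplicit false
set_option linter.unusedSectionVars false
set_option maxRecDepth 100000

namespace Cfsg.Agent.H159.L34

open Cfsg Cfsg.Lie Cfsg.Lie.ChevalleyDatum
open Cfsg.Agent.ChevalleyStructure Cfsg.Agent.ChevalleyStructure.CoxeterGeomTypes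
open Cfsg.Agent.H942.E8Tab (e8T)
open Cfsg.Agent.H944.RootVals Cfsg.Agent.H944.Kac Cfsg.Agent.H944.Tab
open Cfsg.Agent.H943.E8Tab (R8 th8 check2 alcove8 count_eq_sum sum_vecOf vecOf)
open Cfsg.Agent.H943.RepAdd (eig)
open Cfsg.Agent.H939.L64
open Cfsg.Agent.H413.L64
open Cfsg.Agent.H259.L34

/-- value 1 on the node with mark 5, 0 on the other nodes -/
def v5 : Fin 8 → ZMod 5 := ![0, 0, 0, 0, 1, 0, 0, 0]

private theorem _root_.Cfsg.Agent.KOa39ee9c.e0.{ku, kv} {α : Type kv} {M : List α → Sort ku} (φ : ∀ l, M l) {z : M List.nil} {s : ∀ a l, M l → M (List.cons a l)} (h0 : φ List.nil = z) (hs : ∀ a l, φ (List.cons a l) = s a l (φ l)) (l : List α) : φ l = @List.rec α M z s l := List.rec h0 (fun a l ih => (hs a l).trans (congrArg (s a l) ih)) l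
private noncomputable def _root_.Cfsg.Agent.KOa39ee9c.k1.{ku0} : type_of% @List.all.{ku0} := @(fun x0 x1 x2 => @List.rec.{(ku0+1), ku0} @x0 @(fun x3 => (@x0 → @Bool) → @Bool) @(fun x3 => @Bool.true) @(fun x3 x4 x5 x6 => @Bool.rec.{1} @(fun x7 => @Bool) @Bool.false (@x5 @x6) (@x6 @x3)) @x1 @x2)
private theorem _root_.Cfsg.Agent.KOa39ee9c.e1.{ku0} : @List.all.{ku0} = @_root_.Cfsg.Agent.KOa39ee9c.k1.{ku0} := by delta _root_.Cfsg.Agent.KOa39ee9c.k1; funext a0 a1 a2; refine (congrFun (_root_.Cfsg.Agent.KOa39ee9c.e0 (fun a1 a2 => @List.all.{ku0} a0 a1 a2) ?_ (fun c0 c1 => ?_) a1) a2 :) <;> (rfl')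
private theorem _root_.Cfsg.Agent.KOa39ee9c.e2.{ku} {M : Nat → Sort ku} (φ : ∀ n, M n) {z : M Nat.zero} {s : ∀ n, M n → M (Nat.succ n)} (h0 : φ Nat.zero = z) (hs : ∀ n, φ (Nat.succ n) = s n (φ n)) (n : Nat) : φ n = @Nat.rec M z s n := Nat.rec h0 (fun n ih => (hs n).trans (congrArg (s n) ih)) n
private noncomputable def _root_.Cfsg.Agent.KOa39ee9c.k3 : type_of% @List.range.loop := @(fun x0 x1 => @Nat.rec.{1} @(fun x2 => (@List.{0} ℕ) → @List.{0} ℕ) @(fun x2 => @x2) @(fun x2 x3 x4 => @x3 (@x2 :: @x4)) @x0 @x1)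
private theorem _root_.Cfsg.Agent.KOa39ee9c.e3 : @List.range.loop = @_root_.Cfsg.Agent.KOa39ee9c.k3 := by delta _root_.Cfsg.Agent.KOa39ee9c.k3; funext a0 a1; refine (congrFun (_root_.Cfsg.Agent.KOa39ee9c.e2 (fun a0 a1 => @List.range.loop a0 a1) ?_ (fun c0 => ?_) a0) a1 :) <;> (rfl')
private noncomputable def _root_.Cfsg.Agent.KOa39ee9c.k4 : (by first | exact type_of% @Cfsg.Agent.H944.Tab.allAlc | exact Unit : Sort _) := by first | (refine @Subtype.val _ (fun g => @Cfsg.Agent.H944.Tab.allAlc = @g) (@Subtype.mk _ _ (@(fun x0 x1 x2 => @List.rec.{1, 0} ℕ @(fun x3 => ℕ → ((@List.{0} ℕ) → @Bool) → @Bool) @(fun x3 x4 => @x4 []) @(fun x3 x4 x5 x6 x7 => @Cfsg.Agent.KOa39ee9c.k1.{0} _ (@Cfsg.Agent.KOa39ee9c.k3 (@Nat.add (@Nat.div @x6 @x3) (nat_lit 1)) []) @(fun x8 => @x5 (@Nat.sub @x6 (@Nat.mul @x3 @x8)) @(fun x9 => @x7 (@x8 :: @x9)))) @x0 @x1 @x2)) ?_); rewrite [← Cfsg.Agent.KOa39ee9c.e3, ← Cfsg.Agent.KOa39ee9c.e1.{0}]; funext a0 a1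 a2; refine (congrFun (congrFun (_root_.Cfsg.Agent.KOa39ee9c.e0 (fun a0 a1 a2 => @Cfsg.Agent.H944.Tab.allAlc a0 a1 a2) ?_ (fun c0 c1 => ?_) a0) a1) a2 :) <;> (rfl')) | exact @Cfsg.Agent.H944.Tab.allAlc | exact ()
private theorem _root_.Cfsg.Agent.KOa39ee9c.e4 : (by first | exact @Cfsg.Agent.H944.Tab.allAlc = @_root_.Cfsg.Agent.KOa39ee9c.k4 | exact True : Prop) := by first | (delta _root_.Cfsg.Agent.KOa39ee9c.k4; exact @Subtype.property _ (fun g => @Cfsg.Agent.H944.Tab.allAlc = @g) _) | rfl | trivial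
private noncomputable def _root_.Cfsg.Agent.KOa39ee9c.k5 : type_of% @Bool.or := @(fun x0 x1 => @Bool.rec.{1} @(fun x2 => @Bool) @x1 @Bool.true @x0)
private theorem _root_.Cfsg.Agent.KOa39ee9c.e5 : @Bool.or = @_root_.Cfsg.Agent.KOa39ee9c.k5 := by delta _root_.Cfsg.Agent.KOa39ee9c.k5; rfl'
private noncomputable def _root_.Cfsg.Agent.KOa39ee9c.k6.{ku0} : type_of% @bne.{ku0} := @(fun x0 x1 x2 x3 => @Bool.rec.{1} @(fun x4 => @Bool) @Bool.true @Bool.false (@BEq.beq.{ku0} _ @x1 @x2 @x3))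
private theorem _root_.Cfsg.Agent.KOa39ee9c.e6.{ku0} : @bne.{ku0} = @_root_.Cfsg.Agent.KOa39ee9c.k6.{ku0} := by delta _root_.Cfsg.Agent.KOa39ee9c.k6; rfl'
private noncomputable def _root_.Cfsg.Agent.KOa39ee9c.k7 : type_of% @Nat.decEq := @(fun x0 x1 => @Bool.rec.{1} @(fun x2 => (@Eq.{1} _ (@Nat.beq @x0 @x1) @x2) → @Decidable (@Eq.{1} _ @x0 @x1)) @(fun x2 => @Decidable.isFalse _ (@Nat.ne_of_beq_eq_false _ _ @x2)) @(fun x2 => @Decidable.isTrue _ (@Nat.eq_of_beq_eq_true _ _ @x2)) (@Nat.beq @x0 @x1) (@Eq.refl.{1} _ (@Nat.beq @x0 @x1)))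
private theorem _root_.Cfsg.Agent.KOa39ee9c.e7 : @Nat.decEq = @_root_.Cfsg.Agent.KOa39ee9c.k7 := by delta _root_.Cfsg.Agent.KOa39ee9c.k7; rfl'
private noncomputable def _root_.Cfsg.Agent.KOa39ee9c.k8 : type_of% @instDecidableEqNat := @Cfsg.Agent.KOa39ee9c.k7
private theorem _root_.Cfsg.Agent.KOa39ee9c.e8 : @instDecidableEqNat = @_root_.Cfsg.Agent.KOa39ee9c.k8 := by delta _root_.Cfsg.Agent.KOa39ee9c.k8; rewrite [← Cfsg.Agent.KOa39ee9c.e7]; rfl'
private noncomputable def _root_.Cfsg.Agent.KOa39ee9c.k9.{ku0, ku1} : type_of% @List.foldr.{ku0, ku1} := @(fun x0 x1 x2 x3 x4 => @List.rec.{(ku1+1), ku0} @x0 @(fun x5 => @x1) @x3 @(fun x5 x6 x7 => @x2 @x5 @x7) @x4)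
private theorem _root_.Cfsg.Agent.KOa39ee9c.e9.{ku0, ku1} : @List.foldr.{ku0, ku1} = @_root_.Cfsg.Agent.KOa39ee9c.k9.{ku0, ku1} := by delta _root_.Cfsg.Agent.KOa39ee9c.k9; funext a0 a1 a2 a3 a4; refine (_root_.Cfsg.Agent.KOa39ee9c.e0 (fun a4 => @List.foldr.{ku0, ku1} a0 a1 a2 a3 a4) ?_ (fun c0 c1 => ?_) a4 :) <;> (rfl')
private noncomputable def _root_.Cfsg.Agent.KOa39ee9c.k10.{ku0, ku1} : type_of% @List.map.{ku0, ku1} := @(fun x0 x1 x2 x3 => @List.rec.{(ku1+1), ku0} @x0 @(fun x4 => @List.{ku1} @x1) [] @(fun x4 x5 x6 => (@x2 @x4) :: @x6) @x3)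
private theorem _root_.Cfsg.Agent.KOa39ee9c.e10.{ku0, ku1} : @List.map.{ku0, ku1} = @_root_.Cfsg.Agent.KOa39ee9c.k10.{ku0, ku1} := by delta _root_.Cfsg.Agent.KOa39ee9c.k10; funext a0 a1 a2 a3; refine (_root_.Cfsg.Agent.KOa39ee9c.e0 (fun a3 => @List.map.{ku0, ku1} a0 a1 a2 a3) ?_ (fun c0 c1 => ?_) a3 :) <;> (rfl')
private noncomputable def _root_.Cfsg.Agent.KOa39ee9c.k11 : type_of% @Int.decEq := @(fun x0 x1 => @Int.rec.{1} @(fun x2 => @Decidable (@Eq.{1} _ @x2 @x1)) @(fun x2 => @Int.rec.{1} @(fun x3 => @Decidable (@Eq.{1} _ (@Int.ofNat @x2) @x3)) @(fun x3 => @Decidable.rec.{1} _ @(fun x4 => @Decidable (@Eq.{1} _ (@Int.ofNat @x2) (@Int.ofNat @x3))) @(fun x4 => @Decidable.isFalse _ (@Int.decEq._proof_2 @x2 @x3 @x4)) @(fun x4 => @Decidable.isTrue _ (@Int.decEq._proof_1 @x2 @x3 @x4)) (@Cfsg.Agent.KOa39ee9c.k7 @x2 @x3)) @(fun x3 => @Decidable.isFalse _ (@Int.decEq._proof_3 @x2 @x3)) @x1) @(fun x2 => @Int.rec.{1} @(fun x3 => @Decidable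 (@Eq.{1} _ (@Int.negSucc @x2) @x3)) @(fun x3 => @Decidable.isFalse _ (@Int.decEq._proof_4 @x2 @x3)) @(fun x3 => @Decidable.rec.{1} _ @(fun x4 => @Decidable (@Eq.{1} _ (@Int.negSucc @x2) (@Int.negSucc @x3))) @(fun x4 => @Decidable.isFalse _ (@Int.decEq._proof_6 @x2 @x3 @x4)) @(fun x4 => @Decidable.isTrue _ (@Int.decEq._proof_5 @x2 @x3 @x4)) (@Cfsg.Agent.KOa39ee9c.k7 @x2 @x3)) @x1) @x0)
private theorem _root_.Cfsg.Agent.KOa39ee9c.e11 : @Int.decEq = @_root_.Cfsg.Agent.KOa39ee9c.k11 := by delta _root_.Cfsg.Agent.KOa39ee9c.k11; rewrite [← Cfsg.Agent.KOa39ee9c.e7]; rfl'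
private noncomputable def _root_.Cfsg.Agent.KOa39ee9c.k12 : type_of% @instDecidableEqFin := @(fun x0 x1 x2 => @Decidable.rec.{1} _ @(fun x3 => @Decidable (@Eq.{1} _ @x1 @x2)) @(fun x3 => @Decidable.isFalse _ (@instDecidableEqFin._proof_1 @x0 @x1 @x2 @x3)) @(fun x3 => @Decidable.isTrue _ (@Fin.eq_of_val_eq _ _ _ @x3)) (@Cfsg.Agent.KOa39ee9c.k7 (@Fin.val _ @x1) (@Fin.val _ @x2)))
private theorem _root_.Cfsg.Agent.KOa39ee9c.e12 : @instDecidableEqFin = @_root_.Cfsg.Agent.KOa39ee9c.k12 := by delta _root_.Cfsg.Agent.KOa39ee9c.k12; rewrite [← Cfsg.Agent.KOa39ee9c.e7]; rfl'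
private noncomputable def _root_.Cfsg.Agent.KOa39ee9c.k14 : (by first | exact type_of% @Cfsg.Agent.H944.Tab.dotN | exact Unit : Sort _) := by first | (refine @Subtype.val _ (fun g => @Cfsg.Agent.H944.Tab.dotN = @g) (@Subtype.mk _ _ (@(fun x0 x1 => @List.rec.{1, 0} ℕ @(fun x2 => (@List.{0} ℕ) → ℕ) @(fun x2 => nat_lit 0) @(fun x2 x3 x4 x5 => @List.rec.{1, 0} ℕ @(fun x6 => ((@Nat.hasNotBit (nat_lit 2) (@List.ctorIdx.{0} _ @x6)) → ℕ) → ℕ) @(fun x6 => @x6 (@Nat.ne_of_beq_eq_false _ _ (@Eq.refl.{1} _ @Bool.false))) @(fun x6 x7 x8 x9 => @Nat.add (@Nat.mul @x2 @x6) (@x4 @x7)) @x5 @(fun x6 => nat_lit 0)) @x0 @x1)) ?_); funext a0 a1; refine (congrFun (_root_.Cfsg.Agent.KOa39ee9c.e0 (fun a0 a1 => @Cfsg.Agent.H944.Tab.dotN a0 a1) ?_ (fun c0 c1 => ?_) a0) a1 :) <;> [(funext b0; (rfl')); (funext b0; (cases b0 with | @nil  => (rfl') | @cons b0_0 b0_1 => (rfl')))]) | exact @Cfsg.Agent.H944.Tab.dotN | exact ()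
private theorem _root_.Cfsg.Agent.KOa39ee9c.e14 : (by first | exact @Cfsg.Agent.H944.Tab.dotN = @_root_.Cfsg.Agent.KOa39ee9c.k14 | exact True : Prop) := by first | (delta _root_.Cfsg.Agent.KOa39ee9c.k14; exact @Subtype.property _ (fun g => @Cfsg.Agent.H944.Tab.dotN = @g) _) | rfl | trivial
private noncomputable def _root_.Cfsg.Agent.KOa39ee9c.k16 : (by first | exact type_of% @Cfsg.Agent.H259.L34.cz | exact Unit : Sort _) := by first | (refine @Subtype.val _ (fun g => @Cfsg.Agent.H259.L34.cz = @g) (@Subtype.mk _ _ (@(fun x0 x1 x2 => @Cfsg.Agent.KOa39ee9c.k9.{0, 0} _ _ @(fun x3 x4 => @Nat.add @x3 @x4) (nat_lit 0) (@Cfsg.Agent.KOa39ee9c.k10.{0, 0} _ _ @(fun x3 => @Nat.add (@Decidable.rec.{1} _ @(fun x4 => ℕ) @(fun x4 => nat_lit 0) @(fun x4 => nat_lit 1) (@Nat.rec.{1} @(fun x4 => @DecidableEq.{1} (@ZMod @x4)) @Cfsg.Agent.KOa39ee9c.k11 @(fun x4 x5 => @Cfsg.Agent.KOa39ee9c.k12 (@Nat.add @x4 (nat_lit 1))) @x0 (@Nat.rec.{1} @(fun x4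 => ℕ → @ZMod @x4) @(fun x4 => @Int.ofNat @x4) @(fun x4 x5 x6 => @Fin.mk _ (@Nat.mod @x6 (@Nat.succ @x4)) (@Fin.ofNat._proof_1 (@Nat.succ @x4) _ @x6)) @x0 (@Cfsg.Agent.KOa39ee9c.k14 @x3 @x1)) @x2)) (@Decidable.rec.{1} _ @(fun x4 => ℕ) @(fun x4 => nat_lit 0) @(fun x4 => nat_lit 1) (@Nat.rec.{1} @(fun x4 => @DecidableEq.{1} (@ZMod @x4)) @Cfsg.Agent.KOa39ee9c.k11 @(fun x4 x5 => @Cfsg.Agent.KOa39ee9c.k12 (@Nat.add @x4 (nat_lit 1))) @x0 (@Nat.rec.{1} @(fun x4 => (@ZMod @x4) → @ZMod @x4) @Int.neg @(fun x4 x5 x6 => @Fin.mk _ (@Nat.mod (@Nat.sub (@Nat.succ @x4) (@Fin.val _ @x6)) (@Nat.succ @x4)) (@Fin.neg._proof_1 (@Nat.succ @x4) @x6)) @x0 (@Nat.rec.{1} @(fun x4 => ℕ → @ZMod @x4) @(fun x4 => @Int.ofNat @x4) @(fun x4 x5 x6 => @Fin.mk _ (@Nat.mod @x6 (@Nat.succ @x4)) (@Fin.ofNat._proof_1 (@Nat.succ @x4) _ @x6)) @x0 (@Cfsg.Agent.KOa39ee9c.k14 @x3 @x1))) @x2))) @Cfsg.Agent.H943.E8Tab.R8))) ?_); rewrite [← Cfsg.Agent.KOa39ee9c.e14, ← Cfsg.Agent.KOa39ee9c.e12,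 ← Cfsg.Agent.KOa39ee9c.e11, ← Cfsg.Agent.KOa39ee9c.e10.{0, 0}, ← Cfsg.Agent.KOa39ee9c.e9.{0, 0}]; (try delta Cfsg.Agent.H259.L34.cz); (try generalize @Cfsg.Agent.H944.Tab.dotN = g0); (try generalize @Cfsg.Agent.H943.E8Tab.R8 = g1); rfl') | exact @Cfsg.Agent.H259.L34.cz | exact ()
private theorem _root_.Cfsg.Agent.KOa39ee9c.e16 : (by first | exact @Cfsg.Agent.H259.L34.cz = @_root_.Cfsg.Agent.KOa39ee9c.k16 | exact True : Prop) := by first | (delta _root_.Cfsg.Agent.KOa39ee9c.k16; exact @Subtype.property _ (fun g => @Cfsg.Agent.H259.L34.cz = @g) _) | rfl | trivial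

theorem chk5v : allAlc th8 5 (fun y => cz 5 y 0 != 40 || y == [0, 0, 0, 0, 1, 0, 0, 0]) = true := by
  (first | (rewrite [Cfsg.Agent.KOa39ee9c.e4, Cfsg.Agent.KOa39ee9c.e5, Cfsg.Agent.KOa39ee9c.e6.{0}, Cfsg.Agent.KOa39ee9c.e8, Cfsg.Agent.KOa39ee9c.e16]; decide +kernel) | decide +kernel)

theorem vec5 : vecOf 5 [0, 0, 0, 0, 1, 0, 0, 0] = v5 := by
  funext i
  unfold vecOf v5
  (revert i; simp only [_root_.Fin.forall_fin_succ, _root_.List.getD_eq_getElem?_getD, _root_.List.length_cons, _root_.List.length_nil, _root_.zero_add, Nat.reduceAdd, _root_.Fin.is_lt, _root_.getElem?_pos, _root_.Option.getD_some, Fin.isValue, _root_.Fin.coe_ofNat_eq_mod, _root_.Nat.zero_mod, _root_.List.getElem_cons_zero, _root_.Nat.cast_zero, _root_.Matrix.cons_val_zero, _root_.Fin.val_succ, _root_.List.getElem_cons_succ, _root_.Matrix.cons_val_succ, _root_.Nat.cast_one, _root_.Fin.val_eq_zero, _root_.Matrix.cons_val_fin_one, _root_.implies_true, _root_.and_self])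

/-- **Kac, order 5** -/
theorem kac5 {x : E2} (hx : x ^ 5 = 1) (h1 : x ≠ 1) (hd : Module.finrank KK (eig rE x 1) = 48) {ζ : KK}
    (hζ : IsPrimitiveRoot ζ 5) : TorZ x 5 v5 ζ := by
  obtain ⟨v, hv, -, -⟩ := T0c (N := 5) (by decide) hx hζ
  obtain ⟨Y, hYl, hYθ, hY0, hT, hfr, hc⟩ := alc hv h1
  have h2 := allAlc_spec th8 5 _ (by decide) chk5v Y hYl hYθ
  have h3 : cz 5 Y 0 = 40 := by
    have h4 := hc 0
    rw [fix_eq hv, h4, if_pos rfl] at hd
    omega
  simp only [Bool.or_eq_true, bne_iff_ne, ne_eq, h3, not_true_eq_false, false_or, beq_iff_eq] at h2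
  subst h2
  rwa [vec5] at hT

end Cfsg.Agent.H159.L34
end

-- part: H958/L34/Five
section
/-!
# S5917 (`L₃(4)` in `E₈(2)`), the element of order 5: the frame (helper958)

* `g5`, `frame5` : `z⁻¹ x z = t`, `z⁻¹ φ(z) = g5`, `g5` interchanges the two components of type `A₄`;
* `fr_J`, `g5_J0`, `g5_J1` : the actions on the matrices.
-/

set_option autoImplicit false
set_option linter.unusedSectionVars false
set_option maxRecDepth 100000

namespace Cfsg.Agent.H958.L34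

open CoxeterSystem Cfsg Cfsg.Lie Cfsg.Lie.ChevalleyDatum
open Cfsg.Agent.ChevalleyStructure Cfsg.Agent.ChevalleyStructure.Elts Cfsg.Agent.ChevalleyStructure.CoxeterGeom
  Cfsg.Agent.ChevalleyStructure.CoxeterGeomTypes Cfsg.Agent.ChevalleyStructure.NPerm
open Cfsg.Agent.ChevalleyStructure.LieAbs Cfsg.Agent.ChevalleyStructure.LieAut
open Cfsg.Agent.ChevalleyStructure.Columns (car cor)
open Cfsg.Agent.ChevalleyStructure.RootVec (rt)
open Cfsg.Agent.Tits.Roots Cfsg.Agent.Tits.Core Cfsg.Agent.Nodes Cfsg.Agent.Nodes.Reps Cfsg.Agent.Nodes.BNOf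
  Cfsg.Agent.Nodes.RGDChev Cfsg.Agent.Nodes.Bruhat Cfsg.Agent.Nodes.SubComb Cfsg.Agent.Nodes.Coroot
open Cfsg.Agent.KFacts.RgdField Cfsg.Agent.KFacts.RgdChevCoord Cfsg.Agent.BpExc.TorCent Cfsg.Agent.BpExc.TorChev
open Cfsg.Agent.GpExc.Field Cfsg.Agent.BpExc.Tow Cfsg.Agent.BpExc.TowChev Cfsg.Agent.BpExc.Fr
  Cfsg.Agent.BpExc.LangFr Cfsg.Agent.LangThm Cfsg.Agent.BpExc Cfsg.Agent.H129.TorusMain Cfsg.Agent.H129.TorusUntw
open Cfsg.Agent.H129.TorusChar (cX cX_pow cX_one cX_inj isMC_cX cX_root cX_rp cX_mul ch_sigma exists_cX)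
open Cfsg.Agent.H720.TorusReal Cfsg.Agent.H897
open Cfsg.Agent.H897.T5Frame (bc rc bf_eq)
open Cfsg.Agent.H897.T5UntwRow (A8)
open Cfsg.Agent.H378.TorFin (phi_emb' fix_mem)
open Cfsg.Agent.BpExc.RowsUntw (e8T)
open Cfsg.Agent.H939.L64
open Cfsg.Agent.H413.L64
open Cfsg.Agent.H413.L16
open Cfsg.Agent.H876.L64 hiding v5
open Cfsg.Agent.H201.L34
open Cfsg.Agent.H159.L34 (v5)

abbrev M5 : Type := Matrix (Fin 5) (Fin 5) KK

/-- the word of the element of the Weyl group -/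
def L5 : List ℕ := [120, 123, 156, 161, 165, 171, 176, 187]

private noncomputable def _root_.Cfsg.Agent.KOa39ee9c.k17 : type_of% @Bool.and := @(fun x0 x1 => @Bool.rec.{1} @(fun x2 => @Bool) @Bool.false @x1 @x0)
private theorem _root_.Cfsg.Agent.KOa39ee9c.e17 : @Bool.and = @_root_.Cfsg.Agent.KOa39ee9c.k17 := by delta _root_.Cfsg.Agent.KOa39ee9c.k17; rfl'
private noncomputable def _root_.Cfsg.Agent.KOa39ee9c.k18 : type_of% @Decidable.decide := @(fun x0 x1 => @Decidable.rec.{1} _ @(fun x2 => @Bool) @(fun x2 => @Bool.false) @(fun x2 => @Bool.true) @x1)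
private theorem _root_.Cfsg.Agent.KOa39ee9c.e18 : @Decidable.decide = @_root_.Cfsg.Agent.KOa39ee9c.k18 := by delta _root_.Cfsg.Agent.KOa39ee9c.k18; rfl'
private noncomputable def _root_.Cfsg.Agent.KOa39ee9c.k19 : type_of% @Bool.decEq := @(fun x0 x1 => @Bool.rec.{1} @(fun x2 => @Decidable (@Eq.{1} _ @x2 @x1)) (@Bool.rec.{1} @(fun x2 => @Decidable (@Eq.{1} _ @Bool.false @x2)) (@Decidable.isTrue _ (@rfl.{1} _ _)) (@Decidable.isFalse _ @(fun x2 => @Bool.noConfusion.{0} _ _ _ @x2)) @x1) (@Bool.rec.{1} @(fun x2 => @Decidable (@Eq.{1} _ @Bool.true @x2)) (@Decidable.isFalse _ @(fun x2 => @Bool.noConfusion.{0} _ _ _ @x2)) (@Decidable.isTrue _ (@rfl.{1} _ _)) @x1) @x0)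
private theorem _root_.Cfsg.Agent.KOa39ee9c.e19 : @Bool.decEq = @_root_.Cfsg.Agent.KOa39ee9c.k19 := by delta _root_.Cfsg.Agent.KOa39ee9c.k19; rfl'
private noncomputable def _root_.Cfsg.Agent.KOa39ee9c.k20 : type_of% @Nat.decLe := @(fun x0 x1 => @Decidable.rec.{1} _ @(fun x2 => @Decidable (@LE.le.{0} _ _ @x0 @x1)) @(fun x2 => @Decidable.isFalse _ (@Nat.not_le_of_not_ble_eq_true _ _ @x2)) @(fun x2 => @Decidable.isTrue _ (@Nat.le_of_ble_eq_true _ _ @x2)) (@Cfsg.Agent.KOa39ee9c.k19 (@Nat.ble @x0 @x1) @Bool.true))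
private theorem _root_.Cfsg.Agent.KOa39ee9c.e20 : @Nat.decLe = @_root_.Cfsg.Agent.KOa39ee9c.k20 := by delta _root_.Cfsg.Agent.KOa39ee9c.k20; rewrite [← Cfsg.Agent.KOa39ee9c.e19]; rfl'
private noncomputable def _root_.Cfsg.Agent.KOa39ee9c.k21 : type_of% @Nat.decLt := @(fun x0 x1 => @Cfsg.Agent.KOa39ee9c.k20 (@Nat.succ @x0) @x1)
private theorem _root_.Cfsg.Agent.KOa39ee9c.e21 : @Nat.decLt = @_root_.Cfsg.Agent.KOa39ee9c.k21 := by delta _root_.Cfsg.Agent.KOa39ee9c.k21; rewrite [← Cfsg.Agent.KOa39ee9c.e20]; rfl'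
private noncomputable def _root_.Cfsg.Agent.KOa39ee9c.k22 : type_of% @List.range := @(fun x0 => @Cfsg.Agent.KOa39ee9c.k3 @x0 [])
private theorem _root_.Cfsg.Agent.KOa39ee9c.e22 : @List.range = @_root_.Cfsg.Agent.KOa39ee9c.k22 := by delta _root_.Cfsg.Agent.KOa39ee9c.k22; rewrite [← Cfsg.Agent.KOa39ee9c.e3]; rfl'
private noncomputable def _root_.Cfsg.Agent.KOa39ee9c.k23.{ku0} : type_of% @ite.{ku0} := @(fun x0 x1 x2 x3 x4 => @Decidable.rec.{ku0} _ @(fun x5 => @x0) @(fun x5 => @x4) @(fun x5 => @x3) @x2)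
private theorem _root_.Cfsg.Agent.KOa39ee9c.e23.{ku0} : @ite.{ku0} = @_root_.Cfsg.Agent.KOa39ee9c.k23.{ku0} := by delta _root_.Cfsg.Agent.KOa39ee9c.k23; rfl'
private noncomputable def _root_.Cfsg.Agent.KOa39ee9c.k24 : (by first | exact type_of% @Cfsg.Agent.fN | exact Unit : Sort _) := by first | (refine @Subtype.val _ (fun g => @Cfsg.Agent.fN = @g) (@Subtype.mk _ _ (@(fun x0 x1 => @Nat.rec.{1} @(fun x2 => ℕ) (@x1 (nat_lit 0)) @(fun x2 x3 => @x1 (@Nat.succ @x2)) @x0)) ?_); rfl') | exact @Cfsg.Agent.fN | exact ()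
private theorem _root_.Cfsg.Agent.KOa39ee9c.e24 : (by first | exact @Cfsg.Agent.fN = @_root_.Cfsg.Agent.KOa39ee9c.k24 | exact True : Prop) := by first | (delta _root_.Cfsg.Agent.KOa39ee9c.k24; exact @Subtype.property _ (fun g => @Cfsg.Agent.fN = @g) _) | rfl | trivial
private noncomputable def _root_.Cfsg.Agent.KOa39ee9c.k28 : (by first | exact type_of% @Cfsg.Agent.lk | exact Unit : Sort _) := by first | (refine @Subtype.val _ (fun g => @Cfsg.Agent.lk = @g) (@Subtype.mk _ _ (@(fun x0 x1 => @List.rec.{1, 0} (ℕ × (@Array.{0} (ℕ × ℤ))) @(fun x2 => ℕ) (nat_lit 240) @(fun x2 x3 x4 => @Bool.rec.{1} @(fun x5 => ℕ) @x4 (@Prod.fst.{0, 0} _ _ (@Decidable.rec.{1} _ @(fun x5 => ℕ × ℤ) @(fun x5 => (nat_lit 240, @Int.ofNat (nat_lit 0))) @(fun x5 => @List.get.{0} _ (@Array.toList.{0} _ (@Prod.snd.{0, 0} _ _ @x2)) (@Fin.mk _ (nat_lit 0) @x5)) (@Cfsg.Agent.KOa39ee9c.k20 (@Nat.succ (nat_lit 0)) (@List.length.{0} _ (@Array.toList.{0} _ (@Prod.snd.{0,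 0} _ _ @x2)))))) (@Nat.beq (@Prod.fst.{0, 0} _ _ @x2) @x1)) @x0)) ?_); rewrite [← Cfsg.Agent.KOa39ee9c.e20]; rfl') | exact @Cfsg.Agent.lk | exact ()
private theorem _root_.Cfsg.Agent.KOa39ee9c.e28 : (by first | exact @Cfsg.Agent.lk = @_root_.Cfsg.Agent.KOa39ee9c.k28 | exact True : Prop) := by first | (delta _root_.Cfsg.Agent.KOa39ee9c.k28; exact @Subtype.property _ (fun g => @Cfsg.Agent.lk = @g) _) | rfl | trivial
private noncomputable def _root_.Cfsg.Agent.KOa39ee9c.k29 : (by first | exact type_of% @Cfsg.Agent.H413.L16.row | exact Unit : Sort _) := by first | (refine @Subtype.val _ (fun g => @Cfsg.Agent.H413.L16.row = @g) (@Subtype.mk _ _ (@(fun x0 => @Array.toList.{0} _ (@Decidable.rec.{1} _ @(fun x1 => @Array.{0} (ℕ × (@Array.{0} (ℕ × ℤ)))) @(fun x1 => @Array.mk.{0} _ []) @(fun x1 => @List.get.{0} _ (@Array.toList.{0} _ (@Cfsg.Lie.ChevalleyDatum.chain @Cfsg.Lie.chevE8)) (@Fin.mk _ @x0 @x1)) (@Cfsg.Agent.KOa39ee9c.k20 (@Nat.succ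 @x0) (@List.length.{0} _ (@Array.toList.{0} _ (@Cfsg.Lie.ChevalleyDatum.chain @Cfsg.Lie.chevE8))))))) ?_); rewrite [← Cfsg.Agent.KOa39ee9c.e20]; (try delta Cfsg.Agent.H413.L16.row); (try generalize @Cfsg.Lie.chevE8 = g0); rfl') | exact @Cfsg.Agent.H413.L16.row | exact ()
private theorem _root_.Cfsg.Agent.KOa39ee9c.e29 : (by first | exact @Cfsg.Agent.H413.L16.row = @_root_.Cfsg.Agent.KOa39ee9c.k29 | exact True : Prop) := by first | (delta _root_.Cfsg.Agent.KOa39ee9c.k29; exact @Subtype.property _ (fun g => @Cfsg.Agent.H413.L16.row = @g) _) | rfl | trivial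
private noncomputable def _root_.Cfsg.Agent.KOa39ee9c.k30 : (by first | exact type_of% @Cfsg.Agent.mk | exact Unit : Sort _) := by first | (refine @Subtype.val _ (fun g => @Cfsg.Agent.mk = @g) (@Subtype.mk _ _ (@(fun x0 => @List.rec.{1, 0} (ℕ × (@Array.{0} (ℕ × ℤ))) @(fun x1 => ℕ) (nat_lit 0) @(fun x1 x2 x3 => @Nat.lor @x3 (@Nat.shiftLeft (nat_lit 1) (@Prod.fst.{0, 0} _ _ @x1))) @x0)) ?_); rfl') | exact @Cfsg.Agent.mk | exact ()
private theorem _root_.Cfsg.Agent.KOa39ee9c.e30 : (by first | exact @Cfsg.Agent.mk = @_root_.Cfsg.Agent.KOa39ee9c.k30 | exact True : Prop) := by first | (delta _root_.Cfsg.Agent.KOa39ee9c.k30; exact @Subtype.property _ (fun g => @Cfsg.Agent.mk = @g) _) | rfl | trivial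
private noncomputable def _root_.Cfsg.Agent.KOa39ee9c.k31 : (by first | exact type_of% @Cfsg.Agent.tgF | exact Unit : Sort _) := by first | (refine @Subtype.val _ (fun g => @Cfsg.Agent.tgF = @g) (@Subtype.mk _ _ (@(fun x0 x1 => @Cfsg.Agent.KOa39ee9c.k24 @x0 @(fun x2 => @Cfsg.Agent.KOa39ee9c.k24 @x1 @(fun x3 => @Bool.rec.{1} @(fun x4 => ℕ) (@Cfsg.Agent.KOa39ee9c.k28 (@Cfsg.Agent.KOa39ee9c.k29 @x2) @x3) (nat_lit 240) (@Nat.beq (@Nat.land (@Nat.shiftRight (@Cfsg.Agent.KOa39ee9c.k30 (@Cfsg.Agent.KOa39ee9c.k29 @x2)) @x3) (nat_lit 1)) (nat_lit 0)))))) ?_); rewrite [← Cfsg.Agent.KOa39ee9c.e30, ← Cfsg.Agent.KOa39ee9c.e29, ← Cfsg.Agent.KOa39ee9c.e28, ← Cfsg.Agent.KOa39ee9c.e24]; (try delta Cfsg.Agent.tgF); (try generalize @Cfsg.Agent.fN = g0); (try generalize @Cfsg.Agent.lk = g1); (try generalize @Cfsg.Agent.H413.L16.row = g2); (try generalize @Cfsg.Agent.mk = g3); rfl') | exact @Cfsg.Agent.tgF | exact ()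
private theorem _root_.Cfsg.Agent.KOa39ee9c.e31 : (by first | exact @Cfsg.Agent.tgF = @_root_.Cfsg.Agent.KOa39ee9c.k31 | exact True : Prop) := by first | (delta _root_.Cfsg.Agent.KOa39ee9c.k31; exact @Subtype.property _ (fun g => @Cfsg.Agent.tgF = @g) _) | rfl | trivial
private noncomputable def _root_.Cfsg.Agent.KOa39ee9c.k32 : type_of% @instDecidableAnd := @(fun x0 x1 x2 x3 => @Decidable.rec.{1} _ @(fun x4 => @Decidable (@And @x0 @x1)) @(fun x4 => @Decidable.isFalse _ (@instDecidableAnd._proof_2 _ _ @x4)) @(fun x4 => @Decidable.rec.{1} _ @(fun x5 => @Decidable (@And @x0 @x1)) @(fun x5 => @Decidable.isFalse _ (@instDecidableAnd._proof_1 _ _ @x5)) @(fun x5 => @Decidable.isTrue _ (@And.intro _ _ @x4 @x5)) @x3) @x2)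
private theorem _root_.Cfsg.Agent.KOa39ee9c.e32 : @instDecidableAnd = @_root_.Cfsg.Agent.KOa39ee9c.k32 := by delta _root_.Cfsg.Agent.KOa39ee9c.k32; rfl'
private noncomputable def _root_.Cfsg.Agent.KOa39ee9c.k33 : type_of% @instDecidableNot := @(fun x0 x1 => @Decidable.rec.{1} _ @(fun x2 => @Decidable (¬ @x0)) @(fun x2 => @Decidable.isTrue _ @x2) @(fun x2 => @Decidable.isFalse _ (@absurd.{0} _ _ @x2)) @x1)
private theorem _root_.Cfsg.Agent.KOa39ee9c.e33 : @instDecidableNot = @_root_.Cfsg.Agent.KOa39ee9c.k33 := by delta _root_.Cfsg.Agent.KOa39ee9c.k33; rfl'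

theorem okL5 : (L5.all fun r => decide (r < 240) && okN r) = true := by
  delta okN
  rw [tg_eq]
  (first | (rewrite [Cfsg.Agent.KOa39ee9c.e1.{0}, Cfsg.Agent.KOa39ee9c.e17, Cfsg.Agent.KOa39ee9c.e18, Cfsg.Agent.KOa39ee9c.e21, Cfsg.Agent.KOa39ee9c.e22, Cfsg.Agent.KOa39ee9c.e5, Cfsg.Agent.KOa39ee9c.e8, Cfsg.Agent.KOa39ee9c.e23.{1}, Cfsg.Agent.KOa39ee9c.e31, Cfsg.Agent.KOa39ee9c.e32, Cfsg.Agent.KOa39ee9c.e33]; decide +kernel) | decide +kernel)

theorem ltL5 : ∀ r ∈ L5, r < 240 := fun r hr => (ok_of okL5 r hr).1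

/-- it interchanges the two components -/
noncomputable def g5 : ↥(chevE8.group KK) := gw L5

theorem good_g5 : ∃ w, _root_.Cfsg.Agent.H413.L16.Good w g5 ∧ ∀ x, _root_.Cfsg.Agent.H413.L16.act w x = (L5.map fun r => vec chevE8 8 r).foldr (rc A8) x := good_gw L5 ltL5

theorem v5_w : ∀ i, (5 : ℤ) ∣ vl v5 ((L5.map fun r => vec chevE8 8 r).foldr (rc A8) (sr i)) - 2 * vl v5 (sr i) := by
  decide +kernel

/-- **the frame of an element of order 5** -/
theorem frame5 {x : E2} {ζ : KK} (h : TorZ x 5 v5 ζ) : ∃ z t : ↥(chevE8.group KK),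
    z⁻¹ * _root_.Cfsg.Agent.H939.L64.em x * z = t ∧ t ∈ TT chevE8 KK ∧ (∀ i, cX e8T t (sr i) = ζ ^ (v5 i).val) ∧
      z⁻¹ * phi chevE8 KK 2 1 z = g5 := by
  have hch := charKK
  obtain ⟨hζ, z0, t, hz0, ht, hvt⟩ := h
  obtain ⟨w, hw, hL⟩ := good_g5
  have hcard : Nat.card (ZMod 2) = 2 ^ 1 := by simp
  obtain ⟨z, hz, hzm⟩ := frame8z 2 1 hcard (N := 5) (by norm_num) (by decide) locKK one_pos hζ hz0 ht hvt (w := w) (by
    intro i
    have h1 := v5_w i
    rw [← hL] at h1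
    exact h1) hw.rp
  exact ⟨z, t, hz, ht, hvt, hzm⟩

/-! ### the action on the root vectors -/

theorem a5_lt : ∀ (k : Fin 2) (i j : Fin 5), i ≠ j → a5 k i j < 240 := by decide +kernel

theorem a5_neg : ∀ (k : Fin 2) (i j : Fin 5), i ≠ j → 239 - a5 k i j = a5 k j i := by decide +kernel

theorem a5_diag : ∀ (k : Fin 2) (i : Fin 5), a5 k i i = 240 := by decide +kernel

theorem er_240 : er 240 = 0 := er_ge le_rfl

theorem fold_a5 : ∀ i j : Fin 5, i ≠ j → L5.foldr _root_.Cfsg.Agent.H413.L16.rf (a5 0 i j) = a5 1 i j ∧ L5.foldr _root_.Cfsg.Agent.H413.L16.rf (a5 1 i j) = a5 0 j i := by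
  rw [rf_eq]
  delta Cfsg.Agent.H413.L16.rf
  rw [tg_eq]
  decide +kernel

theorem g5_er0 (i j : Fin 5) : aK g5 (er (a5 0 i j)) = er (a5 1 i j) := by
  by_cases h : i = j
  · subst h
    rw [a5_diag, a5_diag, er_240, ← lin_apply, map_zero]
  · unfold g5
    rw [(aK_gw L5 (ok_of okL5) (a5_lt 0 i j h)).1, (fold_a5 i j h).1]

theorem g5_er1 (i j : Fin 5) : aK g5 (er (a5 1 i j)) = er (a5 0 j i) := by
  by_cases h : i = j
  · subst h
    rw [a5_diag, a5_diag, er_240, ← lin_apply, map_zero]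
  · unfold g5
    rw [(aK_gw L5 (ok_of okL5) (a5_lt 1 i j h)).1, (fold_a5 i j h).2]

theorem g5_hr0 {i j : Fin 5} (h : i ≠ j) : aK g5 (hr (a5 0 i j)) = hr (a5 1 i j) :=
  aK_hr (a5_lt 0 i j h) (a5_lt 1 i j h) (g5_er0 i j) (by rw [a5_neg 0 i j h, a5_neg 1 i j h, g5_er0])

theorem g5_hr1 {i j : Fin 5} (h : i ≠ j) : aK g5 (hr (a5 1 i j)) = hr (a5 0 j i) :=
  aK_hr (a5_lt 1 i j h) (a5_lt 0 j i h.symm) (g5_er1 i j) (by rw [a5_neg 1 i j h, a5_neg 0 j i h.symm, g5_er1])

theorem cs_ne (i : Fin 4) : (i.castSucc : Fin 5) ≠ i.succ := by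
  revert i; decide

theorem hr_flip {k : Fin 2} {i j : Fin 5} (h : i ≠ j) : hr (a5 k j i) = hr (a5 k i j) := by
  rw [← a5_neg k i j h, hr_neg (a5_lt k i j h)]

theorem g5_J0 (M : M5) : aK g5 (J 0 M) = J 1 M := by
  unfold J
  rw [← lin_apply]
  simp only [map_add, map_sum, map_smul, lin_apply, g5_er0, g5_hr0 (cs_ne _)]

theorem ps_tr (M : M5) : ps M.transpose = ps M := by
  funext i
  fin_cases i <;> simp [ps]

theorem g5_J1 (M : M5) : aK g5 (J 1 M) = J 0 M.transpose := by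
  unfold J
  rw [← lin_apply, ps_tr]
  simp only [map_add, map_sum, map_smul, lin_apply, g5_er1, g5_hr1 (cs_ne _), hr_flip (cs_ne _), Matrix.transpose_apply]
  rw [Finset.sum_comm]

/-! ### the Frobenius map -/

theorem fr_hr (s : ℕ) : fr (hr s) = hr s := by
  unfold hr
  rw [fr_hv]
  congr 1
  funext i
  exact cast_sq _

theorem fr_zero : fr (0 : LK) = 0 := by
  funext i
  exact zero_pow two_ne_zero

theorem fr_sum {ι : Type*} (s : Finset ι) (f : ι → LK) : fr (∑ i ∈ s, f i) = ∑ i ∈ s, fr (f i) := by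
  classical
  induction s using Finset.induction_on with
  | empty => simp [fr_zero]
  | insert a s ha ih => rw [Finset.sum_insert ha, Finset.sum_insert ha, fr_add, ih]

theorem ps_map (M : M5) (i : Fin 4) : ps (M.map fun x => x ^ 2) i = ps M i ^ 2 := by
  have hch := charKK
  have h2 : ∀ a b : KK, (a + b) ^ 2 = a ^ 2 + b ^ 2 := fun a b => add_pow_char a b 2
  fin_cases i <;> simp [ps, h2]

theorem fr_J (k : Fin 2) (M : M5) : fr (J k M) = J k (M.map fun x => x ^ 2) := by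
  unfold J
  simp only [fr_add, fr_sum, fr_smul, fr_er, fr_hr, ps_map, Matrix.map_apply]

end Cfsg.Agent.H958.L34
end

-- part: H958/L34/Coord
section
/-!
# S5917 (`L₃(4)` in `E₈(2)`), the element of order 5: coordinates (helper958)

* `J_inr`, `J_inl`, `J_inj` : the coordinates of `J k M`;
* `J_of_fix` : the fixed vectors of the torus element `t` with the values `v5` are the `J 0 X + J 1 Y`.
-/

set_option autoImplicit false
set_option linter.unusedSectionVars false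
set_option maxRecDepth 100000

namespace Cfsg.Agent.H958.L34

open CoxeterSystem Cfsg Cfsg.Lie Cfsg.Lie.ChevalleyDatum
open Cfsg.Agent.ChevalleyStructure Cfsg.Agent.ChevalleyStructure.Elts Cfsg.Agent.ChevalleyStructure.CoxeterGeom
  Cfsg.Agent.ChevalleyStructure.CoxeterGeomTypes Cfsg.Agent.ChevalleyStructure.NPerm
open Cfsg.Agent.ChevalleyStructure.LieAbs Cfsg.Agent.ChevalleyStructure.LieAut
open Cfsg.Agent.ChevalleyStructure.Columns (car cor)
open Cfsg.Agent.ChevalleyStructure.RootVec (rt)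
open Cfsg.Agent.Tits.Roots Cfsg.Agent.Tits.Core Cfsg.Agent.Nodes Cfsg.Agent.Nodes.Reps Cfsg.Agent.Nodes.BNOf
  Cfsg.Agent.Nodes.RGDChev Cfsg.Agent.Nodes.Bruhat Cfsg.Agent.Nodes.SubComb Cfsg.Agent.Nodes.Coroot
open Cfsg.Agent.KFacts.RgdField Cfsg.Agent.KFacts.RgdChevCoord Cfsg.Agent.BpExc.TorCent Cfsg.Agent.BpExc.TorChev
open Cfsg.Agent.GpExc.Field Cfsg.Agent.BpExc.Tow Cfsg.Agent.BpExc.TowChev Cfsg.Agent.BpExc.Fr
  Cfsg.Agent.BpExc.LangFr Cfsg.Agent.LangThm Cfsg.Agent.BpExc Cfsg.Agent.H129.TorusMain Cfsg.Agent.H129.TorusUntw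
open Cfsg.Agent.H129.TorusChar (cX cX_pow cX_one cX_inj isMC_cX cX_root cX_rp cX_mul ch_sigma exists_cX)
open Cfsg.Agent.H720.TorusReal Cfsg.Agent.H897
open Cfsg.Agent.H897.T5Frame (bc rc bf_eq)
open Cfsg.Agent.H897.T5UntwRow (A8)
open Cfsg.Agent.BpExc.RowsUntw (e8T)
open Cfsg.Agent.H939.L64
open Cfsg.Agent.H413.L64
open Cfsg.Agent.H413.L16
open Cfsg.Agent.H876.L64 hiding v5
open Cfsg.Agent.H201.L34
open Cfsg.Agent.H159.L34 (v5)

/-! ### the coordinates of `J k M` -/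

theorem smul_er_inr (c : KK) (r : ℕ) (s : Fin chevE8.nroots) :
    (c • er r) (Sum.inr s) = if r = s then c else 0 := by
  rw [Pi.smul_apply, er_inr, smul_eq_mul, mul_ite, mul_one, mul_zero]

theorem er_inl (r : ℕ) (m : Fin chevE8.rank) : er r (Sum.inl m) = 0 := by
  unfold er
  split_ifs with h
  · exact Pi.single_eq_of_ne (fun h => by cases h) _
  · rfl

theorem J_inr (k : Fin 2) (M : M5) (s : Fin chevE8.nroots) :
    J k M (Sum.inr s) = ∑ i, ∑ j, if a5 k i j = s then M i j else 0 := by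
  unfold J
  rw [Pi.add_apply, Finset.sum_apply, Finset.sum_apply]
  have h : ∑ i : Fin 4, (ps M i • hr (a5 k i.castSucc i.succ)) (Sum.inr s) = 0 := by
    refine Finset.sum_eq_zero fun i _ => ?_
    rw [Pi.smul_apply, hr_inr, smul_zero]
  rw [h, add_zero]
  refine Finset.sum_congr rfl fun i _ => ?_
  rw [Finset.sum_apply]
  exact Finset.sum_congr rfl fun j _ => smul_er_inr _ _ _

private noncomputable def _root_.Cfsg.Agent.KOa39ee9c.k34l (n : Nat) (P : ∀ k, k < n → Prop) (H : ∀ k h, Decidable (P k h)) (m : Nat) : m ≤ n → Bool := @Nat.rec (fun m => m ≤ n → Bool) (fun _ => true) (fun k ih h => @Decidable.rec (P k h) (fun _ => Bool) (fun _ => false) (fun _ => ih (Nat.le_of_succ_le h)) (H k h)) m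
private theorem _root_.Cfsg.Agent.KOa39ee9c.k34ls (n : Nat) (P : ∀ k, k < n → Prop) (H : ∀ k h, Decidable (P k h)) (m : Nat) : ∀ h : m ≤ n, _root_.Cfsg.Agent.KOa39ee9c.k34l n P H m h = true ↔ ∀ k (g : k < m), P k (Nat.lt_of_lt_of_le g h) := by induction m with | zero => exact fun _ => ⟨fun _ _ g => absurd g (Nat.not_lt_zero _), fun _ => rfl⟩ | succ m ih => intro h; show @Decidable.rec (P m h) (fun _ => Bool) (fun _ => false) (fun _ => _root_.Cfsg.Agent.KOa39ee9c.k34l n P H m (Nat.le_of_succ_le h)) (H m h) = true ↔ _; cases H m h with | isFalse q => exact ⟨fun g => absurd g Bool.false_ne_true, fun g => absurd (g m (Nat.lt_succ_self m)) q⟩ | isTrue q => exact ⟨fun g k hk => (Nat.lt_succ_iff_lt_or_eq.1 hk).elim ((ih _).1 g k) fun e => by subst e; exact q, fun g => (ih _).2 fun k hk => g k (Nat.lt_succ_of_lt hk)⟩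
private noncomputable def _root_.Cfsg.Agent.KOa39ee9c.k34 (n : Nat) (P : ∀ k, k < n → Prop) (H : ∀ k h, Decidable (P k h)) : Decidable (∀ k h, P k h) := @Bool.rec (fun b => _root_.Cfsg.Agent.KOa39ee9c.k34l n P H n (Nat.le_refl n) = b → Decidable (∀ k h, P k h)) (fun g => isFalse fun q => Bool.false_ne_true (g.symm.trans ((_root_.Cfsg.Agent.KOa39ee9c.k34ls n P H n _).2 fun k h => q k h))) (fun g => isTrue fun k h => (_root_.Cfsg.Agent.KOa39ee9c.k34ls n P H n _).1 g k h) (_root_.Cfsg.Agent.KOa39ee9c.k34l n P H n (Nat.le_refl n)) rfl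
private theorem _root_.Cfsg.Agent.KOa39ee9c.e34 : @Nat.decidableBallLT = @_root_.Cfsg.Agent.KOa39ee9c.k34 := funext fun _ => funext fun _ => funext fun _ => Subsingleton.elim _ _
private noncomputable def _root_.Cfsg.Agent.KOa39ee9c.k35 : type_of% @Nat.decidableForallFin := @(fun x0 x1 x2 => @Decidable.rec.{1} _ @(fun x3 => @Decidable ((x4 : @Fin @x0) → @x1 @x4)) @(fun x3 => @Decidable.isFalse _ (@decidable_of_decidable_of_iff._proof_1 _ _ (@Nat.decidableForallFin._proof_1 _ @x1) @x3)) @(fun x3 => @Decidable.isTrue _ (@Iff.mp _ _ (@Nat.decidableForallFin._proof_1 _ @x1) @x3)) (@Cfsg.Agent.KOa39ee9c.k34 @x0 @(fun x3 x4 => @x1 (@Fin.mk _ @x3 @x4)) @(fun x3 x4 => @x2 (@Fin.mk _ @x3 @x4))))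
private theorem _root_.Cfsg.Agent.KOa39ee9c.e35 : @Nat.decidableForallFin = @_root_.Cfsg.Agent.KOa39ee9c.k35 := by delta _root_.Cfsg.Agent.KOa39ee9c.k35; rewrite [← Cfsg.Agent.KOa39ee9c.e34]; rfl'
private noncomputable def _root_.Cfsg.Agent.KOa39ee9c.k60 : type_of% @forall_prop_decidable := @(fun x0 x1 x2 x3 => @Decidable.rec.{1} _ @(fun x4 => @Decidable ((x5 : @x0) → @x1 @x5)) @(fun x4 => @Decidable.isTrue _ (@forall_prop_decidable._proof_2 _ @x1 @x4)) @(fun x4 => @Decidable.rec.{1} _ @(fun x5 => @Decidable ((x6 : @x0) → @x1 @x6)) @(fun x5 => @Decidable.isFalse _ (@decidable_of_decidable_of_iff._proof_1 _ _ (@forall_prop_decidable._proof_1 _ @x1 @x4) @x5)) @(fun x5 => @Decidable.isTrue _ (@Iff.mp _ _ (@forall_prop_decidable._proof_1 _ @x1 @x4) @x5)) (@x3 @x4)) @x2)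
private theorem _root_.Cfsg.Agent.KOa39ee9c.e60 : @forall_prop_decidable = @_root_.Cfsg.Agent.KOa39ee9c.k60 := by delta _root_.Cfsg.Agent.KOa39ee9c.k60; rfl'

theorem a5_inj : ∀ (k : Fin 2) (i j i' j' : Fin 5), i ≠ j → a5 k i' j' = a5 k i j → i' = i ∧ j' = j := by
  (first | (refine of_decide_eq_true ?_; rewrite [Cfsg.Agent.KOa39ee9c.e18, Cfsg.Agent.KOa39ee9c.e35, Cfsg.Agent.KOa39ee9c.e60, Cfsg.Agent.KOa39ee9c.e33, Cfsg.Agent.KOa39ee9c.e12, Cfsg.Agent.KOa39ee9c.e8, Cfsg.Agent.KOa39ee9c.e32]; decide +kernel) | decide +kernel)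

theorem a5_ne : ∀ (k l : Fin 2) (i j i' j' : Fin 5), k ≠ l → i ≠ j → a5 l i' j' ≠ a5 k i j := by (first | (refine of_decide_eq_true ?_; rewrite [Cfsg.Agent.KOa39ee9c.e18, Cfsg.Agent.KOa39ee9c.e35, Cfsg.Agent.KOa39ee9c.e60, Cfsg.Agent.KOa39ee9c.e33, Cfsg.Agent.KOa39ee9c.e12, Cfsg.Agent.KOa39ee9c.e8]; decide +kernel) | decide +kernel)

theorem J_co (k : Fin 2) (M : M5) {i j : Fin 5} (h : i ≠ j) {s : Fin chevE8.nroots} (hs : a5 k i j = s) :
    J k M (Sum.inr s) = M i j := by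
  rw [J_inr, Finset.sum_eq_single i, Finset.sum_eq_single j]
  · rw [if_pos hs]
  · intro j' _ hj
    rw [if_neg]
    intro h1
    exact hj (a5_inj k i j i j' h (h1.trans hs.symm)).2
  · intro h1
    exact absurd (Finset.mem_univ _) h1
  · intro i' _ hi
    refine Finset.sum_eq_zero fun j' _ => ?_
    rw [if_neg]
    intro h1
    exact hi (a5_inj k i j i' j' h (h1.trans hs.symm)).1
  · intro h1
    exact absurd (Finset.mem_univ _) h1

theorem J_co_ne {k l : Fin 2} (hkl : k ≠ l) (M : M5) {i j : Fin 5} (h : i ≠ j) {s : Fin chevE8.nroots}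
    (hs : a5 k i j = s) : J l M (Sum.inr s) = 0 := by
  rw [J_inr]
  refine Finset.sum_eq_zero fun i' _ => Finset.sum_eq_zero fun j' _ => ?_
  rw [if_neg]
  intro h1
  exact a5_ne k l i j i' j' hkl h (h1.trans hs.symm)

theorem J_out (k : Fin 2) (M : M5) {s : Fin chevE8.nroots} (hs : ∀ i j : Fin 5, i ≠ j → a5 k i j ≠ s) :
    J k M (Sum.inr s) = 0 := by
  rw [J_inr]
  refine Finset.sum_eq_zero fun i _ => Finset.sum_eq_zero fun j _ => ?_
  rw [if_neg]
  intro h1
  by_cases h : i = j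
  · subst h
    rw [a5_diag] at h1
    have h2 : (s : ℕ) < 240 := lt_of_lt_of_eq s.2 nr
    omega
  · exact hs i j h h1

/-- the coroots modulo two -/
def CE : Fin 2 → Fin 4 → Fin 8 → ℤ :=
  ![![![1, 0, 0, 0, 0, 0, 0, 0], ![0, 0, 1, 0, 0, 0, 0, 0], ![0, 0, 0, 1, 0, 0, 0, 0], ![0, 1, 0, 0, 0, 0, 0, 0]],
    ![![0, 1, 0, 0, 1, 0, 1, 0], ![0, 0, 0, 0, 0, 0, 0, 1], ![0, 0, 0, 0, 0, 0, 1, 0], ![0, 0, 0, 0, 0, 1, 0, 0]]]

theorem cor_CE : ∀ (k : Fin 2) (i : Fin 4) (m : Fin 8), (cor chevE8 (a5 k i.castSucc i.succ) m - CE k i m) % 2 = 0 := by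
  decide +kernel

theorem J_inl (k : Fin 2) (M : M5) (m : Fin 8) :
    J k M (Sum.inl (m.cast rk8.symm)) = ∑ i, ps M i * ((CE k i m : ℤ) : KK) := by
  unfold J
  rw [Pi.add_apply, Finset.sum_apply, Finset.sum_apply]
  have h : ∑ i : Fin 5, (∑ j, M i j • er (a5 k i j)) (Sum.inl (m.cast rk8.symm)) = 0 := by
    refine Finset.sum_eq_zero fun i _ => ?_
    rw [Finset.sum_apply]
    refine Finset.sum_eq_zero fun j _ => ?_
    rw [Pi.smul_apply, er_inl, smul_zero]
  rw [h, zero_add]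
  refine Finset.sum_congr rfl fun i _ => ?_
  rw [Pi.smul_apply, smul_eq_mul]
  congr 1
  exact cast_congr (cor_CE k i m)

/-- the partial sums from the coordinates -/
noncomputable def ss (c : Fin 8 → KK) : Fin 2 → Fin 4 → KK := ![![c 0, c 2, c 3, c 1 + c 4], ![c 4, c 7, c 4 + c 6, c 5]]

theorem ss_CE (c : Fin 8 → KK) (m : Fin 8) :
    ∑ i, ss c 0 i * ((CE 0 i m : ℤ) : KK) + ∑ i, ss c 1 i * ((CE 1 i m : ℤ) : KK) = c m := by
  have h2 := two_zero
  fin_cases m <;> simp [ss, CE, Fin.sum_univ_four] <;> linear_combination (c 4) * h2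

theorem CE_ss (p q : Fin 4 → KK) :
    ss (fun m => ∑ i, p i * ((CE 0 i m : ℤ) : KK) + ∑ i, q i * ((CE 1 i m : ℤ) : KK)) = ![p, q] := by
  have h2 := two_zero
  funext k i
  (revert k i; simp only [ss, CE, Fin.sum_univ_four, _root_.Fin.forall_fin_succ, Fin.isValue, _root_.Matrix.cons_val', _root_.Matrix.cons_val_fin_one, _root_.Matrix.cons_val_zero, _root_.Int.cast_one, _root_.mul_one, _root_.Matrix.cons_val_one, _root_.Int.cast_zero, _root_.MulZeroClass.mul_zero, _root_.add_zero, _root_.Matrix.cons_val, _root_.zero_add, _root_.Nat.succ_eq_add_one, Nat.reduceAdd, _root_.Matrix.cons_val_succ, _root_.Fin.succ_zero_eq_one, _root_.Fin.succ_one_eq_two, Fin.reduceSucc, _root_.IsEmpty.forall_iff, _root_.and_true, _root_.true_and, _root_.forall_const]) <;> (repeat' with_reducible apply And.intro) <;> linear_combination (q 0) * h2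

/-- the matrix with given off-diagonal entries and partial sums -/
noncomputable def mk (f : Fin 5 → Fin 5 → KK) (s : Fin 4 → KK) : M5 :=
  Matrix.of fun i j => if i = j then ![s 0, s 0 + s 1, s 1 + s 2, s 2 + s 3, s 3] i else f i j

theorem mk_trace (f : Fin 5 → Fin 5 → KK) (s : Fin 4 → KK) : (mk f s).trace = 0 := by
  have h2 := two_zero
  simp only [mk, Matrix.trace, Fin.sum_univ_five, _root_.Nat.succ_eq_add_one, _root_.Nat.reduceAdd, _root_.Fin.isValue, _root_.Matrix.diag_apply, _root_.Matrix.of_apply, ↓ _root_.reduceIte, _root_.Matrix.cons_val_zero, _root_.Matrix.cons_val_one, _root_.Matrix.cons_val]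
  linear_combination (s 0 + s 1 + s 2 + s 3) * h2

theorem mk_ps (f : Fin 5 → Fin 5 → KK) (s : Fin 4 → KK) : ps (mk f s) = s := by
  have h2 := two_zero
  funext i
  (revert i; simp only [mk, ps, _root_.Fin.forall_fin_succ, _root_.Nat.succ_eq_add_one, Nat.reduceAdd, Fin.isValue, _root_.Matrix.of_apply, ↓reduceIte, _root_.Matrix.cons_val_zero, _root_.Matrix.cons_val_one, _root_.Matrix.cons_val, _root_.Matrix.cons_val_succ, _root_.Fin.succ_zero_eq_one, _root_.Fin.succ_one_eq_two, _root_.Matrix.cons_val_fin_one, Fin.reduceSucc, _root_.IsEmpty.forall_iff, _root_.and_true, _root_.true_and]) <;> (repeat' with_reducible apply And.intro)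
  · linear_combination (s 0) * h2
  · linear_combination (s 0 + s 1) * h2
  · linear_combination (s 0 + s 1 + s 2) * h2

theorem mk_off (f : Fin 5 → Fin 5 → KK) (s : Fin 4 → KK) {i j : Fin 5} (h : i ≠ j) : mk f s i j = f i j := by
  simp [mk, h]

/-- a matrix of trace zero is determined by the off-diagonal entries and the partial sums -/
theorem eq_of_ps {M N : M5} (hM : M.trace = 0) (hN : N.trace = 0) (h : ∀ i j, i ≠ j → M i j = N i j)
    (hp : ps M = ps N) : M = N := by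
  have h0 : M 0 0 = N 0 0 := congrFun hp 0
  have h1 : M 0 0 + M 1 1 = N 0 0 + N 1 1 := congrFun hp 1
  have h2 : M 0 0 + M 1 1 + M 2 2 = N 0 0 + N 1 1 + N 2 2 := congrFun hp 2
  have h3 : M 0 0 + M 1 1 + M 2 2 + M 3 3 = N 0 0 + N 1 1 + N 2 2 + N 3 3 := congrFun hp 3
  rw [Matrix.trace, Fin.sum_univ_five] at hM hN
  simp only [Matrix.diag_apply] at hM hN
  ext i j
  by_cases hij : i = j
  · subst hij
    fin_cases i
    · exact h0
    · show M 1 1 = N 1 1
      linear_combination h1 - h0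
    · show M 2 2 = N 2 2
      linear_combination h2 - h1
    · show M 3 3 = N 3 3
      linear_combination h3 - h2
    · show M 4 4 = N 4 4
      linear_combination hM - hN - h3
  · exact h i j hij

/-- **the coordinates determine the matrices** -/
theorem J_inj {X Y X' Y' : M5} (hX : X.trace = 0) (hY : Y.trace = 0) (hX' : X'.trace = 0) (hY' : Y'.trace = 0)
    (h : J 0 X + J 1 Y = J 0 X' + J 1 Y') : X = X' ∧ Y = Y' := by
  have h01 : (0 : Fin 2) ≠ 1 := by decide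
  have hm : ∀ m : Fin 8, ∑ i, ps X i * ((CE 0 i m : ℤ) : KK) + ∑ i, ps Y i * ((CE 1 i m : ℤ) : KK) =
      ∑ i, ps X' i * ((CE 0 i m : ℤ) : KK) + ∑ i, ps Y' i * ((CE 1 i m : ℤ) : KK) := by
    intro m
    have h1 := congrFun h (Sum.inl (m.cast rk8.symm))
    rwa [Pi.add_apply, Pi.add_apply, J_inl, J_inl, J_inl, J_inl] at h1
  have h2 : (![ps X, ps Y] : Fin 2 → Fin 4 → KK) = ![ps X', ps Y'] := by
    rw [← CE_ss, ← CE_ss, funext hm]
  constructor
  · refine eq_of_ps hX hX' (fun i j hij => ?_) (congrFun h2 0)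
    have hs : a5 0 i j = (⟨a5 0 i j, by rw [nr]; exact a5_lt 0 i j hij⟩ : Fin chevE8.nroots) := rfl
    have h3 := congrFun h (Sum.inr ⟨a5 0 i j, by rw [nr]; exact a5_lt 0 i j hij⟩)
    rwa [Pi.add_apply, Pi.add_apply, J_co 0 X hij hs, J_co_ne h01 Y hij hs, J_co 0 X' hij hs, J_co_ne h01 Y' hij hs,
      add_zero, add_zero] at h3
  · refine eq_of_ps hY hY' (fun i j hij => ?_) (congrFun h2 1)
    have hs : a5 1 i j = (⟨a5 1 i j, by rw [nr]; exact a5_lt 1 i j hij⟩ : Fin chevE8.nroots) := rfl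
    have h3 := congrFun h (Sum.inr ⟨a5 1 i j, by rw [nr]; exact a5_lt 1 i j hij⟩)
    rwa [Pi.add_apply, Pi.add_apply, J_co 1 Y hij hs, J_co_ne h01.symm X hij hs, J_co 1 Y' hij hs,
      J_co_ne h01.symm X' hij hs, zero_add, zero_add] at h3

/-! ### the fixed vectors -/

/-- the value of a root -/
def w5 (s : ℕ) : ZMod 5 := ∑ i : Fin 8, (vec chevE8 8 s i : ZMod 5) * v5 i

theorem w5_zero : ((List.range 240).all fun s => decide (w5 s = 0 → ∃ (k : Fin 2) (i j : Fin 5), i ≠ j ∧ a5 k i j = s)) =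
    true := by decide +kernel

theorem aK_t5 {t : ↥(chevE8.group KK)} {ζ : KK} (ht : t ∈ TT chevE8 KK) (hζ : IsPrimitiveRoot ζ 5)
    (hv : ∀ i, cX e8T t (sr i) = ζ ^ (v5 i).val) (v : LK) (s : Fin chevE8.nroots) :
    aK t v (Sum.inr s) = ζ ^ (w5 s).val * v (Sum.inr s) := by
  have h1 := cX_eq_zpow ht (hζ.ne_zero (by norm_num)) hv (vec chevE8 8 s)
  have h2 : ζ ^ vl v5 (vec chevE8 8 s) = ζ ^ (w5 s).val := by
    have h3 : ((vl v5 (vec chevE8 8 s) : ℤ) : ZMod 5) = w5 s := by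
      unfold vl w5
      push_cast
      refine Finset.sum_congr rfl fun i _ => ?_
      rw [ZMod.natCast_zmod_val]
    rw [← h3, zpow_val hζ]
  rw [aK_tor ht, ← h2, ← h1]
  rfl

/-- **the fixed vectors of `t`** -/
theorem J_of_fix {t : ↥(chevE8.group KK)} (ht : t ∈ TT chevE8 KK) {ζ : KK} (hζ : IsPrimitiveRoot ζ 5)
    (hv : ∀ i, cX e8T t (sr i) = ζ ^ (v5 i).val) {v : LK} (h : aK t v = v) :
    ∃ X Y : M5, X.trace = 0 ∧ Y.trace = 0 ∧ v = J 0 X + J 1 Y := by
  obtain ⟨f, hf⟩ : ∃ f : Fin 2 → Fin 5 → Fin 5 → KK, ∀ k i j (s : Fin chevE8.nroots), a5 k i j = s → i ≠ j →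
      f k i j = v (Sum.inr s) := by
    refine ⟨fun k i j => if h : a5 k i j < chevE8.nroots then v (Sum.inr ⟨a5 k i j, h⟩) else 0, fun k i j s hs _ => ?_⟩
    have h1 : a5 k i j < chevE8.nroots := by rw [hs]; exact s.2
    show (if h : a5 k i j < chevE8.nroots then v (Sum.inr ⟨a5 k i j, h⟩) else 0) = _
    rw [dif_pos h1]
    congr 2
    exact Fin.ext hs
  obtain ⟨c, hc⟩ : ∃ c : Fin 8 → KK, ∀ m, c m = v (Sum.inl (m.cast rk8.symm)) := ⟨_, fun _ => rfl⟩
  have h01 : (0 : Fin 2) ≠ 1 := by decide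
  refine ⟨mk (f 0) (ss c 0), mk (f 1) (ss c 1), mk_trace _ _, mk_trace _ _, ?_⟩
  funext x
  rcases x with m | s
  · obtain ⟨m', rfl⟩ : ∃ m' : Fin 8, m = m'.cast rk8.symm := ⟨m.cast rk8, rfl⟩
    rw [Pi.add_apply, J_inl, J_inl, mk_ps, mk_ps, ss_CE, hc]
  · rw [Pi.add_apply]
    by_cases h0 : w5 s = 0
    · have hs : (s : ℕ) < 240 := lt_of_lt_of_eq s.2 nr
      have h1 := List.all_eq_true.1 w5_zero s (List.mem_range.2 hs)
      obtain ⟨k, i, j, hij, h2⟩ := of_decide_eq_true h1 h0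
      fin_cases k
      · rw [J_co 0 _ hij h2, J_co_ne h01 _ hij h2, mk_off _ _ hij, add_zero, hf 0 i j s h2 hij]
      · rw [J_co_ne h01.symm _ hij h2, J_co 1 _ hij h2, mk_off _ _ hij, zero_add, hf 1 i j s h2 hij]
    · have h1 := congrFun h (Sum.inr s)
      rw [aK_t5 ht hζ hv] at h1
      have h2 : ζ ^ (w5 s).val ≠ 1 := by
        intro h3
        apply h0
        have h4 := (hζ.pow_eq_one_iff_dvd _).1 h3
        have h5 := Nat.eq_zero_of_dvd_of_lt h4 (ZMod.val_lt _)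
        exact (ZMod.val_eq_zero _).1 h5
      have h3 : v (Sum.inr s) = 0 := by
        have h4 : (ζ ^ (w5 s).val - 1) * v (Sum.inr s) = 0 := by rw [sub_mul, one_mul, h1, sub_self]
        rcases mul_eq_zero.1 h4 with h5 | h5
        · exact absurd (sub_eq_zero.1 h5) h2
        · exact h5
      have hw : ∀ (k : Fin 2) (i j : Fin 5), i ≠ j → a5 k i j ≠ s := by
        intro k i j hij h4
        apply h0
        rw [← h4]
        have : ∀ (k : Fin 2) (i j : Fin 5), i ≠ j → w5 (a5 k i j) = 0 := by decide +kernel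
        exact this k i j hij
      rw [h3, J_out 0 _ (hw 0), J_out 1 _ (hw 1), add_zero]

end Cfsg.Agent.H958.L34
end

-- part: H958/L34/Hom
section
/-!
# S5917 (`L₃(4)` in `E₈(2)`), the element of order 5: the two subgroups `SL₅` (helper958)

* `P k : SL₅(KK) → E₈(KK)`, `P_tv`, `P_comm`;
* `fm`, `th`, `phi_P`, `g5_P0`, `g5_P1`.
-/

set_option autoImplicit false
set_option linter.unusedSectionVars false
set_option maxRecDepth 100000

namespace Cfsg.Agent.H958.L34

open CoxeterSystem Cfsg Cfsg.Lie Cfsg.Lie.ChevalleyDatum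
open Cfsg.Agent.ChevalleyStructure Cfsg.Agent.ChevalleyStructure.Elts Cfsg.Agent.ChevalleyStructure.CoxeterGeom
  Cfsg.Agent.ChevalleyStructure.CoxeterGeomTypes Cfsg.Agent.ChevalleyStructure.NPerm
open Cfsg.Agent.Tits.Roots Cfsg.Agent.Tits.Core Cfsg.Agent.Nodes Cfsg.Agent.Nodes.Reps Cfsg.Agent.Nodes.BNOf
  Cfsg.Agent.Nodes.RGDChev Cfsg.Agent.Nodes.Bruhat Cfsg.Agent.Nodes.SubComb Cfsg.Agent.Nodes.Coroot
open Cfsg.Agent.KFacts.RgdField Cfsg.Agent.KFacts.RgdChevCoord Cfsg.Agent.BpExc.TorCent Cfsg.Agent.BpExc.TorChev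
open Cfsg.Agent.GpExc.Field Cfsg.Agent.BpExc.Tow Cfsg.Agent.BpExc.TowChev Cfsg.Agent.BpExc.Fr
  Cfsg.Agent.BpExc.LangFr Cfsg.Agent.LangThm Cfsg.Agent.BpExc Cfsg.Agent.H129.TorusMain Cfsg.Agent.H129.TorusUntw
open Cfsg.Agent.TitsThree.KExcRT
open Cfsg.Agent.H897.T5Frame (bc rc bf_eq)
open Cfsg.Agent.H897.T5UntwRow (A8)
open Cfsg.Agent.BpExc.RowsUntw (e8T)
open Cfsg.Agent.H939.L64 (KK E2 em)
open Cfsg.Agent.H413.L64 (charKK)
open Cfsg.Agent.H413.L16 (cs8 act Good hA8 nn nr comm_xc phi_xc cast_unit xr)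
open Cfsg.Agent.H150.E6T (commute_hom)

abbrev S5 : Type := Matrix.SpecialLinearGroup (Fin 5) KK

/-- the signs of the root elements -/
def sg5 : Fin 2 → Fin 5 → Fin 5 → ℤ :=
  ![![![1, 1, 1, 1, 1], ![1, 1, -1, -1, -1], ![1, -1, 1, -1, 1], ![1, -1, -1, 1, -1], ![1, -1, 1, -1, 1]],
    ![![1, 1, 1, 1, 1], ![1, 1, 1, 1, 1], ![1, 1, 1, 1, 1], ![1, 1, 1, 1, 1], ![1, 1, 1, 1, 1]]]

theorem sg5_unit : ∀ k i j, sg5 k i j = 1 ∨ sg5 k i j = -1 := by decide +kernel

theorem tab_hom : ∀ k : Fin 2, RTa chevE8 (a5 k) ∧ RTb chevE8 (a5 k) (sg5 k) ∧ RTc chevE8 (a5 k) ∧ RTd (sg5 k) ∧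
    (∀ i j, sg5 k j i = sg5 k i j) ∧ ∀ i j, i ≠ j → a5 k j i = chevE8.neg (a5 k i j) := by
  have h : ∀ k : Fin 2, RTa chevE8 (a5 k) ∧ RTd (sg5 k) ∧
    (∀ i j, sg5 k j i = sg5 k i j) ∧ ∀ i j, i ≠ j → a5 k j i = chevE8.neg (a5 k i j) := by decide +kernel
  intro k
  refine ⟨(h k).1, H90F.rtb_of ?_, H90F.rtc_of ?_, (h k).2⟩ <;> revert k <;> decide +kernel

theorem a5_root {k : Fin 2} {i j : Fin 5} (h : i ≠ j) : IsRoot cs8 e8T.isCartan (vec chevE8 8 (a5 k i j)) :=
  (isRoot_iff e8T cs8 _).2 ⟨_, by rw [nr]; exact a5_lt k i j h, rfl⟩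

theorem exists_P (k : Fin 2) : ∃ φ : S5 →* ↥(chevE8.group KK), ∀ a b (hab : a ≠ b) c,
    φ (Matrix.SpecialLinearGroup.transvection hab c) = _root_.Cfsg.Agent.H413.L16.xr (a5 k a b) c := by
  obtain ⟨h1, h2, h3, h4, h5, h6⟩ := tab_hom k
  obtain ⟨φ, hφ⟩ := Cfsg.Agent.H194.Pw.exists_hom_S (K := KK) e8T h1 h2 h3 h4 h5 h6
  refine ⟨φ, fun a b hab c => ?_⟩
  rw [hφ, cast_unit (sg5_unit k a b), one_mul]
  rfl

/-- **the component `k`** -/
noncomputable def P (k : Fin 2) : S5 →* ↥(chevE8.group KK) := (exists_P k).choose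

theorem P_tv (k : Fin 2) {a b : Fin 5} (hab : a ≠ b) (c : KK) :
    P k (Matrix.SpecialLinearGroup.transvection hab c) = _root_.Cfsg.Agent.H413.L16.xr (a5 k a b) c := (exists_P k).choose_spec a b hab c

theorem tab_orth : ∀ k l : Fin 2, k ≠ l → ∀ a b c d : Fin 5, a ≠ b → c ≠ d →
    bc A8 (vec chevE8 8 (a5 k a b)) (vec chevE8 8 (a5 l c d)) = 0 := by
  rw [bc8_eq, fG_eq (vec chevE8 8)]
  decide +kernel

theorem P_comm {k l : Fin 2} (h : k ≠ l) (A B : S5) : Commute (P k A) (P l B) := by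
  refine commute_hom _ _ (fun a b hab c => (commute_hom _ _ (fun a' b' hab' d => ?_) B).symm) A
  rw [P_tv, P_tv]
  exact comm_xc (a5_root hab') (a5_root hab) (tab_orth l k h.symm _ _ _ _ hab' hab) _ _

/-- homomorphisms from `SL₅` -/
theorem hom_ext5 {Y : Type*} [Group Y] {f g : S5 →* Y}
    (h : ∀ a b (hab : a ≠ b) c, f (Matrix.SpecialLinearGroup.transvection hab c) =
      g (Matrix.SpecialLinearGroup.transvection hab c)) : f = g := by
  have h1 : (⊤ : Subgroup S5) ≤ MonoidHom.eqLocus f g := by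
    rw [← Cfsg.Agent.LieClassical.SLGen.closure_transvections, Subgroup.closure_le]
    rintro _ ⟨a, b, hab, c, rfl⟩
    exact h a b hab c
  exact MonoidHom.ext fun A => h1 (Subgroup.mem_top A)

/-! ### the inverse transpose and the Frobenius map -/

/-- `A ↦ A⁻ᵀ` -/
noncomputable def th : S5 →* S5 where
  toFun A := (A⁻¹).transpose
  map_one' := by
    apply Subtype.ext
    rw [inv_one]
    simp
  map_mul' A B := by
    apply Subtype.ext
    rw [_root_.mul_inv_rev]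
    simp only [Matrix.transpose_mul, _root_.Matrix.SpecialLinearGroup.coe_transpose, _root_.Matrix.SpecialLinearGroup.coe_mul, _root_.Matrix.SpecialLinearGroup.coe_inv]

theorem th_coe (A : S5) : (th A).1 = (A⁻¹).1.transpose := rfl

theorem tv_coe {i j : Fin 5} (hij : i ≠ j) (c : KK) :
    (Matrix.SpecialLinearGroup.transvection hij c : S5).1 = 1 + Matrix.single i j c := rfl

theorem tv_inv {i j : Fin 5} (hij : i ≠ j) (c : KK) :
    (Matrix.SpecialLinearGroup.transvection hij c : S5)⁻¹ = Matrix.SpecialLinearGroup.transvection hij c := by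
  refine inv_eq_of_mul_eq_one_left (Subtype.ext ?_)
  have h0 : Matrix.single i j c * Matrix.single i j c = (0 : Matrix (Fin 5) (Fin 5) KK) := by
    simp [hij.symm]
  rw [Matrix.SpecialLinearGroup.coe_mul, tv_coe, mul_add, add_mul, one_mul, mul_one, Matrix.SpecialLinearGroup.coe_one,
    add_mul, one_mul, h0, add_zero, add_assoc, ← Matrix.single_add]
  have : c + c = 0 := by rw [← two_mul, Cfsg.Agent.H876.L64.two_zero, zero_mul]
  rw [this, Matrix.single_zero, add_zero]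

theorem th_tv {i j : Fin 5} (hij : i ≠ j) (c : KK) :
    th (Matrix.SpecialLinearGroup.transvection hij c) = Matrix.SpecialLinearGroup.transvection hij.symm c := by
  apply Subtype.ext
  rw [th_coe, tv_inv, tv_coe, tv_coe, Matrix.transpose_add, Matrix.transpose_one, Matrix.transpose_single]

/-- the Frobenius map -/
noncomputable def frK : KK →+* KK := by
  haveI := charKK
  exact frobenius KK 2

/-- the entrywise square -/
noncomputable def fm : S5 →* S5 := Matrix.SpecialLinearGroup.map frK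

theorem fm_coe (A : S5) : (fm A).1 = A.1.map fun x => x ^ 2 := rfl

theorem fm_tv {i j : Fin 5} (hij : i ≠ j) (c : KK) :
    fm (Matrix.SpecialLinearGroup.transvection hij c) = Matrix.SpecialLinearGroup.transvection hij (c ^ 2) := by
  apply Subtype.ext
  ext a b
  rw [fm_coe, Matrix.map_apply, tv_coe, tv_coe, Matrix.add_apply, Matrix.add_apply, Matrix.one_apply,
    Matrix.single_apply, Matrix.single_apply]
  split_ifs with h1 h2 h2
  · exact absurd (h2.1.trans (h1.trans h2.2.symm)) hij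
  · rw [add_zero, one_pow]
  · rw [zero_add, zero_add]
  · rw [add_zero, zero_pow two_ne_zero]

theorem phi_P (k : Fin 2) (A : S5) : phi chevE8 KK 2 1 (P k A) = P k (fm A) := by
  have h2 : (phi chevE8 KK 2 1).toMonoidHom.comp (P k) = (P k).comp fm := by
    refine hom_ext5 fun a b hab c => ?_
    show phi chevE8 KK 2 1 (P k _) = P k (fm _)
    rw [fm_tv, P_tv, P_tv]
    exact phi_xc _ _
  exact DFunLike.congr_fun h2 A

/-! ### the element `g5` -/

theorem act_plus {w : CoxeterMatrix.E₈.Group} {g : ↥(chevE8.group KK)} (hg : _root_.Cfsg.Agent.H413.L16.Good w g) {k l : Fin 2}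
    (h : ∀ i j : Fin 5, i ≠ j → _root_.Cfsg.Agent.H413.L16.act w (vec chevE8 8 (a5 k i j)) = vec chevE8 8 (a5 l i j)) (A : S5) :
    g * P k A * g⁻¹ = P l A := by
  have h1 : (MulAut.conj g).toMonoidHom.comp (P k) = P l := by
    refine hom_ext5 fun a b hab c => ?_
    show g * P k _ * g⁻¹ = _
    rw [P_tv, P_tv]
    show g * xc e8T (vec chevE8 8 (a5 k a b)) c * g⁻¹ = xc e8T (vec chevE8 8 (a5 l a b)) c
    rw [hg.conj _ (by rw [nr]; exact a5_lt k a b hab), h a b hab]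
  exact DFunLike.congr_fun h1 A

theorem act_minus {w : CoxeterMatrix.E₈.Group} {g : ↥(chevE8.group KK)} (hg : _root_.Cfsg.Agent.H413.L16.Good w g) {k l : Fin 2}
    (h : ∀ i j : Fin 5, i ≠ j → _root_.Cfsg.Agent.H413.L16.act w (vec chevE8 8 (a5 k i j)) = vec chevE8 8 (a5 l j i)) (A : S5) :
    g * P k A * g⁻¹ = P l (th A) := by
  have h1 : (MulAut.conj g).toMonoidHom.comp (P k) = (P l).comp th := by
    refine hom_ext5 fun a b hab c => ?_
    show g * P k _ * g⁻¹ = P l (th _)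
    rw [th_tv, P_tv, P_tv]
    show g * xc e8T (vec chevE8 8 (a5 k a b)) c * g⁻¹ = xc e8T (vec chevE8 8 (a5 l b a)) c
    rw [hg.conj _ (by rw [nr]; exact a5_lt k a b hab), h a b hab]
  exact DFunLike.congr_fun h1 A

theorem tab_L5 : ∀ i j : Fin 5, i ≠ j →
    (L5.map fun r => vec chevE8 8 r).foldr (rc A8) (vec chevE8 8 (a5 0 i j)) = vec chevE8 8 (a5 1 i j) ∧
    (L5.map fun r => vec chevE8 8 r).foldr (rc A8) (vec chevE8 8 (a5 1 i j)) = vec chevE8 8 (a5 0 j i) := by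
  delta rc
  rw [bc8_eq, fG_eq (vec chevE8 8)]
  decide +kernel

theorem g5_P0 (A : S5) : g5 * P 0 A * g5⁻¹ = P 1 A := by
  obtain ⟨w, hw, hL⟩ := good_g5
  refine act_plus hw (fun i j h => ?_) A
  rw [hL]
  exact (tab_L5 i j h).1

theorem g5_P1 (A : S5) : g5 * P 1 A * g5⁻¹ = P 0 (th A) := by
  obtain ⟨w, hw, hL⟩ := good_g5
  refine act_minus hw (fun i j h => ?_) A
  rw [hL]
  exact (tab_L5 i j h).2

end Cfsg.Agent.H958.L34
end

-- part: H958/L34/PJ
section
/-!
# S5917 (`L₃(4)` in `E₈(2)`), the element of order 5: the action of `SL₅` on the matrices (helper958)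

* `P_J_of`, `P_J_ne_of` : from the root elements to `SL₅`.
-/

set_option autoImplicit false
set_option linter.unusedSectionVars false
set_option maxRecDepth 100000

namespace Cfsg.Agent.H958.L34

open Cfsg Cfsg.Lie Cfsg.Lie.ChevalleyDatum
open Cfsg.Agent.H939.L64
open Cfsg.Agent.H413.L64
open Cfsg.Agent.H413.L16
open Cfsg.Agent.H876.L64 hiding v5
open Cfsg.Agent.H201.L34

theorem trace_conj (g : S5) (M : M5) : (g.1 * M * (g⁻¹).1).trace = M.trace := by
  have h : (g⁻¹).1 * g.1 = 1 := by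
    rw [← Matrix.SpecialLinearGroup.coe_mul, inv_mul_cancel, Matrix.SpecialLinearGroup.coe_one]
  rw [Matrix.trace_mul_comm, ← mul_assoc, h, one_mul]

theorem inv_mul_val (g : S5) : (g⁻¹).1 * g.1 = 1 := by
  rw [← Matrix.SpecialLinearGroup.coe_mul, inv_mul_cancel, Matrix.SpecialLinearGroup.coe_one]

theorem mul_inv_val (g : S5) : g.1 * (g⁻¹).1 = 1 := by
  rw [← Matrix.SpecialLinearGroup.coe_mul, mul_inv_cancel, Matrix.SpecialLinearGroup.coe_one]

/-- the elements that act by conjugation -/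
noncomputable def Cj (k : Fin 2) : Subgroup S5 where
  carrier := {g | ∀ M : M5, M.trace = 0 → aK (P k g) (J k M) = J k (g.1 * M * (g⁻¹).1)}
  one_mem' := by
    intro M _
    rw [map_one, aK_one, inv_one, Matrix.SpecialLinearGroup.coe_one, one_mul, mul_one]
  mul_mem' := by
    intro g h hg hh M hM
    rw [map_mul, aK_mul, hh M hM, hg _ (by rw [trace_conj, hM]), _root_.mul_inv_rev, Matrix.SpecialLinearGroup.coe_mul,
      Matrix.SpecialLinearGroup.coe_mul]
    simp only [mul_assoc]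
  inv_mem' := by
    intro g hg M hM
    have h1 := hg ((g⁻¹).1 * M * g.1) (by
      have := trace_conj g⁻¹ M
      rw [inv_inv] at this
      rw [this, hM])
    have h2 : g.1 * ((g⁻¹).1 * M * g.1) * (g⁻¹).1 = M := by
      calc g.1 * ((g⁻¹).1 * M * g.1) * (g⁻¹).1 = (g.1 * (g⁻¹).1) * M * (g.1 * (g⁻¹).1) := by simp only [mul_assoc]
        _ = M := by rw [mul_inv_val, one_mul, mul_one]
    rw [h2] at h1
    rw [map_inv, inv_inv, ← h1, aK_inv']

/-- **`SL₅` acts by conjugation** -/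
theorem P_J_of (k : Fin 2) (h : ∀ {a b : Fin 5} (_ : a ≠ b) (c : KK) {M : M5}, M.trace = 0 →
    aK (xr (a5 k a b) c) (J k M) = J k ((1 + Matrix.single a b c) * M * (1 + Matrix.single a b c)))
    (g : S5) {M : M5} (hM : M.trace = 0) : aK (P k g) (J k M) = J k (g.1 * M * (g⁻¹).1) := by
  have h1 : (⊤ : Subgroup S5) ≤ Cj k := by
    rw [← Cfsg.Agent.LieClassical.SLGen.closure_transvections, Subgroup.closure_le]
    rintro _ ⟨a, b, hab, c, rfl⟩
    intro M hM
    rw [P_tv, tv_inv, h hab c hM, tv_coe]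
  exact h1 (Subgroup.mem_top g) M hM

/-- the elements that fix `J l M` -/
noncomputable def Fj (k l : Fin 2) : Subgroup S5 where
  carrier := {g | ∀ M : M5, aK (P k g) (J l M) = J l M}
  one_mem' := fun M => by rw [map_one, aK_one]
  mul_mem' := fun {g h} hg hh M => by rw [map_mul, aK_mul, hh M, hg M]
  inv_mem' := fun {g} hg M => by
    have h1 := congrArg (aK (P k g)⁻¹) (hg M)
    rw [aK_inv'] at h1
    rw [map_inv, ← h1]

/-- **`SL₅` fixes the other component** -/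
theorem P_J_ne_of {k l : Fin 2} (h : ∀ {a b : Fin 5} (_ : a ≠ b) (c : KK) (M : M5),
    aK (xr (a5 k a b) c) (J l M) = J l M) (g : S5) (M : M5) : aK (P k g) (J l M) = J l M := by
  have h1 : (⊤ : Subgroup S5) ≤ Fj k l := by
    rw [← Cfsg.Agent.LieClassical.SLGen.closure_transvections, Subgroup.closure_le]
    rintro _ ⟨a, b, hab, c, rfl⟩
    intro M
    rw [P_tv, h hab c M]
  exact h1 (Subgroup.mem_top g) M

end Cfsg.Agent.H958.L34
end

-- part: H531/L34/Adj5
section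
/-!
# S5917, case E2d: the two components `A₄` of the centralizer of an element of order 5 of type `A₄A₄` on the Lie algebra
  of `E₈` in characteristic two (helper531)

`J k M` (helper958) is the copy of the matrix `M` of trace zero in the component `k`.

* `J_br`, `J_br_ne` : the bracket;
* `J_sq` : the restricted square;
* `J_xr`, `J_xr_ne` : the root elements act by conjugation.
-/

set_option autoImplicit false
set_option maxRecDepth 100000

namespace Cfsg.Agent.H531.L34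

open Matrix hiding J
open Cfsg Cfsg.Lie Cfsg.Lie.ChevalleyDatum
open Cfsg.Agent.ChevalleyStructure.Columns (car cor)
open Cfsg.Agent.H939.L64
open Cfsg.Agent.H413.L16
open Cfsg.Agent.H876.L64 (two_zero)
open Cfsg.Agent.H201.L34
open Cfsg.Agent.H958.L34

/-! ### tables -/

theorem lt_tab : ∀ (k : Fin 2) (i j : Fin 5), i ≠ j → a5 k i j < 240 ∧ 239 - a5 k i j = a5 k j i := by decide +kernel

theorem diag_tab : ∀ (k : Fin 2) (i : Fin 5), a5 k i i = 240 := by decide +kernel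

theorem inj_tab : ∀ (k l : Fin 2) (i j m n : Fin 5), i ≠ j → a5 k i j = a5 l m n → k = l ∧ i = m ∧ j = n := by
  (first | (refine of_decide_eq_true ?_; rewrite [Cfsg.Agent.KOa39ee9c.e18, Cfsg.Agent.KOa39ee9c.e35, Cfsg.Agent.KOa39ee9c.e60, Cfsg.Agent.KOa39ee9c.e33, Cfsg.Agent.KOa39ee9c.e12, Cfsg.Agent.KOa39ee9c.e8, Cfsg.Agent.KOa39ee9c.e32]; decide +kernel) | decide +kernel)

private theorem tg_both : (∀ (k : Fin 2) (i j l m : Fin 5), i ≠ j → l ≠ m → ¬ (l = j ∧ m = i) →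
    tg (a5 k i j) (a5 k l m) = if l = j then a5 k i m else if m = i then a5 k l j else 240) ∧
    (∀ (k n : Fin 2), k ≠ n → ∀ (i j l m : Fin 5), i ≠ j → l ≠ m → tg (a5 k i j) (a5 n l m) = 240) := by
  rw [tg_eq]
  (first | (refine of_decide_eq_true ?_; rewrite [Cfsg.Agent.KOa39ee9c.e18, Cfsg.Agent.KOa39ee9c.e32, Cfsg.Agent.KOa39ee9c.e35, Cfsg.Agent.KOa39ee9c.e60, Cfsg.Agent.KOa39ee9c.e33, Cfsg.Agent.KOa39ee9c.e12, Cfsg.Agent.KOa39ee9c.e8, Cfsg.Agent.KOa39ee9c.e31, Cfsg.Agent.KOa39ee9c.e23.{1}]; decide +kernel) | decide +kernel)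

theorem tg_tab : ∀ (k : Fin 2) (i j l m : Fin 5), i ≠ j → l ≠ m → ¬ (l = j ∧ m = i) →
    tg (a5 k i j) (a5 k l m) = if l = j then a5 k i m else if m = i then a5 k l j else 240 := tg_both.1

theorem tg_ne_tab : ∀ (k n : Fin 2), k ≠ n → ∀ (i j l m : Fin 5), i ≠ j → l ≠ m → tg (a5 k i j) (a5 n l m) = 240 := tg_both.2

theorem hr_tab : ∀ (k : Fin 2) (i j : Fin 5) (x : Fin 8), i ≠ j →
    ((∑ t : Fin 4, (if (i ≤ t.castSucc ∧ t.castSucc < j) ∨ (j ≤ t.castSucc ∧ t.castSucc < i) then 1 else 0) *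
      cor chevE8 (a5 k t.castSucc t.succ) x) - cor chevE8 (a5 k i j) x) % 2 = 0 := by decide +kernel

private theorem hc_both : (∀ (k : Fin 2) (i j : Fin 5) (t : Fin 4), i ≠ j →
    ((∑ x : Fin 8, cor chevE8 (a5 k t.castSucc t.succ) x * car chevE8 x (a5 k i j)) -
      ((if j = t.castSucc then 1 else 0) + (if j = t.succ then 1 else 0) + (if t.castSucc = i then 1 else 0) +
        (if t.succ = i then 1 else 0))) % 2 = 0) ∧
    (∀ (k n : Fin 2), k ≠ n → ∀ (i j : Fin 5) (t : Fin 4), i ≠ j →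
    (∑ x : Fin 8, cor chevE8 (a5 k t.castSucc t.succ) x * car chevE8 x (a5 n i j)) % 2 = 0) := by
  have e1 : car chevE8 = fun i r => H90F.frc r fun r => H90F.nth 0 (chevE8.cartanSR.getD i #[]).toList r := by
    funext i r
    rw [H90F.frc_eq, ← H90F.nth_arr]
    rfl
  have e2 : cor chevE8 = fun r i => H90F.frc r fun r => (H90F.nth #[] chevE8.coroot.toList r).getD i 0 := by
    funext r i
    rw [H90F.frc_eq, ← H90F.nth_arr]
    rfl
  rw [e1, e2]
  decide +kernel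

theorem hc_tab : ∀ (k : Fin 2) (i j : Fin 5) (t : Fin 4), i ≠ j →
    ((∑ x : Fin 8, cor chevE8 (a5 k t.castSucc t.succ) x * car chevE8 x (a5 k i j)) -
      ((if j = t.castSucc then 1 else 0) + (if j = t.succ then 1 else 0) + (if t.castSucc = i then 1 else 0) +
        (if t.succ = i then 1 else 0))) % 2 = 0 := hc_both.1

theorem hc_ne_tab : ∀ (k n : Fin 2), k ≠ n → ∀ (i j : Fin 5) (t : Fin 4), i ≠ j →
    (∑ x : Fin 8, cor chevE8 (a5 k t.castSucc t.succ) x * car chevE8 x (a5 n i j)) % 2 = 0 := hc_both.2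

/-! ### the map `J` -/

theorem tz : (2 : KK) = 0 := two_zero

theorem ps_eq (M : Matrix (Fin 5) (Fin 5) KK) (t : Fin 4) :
    ps M t = ∑ u : Fin 5, if u ≤ t.castSucc then M u u else 0 := by
  rw [Fin.sum_univ_five]
  fin_cases t <;> simp only [ps, _root_.Fin.isValue, _root_.Fin.zero_eta, _root_.Matrix.cons_val_zero, _root_.Fin.castSucc_zero, _root_.Std.le_refl, ↓ _root_.reduceIte, _root_.nonpos_iff_eq_zero, _root_.one_ne_zero, _root_.add_zero, _root_.Fin.reduceEq, _root_.Fin.mk_one, _root_.Matrix.cons_val_one, _root_.Fin.castSucc_one, _root_.zero_le, _root_.Fin.reduceLE, _root_.Fin.reduceFinMk, _root_.Matrix.cons_val, _root_.Fin.reduceCastSucc]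

theorem ps_add' (M N : Matrix (Fin 5) (Fin 5) KK) (t : Fin 4) : ps (M + N) t = ps M t + ps N t := by
  rw [ps_eq, ps_eq, ps_eq, ← Finset.sum_add_distrib]
  refine Finset.sum_congr rfl fun u _ => ?_
  split_ifs
  · rfl
  · rw [add_zero]

theorem J_zero' (k : Fin 2) : J k 0 = 0 := by
  have h := J_add k 0 0
  rw [add_zero] at h
  exact left_eq_add.1 h

theorem ps_single {i j : Fin 5} (hij : i ≠ j) (c : KK) (t : Fin 4) : ps (single i j c) t = 0 := by
  rw [ps_eq]
  refine Finset.sum_eq_zero fun u _ => ?_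
  split_ifs
  · rw [single_apply, if_neg]
    rintro ⟨h1, h2⟩
    exact hij (h1.trans h2.symm)
  · rfl

theorem ps_single_diag (i : Fin 5) (c : KK) (t : Fin 4) : ps (single i i c) t = if i ≤ t.castSucc then c else 0 := by
  rw [ps_eq, Finset.sum_eq_single i]
  · rw [single_apply_same]
  · intro b _ hb
    split_ifs
    · rw [single_apply, if_neg (fun h => hb h.1.symm)]
    · rfl
  · intro h
    exact absurd (Finset.mem_univ _) h

theorem J_single (k : Fin 2) {i j : Fin 5} (hij : i ≠ j) (c : KK) : J k (single i j c) = c • er (a5 k i j) := by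
  unfold J
  rw [Finset.sum_eq_single i, Finset.sum_eq_single j, single_apply_same]
  · rw [Finset.sum_eq_zero (s := (Finset.univ : Finset (Fin 4))), add_zero]
    intro t _
    rw [ps_single hij, zero_smul]
  · intro b _ hb
    rw [single_apply, if_neg (fun h => hb h.2.symm), zero_smul]
  · intro h
    exact absurd (Finset.mem_univ _) h
  · intro b _ hb
    refine Finset.sum_eq_zero fun q _ => ?_
    rw [single_apply, if_neg (fun h => hb h.1.symm), zero_smul]
  · intro h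
    exact absurd (Finset.mem_univ _) h

theorem hr_sum (k : Fin 2) {i j : Fin 5} (hij : i ≠ j) : hr (a5 k i j) =
    ∑ t : Fin 4, (if (i ≤ t.castSucc ∧ t.castSucc < j) ∨ (j ≤ t.castSucc ∧ t.castSucc < i) then (1 : KK) else 0) •
      hr (a5 k t.castSucc t.succ) := by
  funext a
  rw [Finset.sum_apply]
  rcases a with a | a
  · have h := cast_congr (hr_tab k i j (a.cast rk8) hij)
    have e : ((a.cast rk8 : Fin 8) : ℕ) = a := rfl
    rw [e] at h
    change ((cor chevE8 (a5 k i j) a : ℤ) : KK) = _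
    rw [← h, Int.cast_sum]
    refine Finset.sum_congr rfl fun t _ => ?_
    rw [Pi.smul_apply, smul_eq_mul, Int.cast_mul]
    congr 1
    split_ifs
    · exact Int.cast_one
    · exact Int.cast_zero
  · rw [hr_inr]
    symm
    refine Finset.sum_eq_zero fun t _ => ?_
    rw [Pi.smul_apply, hr_inr, smul_zero]

theorem J_pair (k : Fin 2) {i j : Fin 5} (hij : i ≠ j) (c : KK) :
    J k (single i i c + single j j c) = c • hr (a5 k i j) := by
  rw [hr_sum k hij, Finset.smul_sum]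
  unfold J
  have h1 : (∑ p, ∑ q, (single i i c + single j j c) p q • er (a5 k p q)) = 0 := by
    refine Finset.sum_eq_zero fun p _ => Finset.sum_eq_zero fun q _ => ?_
    by_cases hpq : p = q
    · rw [hpq, diag_tab, er_ge le_rfl, smul_zero]
    · rw [Matrix.add_apply, single_apply, single_apply, if_neg (fun h => hpq (h.1.symm.trans h.2)),
        if_neg (fun h => hpq (h.1.symm.trans h.2)), add_zero, zero_smul]
  rw [h1, zero_add]
  refine Finset.sum_congr rfl fun t _ => ?_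
  rw [smul_smul]
  congr 1
  rw [ps_add', ps_single_diag, ps_single_diag]
  have hne : (i : ℕ) ≠ j := fun h => hij (Fin.ext h)
  by_cases h1 : i ≤ t.castSucc <;> by_cases h2 : j ≤ t.castSucc
  · rw [if_pos h1, if_pos h2, if_neg, mul_zero]
    · linear_combination c * tz
    · rintro (h | h)
      · exact absurd h.2 (not_lt.2 h2)
      · exact absurd h.2 (not_lt.2 h1)
  · rw [if_pos h1, if_neg h2, if_pos (Or.inl ⟨h1, not_le.1 h2⟩), mul_one, add_zero]
  · rw [if_neg h1, if_pos h2, if_pos (Or.inr ⟨h2, not_le.1 h1⟩), mul_one, zero_add]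
  · rw [if_neg h1, if_neg h2, if_neg, mul_zero, add_zero]
    rintro (h | h)
    · exact h1 h.1
    · exact h2 h.1

/-- induction on the matrices of trace zero -/
theorem tz_induction {P : Matrix (Fin 5) (Fin 5) KK → Prop}
    (hadd : ∀ M N : Matrix (Fin 5) (Fin 5) KK, M.trace = 0 → N.trace = 0 → P M → P N → P (M + N))
    (hE : ∀ i j : Fin 5, i ≠ j → ∀ c : KK, P (single i j c))
    (hD : ∀ (t : Fin 4) (c : KK), P (single t.castSucc t.castSucc c + single t.succ t.succ c))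
    {M : Matrix (Fin 5) (Fin 5) KK} (hM : M.trace = 0) : P M := by
  have hadd' : ∀ A B : Matrix (Fin 5) (Fin 5) KK, (A.trace = 0 ∧ P A) → (B.trace = 0 ∧ P B) →
      ((A + B).trace = 0 ∧ P (A + B)) := fun A B h1 h2 => by
    refine ⟨?_, hadd A B h1.1 h2.1 h1.2 h2.2⟩
    rw [trace_add, h1.1, h2.1, add_zero]
  have h0 : (0 : Matrix (Fin 5) (Fin 5) KK).trace = 0 ∧ P 0 := by
    refine ⟨trace_zero _ _, ?_⟩
    have h := hE 0 1 (by decide) 0
    rwa [single_zero] at h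
  have h1 : M = (∑ i, ∑ j, if i = j then 0 else single i j (M i j)) +
      ∑ t : Fin 4, (single t.castSucc t.castSucc (ps M t) + single t.succ t.succ (ps M t)) := by
    ext p q
    rw [Matrix.add_apply, Matrix.sum_apply, Matrix.sum_apply]
    have h2 : ∑ i : Fin 5, (∑ j : Fin 5, if i = j then (0 : Matrix (Fin 5) (Fin 5) KK) else single i j (M i j)) p q =
        if p = q then 0 else M p q := by
      rw [Finset.sum_eq_single p]
      · rw [Matrix.sum_apply, Finset.sum_eq_single q]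
        · split_ifs
          · rfl
          · rw [single_apply_same]
        · intro b _ hb
          split_ifs
          · rfl
          · rw [single_apply, if_neg (fun h => hb h.2)]
        · intro h
          exact absurd (Finset.mem_univ _) h
      · intro b _ hb
        rw [Matrix.sum_apply]
        refine Finset.sum_eq_zero fun j _ => ?_
        split_ifs
        · rfl
        · rw [single_apply, if_neg (fun h => hb h.1)]
      · intro h
        exact absurd (Finset.mem_univ _) h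
    rw [h2]
    by_cases hpq : p = q
    · subst hpq
      rw [if_pos rfl, zero_add, Fin.sum_univ_four]
      have h3 : M 0 0 + M 1 1 + M 2 2 + M 3 3 + M 4 4 = 0 := by
        rw [trace, Fin.sum_univ_five] at hM
        exact hM
      simp only [Matrix.add_apply, single_apply, and_self]
      fin_cases p
      · simp [ps]
      · simp [ps]
        linear_combination (-M 0 0) * tz
      · simp [ps]
        linear_combination (-M 0 0 - M 1 1) * tz
      · simp [ps]
        linear_combination (-M 0 0 - M 1 1 - M 2 2) * tz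
      · simp [ps]
        linear_combination h3 - (M 0 0 + M 1 1 + M 2 2 + M 3 3) * tz
    · rw [if_neg hpq, Finset.sum_eq_zero, add_zero]
      intro t _
      rw [Matrix.add_apply, single_apply, single_apply, if_neg (fun h => hpq (h.1.symm.trans h.2)),
        if_neg (fun h => hpq (h.1.symm.trans h.2)), add_zero]
  have h2 : M.trace = 0 ∧ P M := by
    rw [h1]
    refine hadd' _ _ ?_ ?_
    · refine Finset.sum_induction _ (fun A : Matrix (Fin 5) (Fin 5) KK => A.trace = 0 ∧ P A) hadd' h0 fun i _ => ?_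
      refine Finset.sum_induction _ (fun A : Matrix (Fin 5) (Fin 5) KK => A.trace = 0 ∧ P A) hadd' h0 fun j _ => ?_
      split_ifs with hij
      · exact h0
      · refine ⟨?_, hE i j hij _⟩
        rw [trace_single_eq_of_ne _ _ _ hij]
    · refine Finset.sum_induction _ (fun A : Matrix (Fin 5) (Fin 5) KK => A.trace = 0 ∧ P A) hadd' h0 fun t _ => ?_
      refine ⟨?_, hD t _⟩
      rw [trace_add, trace_single_eq_same, trace_single_eq_same]
      linear_combination (ps M t) * tz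
  exact h2.2

/-! ### the bracket -/

theorem br_EE (k : Fin 2) {i j l m : Fin 5} (hij : i ≠ j) (hlm : l ≠ m) (c d : KK) :
    brK (J k (single i j c)) (J k (single l m d)) = J k (single i j c * single l m d + single l m d * single i j c) := by
  have hl := (lt_tab k i j hij).1
  have hl' := (lt_tab k l m hlm).1
  rw [J_single k hij, J_single k hlm, br_smul_l, br_smul_r, smul_smul]
  by_cases h : l = j ∧ m = i
  · obtain ⟨rfl, rfl⟩ := h
    rw [← (lt_tab k m l hij).2, br_neg hl, single_mul_single_same, single_mul_single_same, mul_comm d c, J_pair k hij]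
  · have hn : a5 k l m ≠ 239 - a5 k i j := by
      rw [(lt_tab k i j hij).2]
      intro h1
      obtain ⟨-, h2, h3⟩ := inj_tab _ _ _ _ _ _ hlm h1
      exact h ⟨h2, h3⟩
    rw [br_rr hl hl' hn, tg_tab k i j l m hij hlm h]
    by_cases h1 : l = j
    · subst h1
      have h2 : m ≠ i := fun h3 => h ⟨rfl, h3⟩
      rw [if_pos rfl, single_mul_single_same, single_mul_single_of_ne _ _ _ _ h2, add_zero, J_single k h2.symm]
    · rw [if_neg h1, single_mul_single_of_ne _ _ _ _ (fun h3 => h1 h3.symm), zero_add]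
      by_cases h2 : m = i
      · subst h2
        rw [if_pos rfl, single_mul_single_same, J_single k h1, mul_comm]
      · rw [if_neg h2, er_ge le_rfl, smul_zero, single_mul_single_of_ne _ _ _ _ h2, J_zero']

theorem single_mul_diag (i j t : Fin 5) (c d : KK) :
    single i j c * single t t d = single i j (if j = t then c * d else 0) := by
  split_ifs with h
  · subst h
    rw [single_mul_single_same]
  · rw [single_mul_single_of_ne _ _ _ _ h, single_zero]

theorem diag_mul_single (i j t : Fin 5) (c d : KK) :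
    single t t d * single i j c = single i j (if t = i then c * d else 0) := by
  split_ifs with h
  · subst h
    rw [single_mul_single_same, mul_comm]
  · rw [single_mul_single_of_ne _ _ _ _ h, single_zero]

theorem tne (t : Fin 4) : t.castSucc ≠ t.succ := (Fin.castSucc_lt_succ).ne

theorem hc_val (k : Fin 2) {i j : Fin 5} (hij : i ≠ j) (t : Fin 4) :
    ∑ x : Fin chevE8.rank, ((cor chevE8 (a5 k t.castSucc t.succ) x : ℤ) : KK) * ((car chevE8 x (a5 k i j) : ℤ) : KK) =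
      (if j = t.castSucc then 1 else 0) + (if j = t.succ then 1 else 0) + (if t.castSucc = i then 1 else 0) +
        (if t.succ = i then 1 else 0) := by
  have h := cast_congr (hc_tab k i j t hij)
  push_cast at h
  rw [← h]
  exact Fintype.sum_equiv (finCongr rk8) _ _ fun x => rfl

theorem br_ED (k : Fin 2) {i j : Fin 5} (hij : i ≠ j) (t : Fin 4) (c d : KK) :
    brK (J k (single i j c)) (J k (single t.castSucc t.castSucc d + single t.succ t.succ d)) =
      J k (single i j c * (single t.castSucc t.castSucc d + single t.succ t.succ d) +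
        (single t.castSucc t.castSucc d + single t.succ t.succ d) * single i j c) := by
  have hl := (lt_tab k i j hij).1
  rw [mul_add, add_mul, single_mul_diag, single_mul_diag, diag_mul_single, diag_mul_single, ← single_add,
    ← single_add, ← single_add, J_single k hij, J_single k hij, J_pair k (tne t), br_smul_l, br_smul_r]
  unfold hr
  rw [br_er_hv _ hl, hc_val k hij, smul_smul, smul_smul]
  congr 1
  split_ifs <;> ring

theorem br_DD (k : Fin 2) (t u : Fin 4) (c d : KK) :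
    brK (J k (single t.castSucc t.castSucc c + single t.succ t.succ c))
        (J k (single u.castSucc u.castSucc d + single u.succ u.succ d)) =
      J k ((single t.castSucc t.castSucc c + single t.succ t.succ c) * (single u.castSucc u.castSucc d + single u.succ u.succ d) +
        (single u.castSucc u.castSucc d + single u.succ u.succ d) * (single t.castSucc t.castSucc c + single t.succ t.succ c)) := by
  have h1 : (single t.castSucc t.castSucc c + single t.succ t.succ c : Matrix (Fin 5) (Fin 5) KK) *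
      (single u.castSucc u.castSucc d + single u.succ u.succ d) =
      (single u.castSucc u.castSucc d + single u.succ u.succ d) * (single t.castSucc t.castSucc c + single t.succ t.succ c) := by
    have h2 : ∀ (i : Fin 5) (e : KK), (single i i e : Matrix (Fin 5) (Fin 5) KK) = diagonal (Pi.single i e) := by
      intro i e
      rw [diagonal_single]
    rw [h2, h2, h2, h2, diagonal_add, diagonal_add, diagonal_mul_diagonal, diagonal_mul_diagonal]
    congr 1
    funext i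
    rw [mul_comm]
  rw [h1, J_pair k (tne t), J_pair k (tne u), br_smul_l, br_smul_r]
  unfold hr
  rw [br_hh, smul_zero, smul_zero, J_add, add_self']

/-- **the bracket on one component** -/
theorem J_br (k : Fin 2) {M N : Matrix (Fin 5) (Fin 5) KK} (hM : M.trace = 0) (hN : N.trace = 0) :
    brK (J k M) (J k N) = J k (M * N + N * M) := by
  revert hN
  refine tz_induction (P := fun M => ∀ {N : Matrix (Fin 5) (Fin 5) KK}, N.trace = 0 →
    brK (J k M) (J k N) = J k (M * N + N * M)) ?_ ?_ ?_ hM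
  · intro A B _ _ hA hB N hN
    rw [J_add, br_add_l, hA hN, hB hN, ← J_add]
    congr 1
    noncomm_ring
  · intro i j hij c N hN
    refine tz_induction (P := fun N => brK (J k (single i j c)) (J k N) = J k (single i j c * N + N * single i j c))
      ?_ ?_ ?_ hN
    · intro A B _ _ hA hB
      rw [J_add k A B, br_add_r, hA, hB, ← J_add]
      congr 1
      noncomm_ring
    · intro l m hlm d
      exact br_EE k hij hlm c d
    · intro t d
      exact br_ED k hij t c d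
  · intro t c N hN
    refine tz_induction (P := fun N => brK (J k (single t.castSucc t.castSucc c + single t.succ t.succ c)) (J k N) =
      J k ((single t.castSucc t.castSucc c + single t.succ t.succ c) * N +
        N * (single t.castSucc t.castSucc c + single t.succ t.succ c))) ?_ ?_ ?_ hN
    · intro A B _ _ hA hB
      rw [J_add k A B, br_add_r, hA, hB, ← J_add]
      congr 1
      noncomm_ring
    · intro i j hij d
      rw [br_comm, br_ED k hij t d c, add_comm]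
    · intro u d
      exact br_DD k t u c d

/-! ### the restricted square -/

/-- **the restricted square on one component** -/
theorem J_sq (k : Fin 2) {M : Matrix (Fin 5) (Fin 5) KK} (hM : M.trace = 0) : Cfsg.Agent.H201.L34.sq (J k M) = J k (M * M) := by
  refine tz_induction (P := fun M => Cfsg.Agent.H201.L34.sq (J k M) = J k (M * M)) ?_ ?_ ?_ hM
  · intro A B hA0 hB0 hA hB
    rw [J_add, sq_add, hA, hB, J_br k hA0 hB0, ← J_add, ← J_add]
    congr 1
    noncomm_ring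
  · intro i j hij c
    rw [J_single k hij, sq_smul, sq_er, smul_zero, single_mul_single_of_ne _ _ _ _ hij.symm, J_zero']
  · intro t c
    have h1 : (single t.castSucc t.castSucc c + single t.succ t.succ c : Matrix (Fin 5) (Fin 5) KK) *
        (single t.castSucc t.castSucc c + single t.succ t.succ c) =
        single t.castSucc t.castSucc (c * c) + single t.succ t.succ (c * c) := by
      rw [mul_add, add_mul, add_mul, single_mul_single_same, single_mul_single_same,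
        single_mul_single_of_ne _ _ _ _ (tne t), single_mul_single_of_ne _ _ _ _ (tne t).symm, add_zero, zero_add]
    rw [h1, J_pair k (tne t), J_pair k (tne t), sq_smul, sq_hr, pow_two]

/-! ### the two components commute -/

theorem J_left_zero (k : Fin 2) (M : Matrix (Fin 5) (Fin 5) KK) {v : LK}
    (h1 : ∀ i j : Fin 5, i ≠ j → brK (er (a5 k i j)) v = 0)
    (h2 : ∀ t : Fin 4, brK (hr (a5 k t.castSucc t.succ)) v = 0) : brK (J k M) v = 0 := by
  have h0 : ∀ x, brM.flip v x = brK x v := fun x => rfl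
  have h3 : brM.flip v (J k M) = 0 := by
    unfold J
    rw [map_add, map_sum, map_sum, Finset.sum_eq_zero, Finset.sum_eq_zero, add_zero]
    · intro t _
      rw [map_smul]
      rw [h0, h2 t, smul_zero]
    · intro i _
      rw [map_sum]
      refine Finset.sum_eq_zero fun j _ => ?_
      rw [map_smul]
      by_cases hij : i = j
      · rw [hij, diag_tab, er_ge le_rfl, map_zero, smul_zero]
      · rw [h0, h1 i j hij, smul_zero]
  rw [← h0]
  exact h3

theorem er_er_ne {k l : Fin 2} (h : k ≠ l) {i j m n : Fin 5} (hij : i ≠ j) (hmn : m ≠ n) :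
    brK (er (a5 k i j)) (er (a5 l m n)) = 0 := by
  rw [br_rr (lt_tab k i j hij).1 (lt_tab l m n hmn).1, tg_ne_tab k l h i j m n hij hmn, er_ge le_rfl]
  rw [(lt_tab k i j hij).2]
  intro h1
  exact h (inj_tab _ _ _ _ _ _ hmn h1).1.symm

theorem er_hr_ne {k l : Fin 2} (h : k ≠ l) {i j : Fin 5} (hij : i ≠ j) (t : Fin 4) :
    brK (er (a5 k i j)) (hr (a5 l t.castSucc t.succ)) = 0 := by
  unfold hr
  rw [br_er_hv _ (lt_tab k i j hij).1]
  have h1 := cast_even (hc_ne_tab l k (Ne.symm h) i j t hij)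
  push_cast at h1
  have h2 : ∑ x : Fin chevE8.rank, ((cor chevE8 (a5 l t.castSucc t.succ) x : ℤ) : KK) *
      ((car chevE8 x (a5 k i j) : ℤ) : KK) = 0 := by
    rw [← h1]
    exact Fintype.sum_equiv (finCongr rk8) _ _ fun x => rfl
  rw [h2, zero_smul]

theorem er_J_ne {k l : Fin 2} (h : k ≠ l) {a b : Fin 5} (hab : a ≠ b) (N : Matrix (Fin 5) (Fin 5) KK) :
    brK (er (a5 k a b)) (J l N) = 0 := by
  rw [br_comm]
  refine J_left_zero l N (fun i j hij => ?_) fun t => ?_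
  · exact er_er_ne h.symm hij hab
  · rw [br_comm]
    exact er_hr_ne h hab t

/-- **the two components commute** -/
theorem J_br_ne {k l : Fin 2} (h : k ≠ l) (M N : Matrix (Fin 5) (Fin 5) KK) : brK (J k M) (J l N) = 0 := by
  refine J_left_zero k M (fun i j hij => er_J_ne h hij N) fun t => ?_
  rw [br_comm]
  refine J_left_zero l N (fun i j hij => ?_) fun u => ?_
  · exact er_hr_ne h.symm hij t
  · exact br_hh _ _

/-! ### the root elements -/

theorem J_inr (k : Fin 2) (M : Matrix (Fin 5) (Fin 5) KK) (s : Fin chevE8.nroots) :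
    J k M (Sum.inr s) = ∑ i, ∑ j, if a5 k i j = s then M i j else 0 := by
  unfold J
  rw [Pi.add_apply, Finset.sum_apply, Finset.sum_apply, Finset.sum_eq_zero (s := (Finset.univ : Finset (Fin 4))),
    add_zero]
  · refine Finset.sum_congr rfl fun i _ => ?_
    rw [Finset.sum_apply]
    refine Finset.sum_congr rfl fun j _ => ?_
    rw [Pi.smul_apply, er_inr, smul_eq_mul]
    split_ifs
    · rw [mul_one]
    · rw [mul_zero]
  · intro t _
    rw [Pi.smul_apply, hr_inr, smul_zero]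

/-- the coordinate at `e_b - e_a` -/
theorem J_coord (k : Fin 2) {a b : Fin 5} (hab : a ≠ b) (M : Matrix (Fin 5) (Fin 5) KK) (s : Fin chevE8.nroots)
    (hs : (s : ℕ) = 239 - a5 k a b) : J k M (Sum.inr s) = M b a := by
  rw [(lt_tab k a b hab).2] at hs
  rw [J_inr, Finset.sum_eq_single b, Finset.sum_eq_single a, if_pos hs.symm]
  · intro j _ hj
    rw [if_neg]
    intro h
    exact hj (inj_tab _ _ _ _ _ _ hab.symm (hs.symm.trans h.symm)).2.2.symm
  · intro h
    exact absurd (Finset.mem_univ _) h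
  · intro i _ hi
    refine Finset.sum_eq_zero fun j _ => ?_
    rw [if_neg]
    intro h
    exact hi (inj_tab _ _ _ _ _ _ hab.symm (hs.symm.trans h.symm)).2.1.symm
  · intro h
    exact absurd (Finset.mem_univ _) h

theorem J_coord_ne {k l : Fin 2} (h : k ≠ l) {a b : Fin 5} (hab : a ≠ b) (M : Matrix (Fin 5) (Fin 5) KK)
    (s : Fin chevE8.nroots) (hs : (s : ℕ) = 239 - a5 k a b) : J l M (Sum.inr s) = 0 := by
  rw [(lt_tab k a b hab).2] at hs
  rw [J_inr]
  refine Finset.sum_eq_zero fun i _ => Finset.sum_eq_zero fun j _ => ?_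
  rw [if_neg]
  intro h1
  exact h (inj_tab _ _ _ _ _ _ hab.symm (hs.symm.trans h1.symm)).1

/-- **the root elements of one component act by conjugation** -/
theorem J_xr (k : Fin 2) {a b : Fin 5} (hab : a ≠ b) (c : KK) {M : Matrix (Fin 5) (Fin 5) KK} (hM : M.trace = 0) :
    aK (xr (a5 k a b) c) (J k M) = J k ((1 + single a b c) * M * (1 + single a b c)) := by
  have hr := (lt_tab k a b hab).1
  have h1 : (1 + single a b c) * M * (1 + single a b c) =
      M + (single a b c * M + M * single a b c) + single a b (c ^ 2 * M b a) := by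
    have h2 : single a b c * M * single a b c = single a b (c ^ 2 * M b a) := by
      rw [single_mul_mul_single]
      congr 1
      ring
    rw [← h2]
    noncomm_ring
  have ht : (single a b c : Matrix (Fin 5) (Fin 5) KK).trace = 0 := trace_single_eq_of_ne _ _ _ hab
  rw [h1, J_add, J_add, ← J_br k ht hM, J_single k hab, J_single k hab, br_smul_l, aK_xr hr,
    J_coord k hab M _ rfl]

/-- **the root elements of the other component act trivially** -/
theorem J_xr_ne {k l : Fin 2} (h : k ≠ l) {a b : Fin 5} (hab : a ≠ b) (c : KK) (M : Matrix (Fin 5) (Fin 5) KK) :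
    aK (xr (a5 k a b) c) (J l M) = J l M := by
  rw [aK_xr (lt_tab k a b hab).1, er_J_ne h hab, smul_zero, add_zero, J_coord_ne h hab M _ rfl, mul_zero, zero_smul,
    add_zero]

end Cfsg.Agent.H531.L34
end

-- part: H958/L34/Adj
section
/-!
# S5917 (`L₃(4)` in `E₈(2)`), the element of order 5: `P_J`, `P_J_ne` (helper958)
-/

set_option autoImplicit false
set_option linter.unusedSectionVars false

namespace Cfsg.Agent.H958.L34

open Cfsg Cfsg.Lie Cfsg.Lie.ChevalleyDatum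
open Cfsg.Agent.H939.L64
open Cfsg.Agent.H413.L64
open Cfsg.Agent.H413.L16
open Cfsg.Agent.H876.L64 hiding v5
open Cfsg.Agent.H201.L34

/-- **`SL₅` acts by conjugation** -/
theorem P_J (k : Fin 2) (g : S5) {M : M5} (hM : M.trace = 0) : aK (P k g) (J k M) = J k (g.1 * M * (g⁻¹).1) :=
  P_J_of k (fun hab c _ h => Cfsg.Agent.H531.L34.J_xr k hab c h) g hM

/-- **`SL₅` fixes the other component** -/
theorem P_J_ne {k l : Fin 2} (h : k ≠ l) (g : S5) (M : M5) : aK (P k g) (J l M) = J l M :=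
  P_J_ne_of (fun hab c M => Cfsg.Agent.H531.L34.J_xr_ne h hab c M) g M

end Cfsg.Agent.H958.L34
end

-- part: H159/L34/YThirteen
section
/-!
# An element of order 13 commuting with a hermitian matrix `X`, `X^4 + X^2 + X = 0`

`θ` is any additive, anti-multiplicative map of the matrix algebra, semilinear for `c ↦ c ^ 4`,
with `det (θ A) = det A ^ 4`. If `θ X = X`, `X ≠ 0` and `X ^ 4 + X ^ 2 + X = 0` (char. 2), there is a
polynomial `g` in `X` with `g * θ g = 1`, `det g = 1`, `g ^ 13 = 1`, `g ≠ 1`.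
-/

set_option autoImplicit false

namespace Cfsg.Agent.H159.L34.Y13

open Polynomial

variable {K : Type*} [Field K]

/-- the three idempotent polynomials -/
noncomputable def p1 (a : K) : K[X] := X ^ 3 + C a * X ^ 2 + C a ^ 6 * X
/-- second -/
noncomputable def p2 (a : K) : K[X] := X ^ 3 + C a ^ 2 * X ^ 2 + C a ^ 5 * X
/-- third -/
noncomputable def p4 (a : K) : K[X] := X ^ 3 + C a ^ 4 * X ^ 2 + C a ^ 3 * X
/-- the modulus -/
noncomputable def md : K[X] := X ^ 4 + X ^ 2 + X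

theorem hC {a : K} (ha : a ^ 3 + a + 1 = 0) : (C a ^ 3 + C a + 1 : K[X]) = 0 := by
  rw [← C_1, ← C_pow, ← C_add, ← C_add, ha, C_0]

theorem hT (h2 : (2 : K) = 0) : (2 : K[X]) = 0 := by
  rw [← map_ofNat (C : K →+* K[X]) 2, h2, C_0]

theorem m11 {a : K} (ha : a ^ 3 + a + 1 = 0) (h2 : (2 : K) = 0) :
    p1 a * p1 a = p1 a + ((2) * (C a)^6 + (1) * (C a)^2 + (2) * (C a)^1 * X^1 + (1) * X^2 + (-1)) * md := by
  have hA := hC ha
  have hB := hT h2
  unfold p1 md
  linear_combination ((1) * (C a)^9 * X^2 + (-1) * (C a)^7 * X^2 + (-1) * (C a)^6 * X^2 + (1) * (C a)^5 * X^2 + (2) * (C a)^4 * X^3 + (2) * (C a)^4 * X^2 + (-2) * (C a)^3 * X^2 + (-3) * (C a)^3 * X^1 + (-2) * (C a)^2 * X^3 + (-3) * (C a)^2 * X^2 + (-2) * (C a)^1 * X^3 + (3) * (C a)^1 * X^1 + (2) * X^3 + (5) * X^2 + (3) * X^1) * hA + ((2) * (C a)^2 * X^3 + (1) * (C a)^2 * X^2 + (-2) * (C a)^2 * X^1 + (-1) * (C a)^1 * X^3 + (-4) * (C a)^1 * X^2 + (-3) * (C a)^1 * X^1 + (-2)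 * X^3 + (-2) * X^2 + (-1) * X^1) * hB

theorem m22 {a : K} (ha : a ^ 3 + a + 1 = 0) (h2 : (2 : K) = 0) :
    p2 a * p2 a = p2 a + ((2) * (C a)^5 + (1) * (C a)^4 + (2) * (C a)^2 * X^1 + (1) * X^2 + (-1)) * md := by
  have hA := hC ha
  have hB := hT h2
  unfold p2 md
  linear_combination ((1) * (C a)^7 * X^2 + (-1) * (C a)^5 * X^2 + (2) * (C a)^4 * X^3 + (-1) * (C a)^4 * X^2 + (1) * (C a)^3 * X^2 + (-2) * (C a)^2 * X^3 + (-3) * (C a)^2 * X^1 + (-2) * (C a)^1 * X^3 + (-1) * (C a)^1 * X^2 + (-1) * (C a)^1 * X^1 + (2) * X^3 + (-1) * X^2 + (3) * X^1) * hA + ((1) * (C a)^2 * X^3 + (-1) * (C a)^2 * X^2 + (2) * (C a)^2 * X^1 + (1) * (C a)^1 * X^2 + (-1) * (C a)^1 * X^1 + (-2) * X^3 + (1) * X^2 + (-1) * X^1) * hB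

theorem m44 {a : K} (ha : a ^ 3 + a + 1 = 0) (h2 : (2 : K) = 0) :
    p4 a * p4 a = p4 a + ((1) * (C a)^8 + (2) * (C a)^4 * X^1 + (2) * (C a)^3 + (1) * X^2 + (-1)) * md := by
  have hA := hC ha
  have hB := hT h2
  unfold p4 md
  linear_combination ((-1) * (C a)^5 * X^2 + (-1) * (C a)^5 * X^1 + (2) * (C a)^4 * X^3 + (2) * (C a)^3 * X^2 + (1) * (C a)^3 * X^1 + (-2) * (C a)^2 * X^3 + (1) * (C a)^2 * X^2 + (1) * (C a)^2 * X^1 + (-4) * (C a)^1 * X^3 + (-5) * (C a)^1 * X^2 + (-1) * (C a)^1 * X^1 + (2) * X^3 + (-5) * X^2 + (-5) * X^1) * hA + ((3) * (C a)^2 * X^3 + (2) * (C a)^2 * X^2 + (1) * (C a)^1 * X^3 + (5) * (C a)^1 * X^2 + (3) * (C a)^1 * X^1 + (-2) * X^3 + (3) * X^2 + (3) * X^1) * hB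

theorem m12 {a : K} (ha : a ^ 3 + a + 1 = 0) (h2 : (2 : K) = 0) :
    p1 a * p2 a = ((1) * (C a)^6 + (1) * (C a)^5 + (1) * (C a)^3 + (1) * (C a)^2 * X^1 + (1) * (C a)^1 * X^1 + (1) * X^2 + (-1)) * md := by
  have hA := hC ha
  have hB := hT h2
  unfold p1 p2 md
  linear_combination ((1) * (C a)^8 * X^2 + (-1) * (C a)^6 * X^2 + (1) * (C a)^5 * X^3 + (-1) * (C a)^5 * X^2 + (1) * (C a)^4 * X^2 + (1) * (C a)^3 * X^2 + (-1) * (C a)^3 * X^1 + (-1) * (C a)^2 * X^3 + (-1) * (C a)^2 * X^2 + (-1) * (C a)^2 * X^1 + (-2) * (C a)^1 * X^2 + (1) * (C a)^1 * X^1 + (1) * X^3 + (-1) * X^2 + (1) * X^1) * hA + ((1) * (C a)^2 * X^2 + (-1) * (C a)^1 * X^3 + (1) * (C a)^1 * X^2 + (-1) * (C a)^1 * X^1 + (-1) * X^3 + (1) * X^2) * hB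

theorem m14 {a : K} (ha : a ^ 3 + a + 1 = 0) (h2 : (2 : K) = 0) :
    p1 a * p4 a = ((1) * (C a)^6 + (1) * (C a)^5 + (1) * (C a)^4 * X^1 + (1) * (C a)^3 + (1) * (C a)^1 * X^1 + (1) * X^2 + (-1)) * md := by
  have hA := hC ha
  have hB := hT h2
  unfold p1 p4 md
  linear_combination ((1) * (C a)^7 * X^3 + (1) * (C a)^6 * X^2 + (-1) * (C a)^5 * X^3 + (-1) * (C a)^4 * X^3 + (-1) * (C a)^4 * X^2 + (1) * (C a)^3 * X^3 + (-2) * (C a)^3 * X^2 + (-1) * (C a)^3 * X^1 + (2) * (C a)^2 * X^3 + (-1) * (C a)^2 * X^1 + (2) * (C a)^1 * X^2 + (1) * (C a)^1 * X^1 + (-3) * X^3 + (1) * X^2 + (1) * X^1) * hA + ((-1) * (C a)^2 * X^3 + (-1) * (C a)^2 * X^2 + (1) * (C a)^1 * X^3 + (-2) * (C a)^1 * X^2 + (-1) * (C a)^1 * X^1 + (1) * X^3) * hB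

theorem m24 {a : K} (ha : a ^ 3 + a + 1 = 0) (h2 : (2 : K) = 0) :
    p2 a * p4 a = ((1) * (C a)^6 + (1) * (C a)^5 + (1) * (C a)^4 * X^1 + (1) * (C a)^3 + (1) * (C a)^2 * X^1 + (1) * X^2 + (-1)) * md := by
  have hA := hC ha
  have hB := hT h2
  unfold p2 p4 md
  linear_combination ((1) * (C a)^6 * X^3 + (1) * (C a)^5 * X^2 + (-1) * (C a)^4 * X^3 + (-1) * (C a)^3 * X^3 + (-2) * (C a)^3 * X^2 + (-1) * (C a)^3 * X^1 + (2) * (C a)^2 * X^3 + (-2) * (C a)^2 * X^2 + (-1) * (C a)^2 * X^1 + (1) * (C a)^1 * X^3 + (1) * (C a)^1 * X^2 + (1) * (C a)^1 * X^1 + (-1) * X^3 + (3) * X^2 + (1) * X^1) * hA + ((-2) * (C a)^2 * X^3 + (-2) * (C a)^1 * X^2 + (-1) * (C a)^1 * X^1 + (-1) * X^2) * hB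

theorem mX {a : K} (ha : a ^ 3 + a + 1 = 0) (h2 : (2 : K) = 0) :
    C a * p1 a + C a ^ 2 * p2 a + C a ^ 4 * p4 a = X := by
  have hA := hC ha
  have hB := hT h2
  unfold p1 p2 p4
  linear_combination ((1) * (C a)^5 * X^2 + (3) * (C a)^4 * X^1 + (-1) * (C a)^3 * X^2 + (-1) * (C a)^2 * X^2 + (-3) * (C a)^2 * X^1 + (1) * (C a)^1 * X^3 + (2) * (C a)^1 * X^2 + (-3) * (C a)^1 * X^1 + (2) * X^2 + (3) * X^1) * hA + ((3) * (C a)^2 * X^1 + (-2) * (C a)^1 * X^2 + (-1) * X^2 + (-2) * X^1) * hB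

section mat

set_option linter.unusedSectionVars false

variable {n : Type*} [Fintype n] [DecidableEq n]

theorem comm (X : Matrix n n K) (p q : K[X]) :
    aeval X p * aeval X q = aeval X q * aeval X p := by
  rw [← map_mul, mul_comm, map_mul]

theorem a_p1 (X : Matrix n n K) (a : K) :
    aeval X (p1 a) = X ^ 3 + a • X ^ 2 + a ^ 6 • X := by
  simp [p1, Algebra.smul_def]

theorem a_p2 (X : Matrix n n K) (a : K) :
    aeval X (p2 a) = X ^ 3 + a ^ 2 • X ^ 2 + a ^ 5 • X := by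
  simp [p2, Algebra.smul_def]

theorem a_p4 (X : Matrix n n K) (a : K) :
    aeval X (p4 a) = X ^ 3 + a ^ 4 • X ^ 2 + a ^ 3 • X := by
  simp [p4, Algebra.smul_def]

theorem a_md {X : Matrix n n K} (hX : X ^ 4 + X ^ 2 + X = 0) : aeval X (md : K[X]) = 0 := by
  simp [md, hX]

/-- `1` off `e`, `c` on `e` -/
def F (c : K) (e : Matrix n n K) : Matrix n n K := 1 + (c - 1) • e

theorem F_one (e : Matrix n n K) : F 1 e = 1 := by simp [F]

theorem F_mul {e : Matrix n n K} (he : e * e = e) (c d : K) : F c e * F d e = F (c * d) e := by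
  have : F c e * F d e = 1 + ((c - 1) + (d - 1)) • e + ((c - 1) * (d - 1)) • (e * e) := by
    unfold F
    simp only [add_mul, mul_add, one_mul, mul_one, smul_mul_assoc, mul_smul_comm]
    module
  rw [this, he, F]
  module

theorem F_pow {e : Matrix n n K} (he : e * e = e) (c : K) (k : ℕ) : F c e ^ k = F (c ^ k) e := by
  induction k with
  | zero => simp [F_one]
  | succ k ih => rw [pow_succ, ih, F_mul he, pow_succ]

theorem e_F {e : Matrix n n K} (he : e * e = e) (c : K) : e * F c e = c • e := by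
  unfold F
  rw [mul_add, mul_one, mul_smul_comm, he]
  module

theorem e_F' {e f : Matrix n n K} (he : e * f = 0) (c : K) : e * F c f = e := by
  unfold F
  rw [mul_add, mul_one, mul_smul_comm, he, smul_zero, add_zero]

/-- a polynomial form of `F` -/
noncomputable def Fp (c : K) (p : K[X]) : K[X] := 1 + C (c - 1) * p

theorem a_Fp (X : Matrix n n K) (c : K) (p : K[X]) : aeval X (Fp c p) = F c (aeval X p) := by
  simp [Fp, F, Algebra.smul_def]

/-- abstract semilinear anti-automorphism of the matrix algebra -/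
structure Anti (θ : Matrix n n K → Matrix n n K) : Prop where
  add : ∀ A B, θ (A + B) = θ A + θ B
  mul : ∀ A B, θ (A * B) = θ B * θ A
  smul : ∀ (c : K) A, θ (c • A) = c ^ 4 • θ A
  one : θ 1 = 1
  det : ∀ A, (θ A).det = A.det ^ 4

theorem Anti.F {θ : Matrix n n K → Matrix n n K} (h : Anti θ) (h2 : (2 : K) = 0) (c : K)
    (e : Matrix n n K) : θ (F c e) = Y13.F (c ^ 4) (θ e) := by
  unfold Y13.F
  rw [h.add, h.one, h.smul]
  have : (c - 1) ^ 4 = c ^ 4 - 1 := by
    linear_combination (-2 * c ^ 3 + 3 * c ^ 2 - 2 * c + 1) * h2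
  rw [this]

theorem Anti.X2 {θ : Matrix n n K → Matrix n n K} (h : Anti θ) {X : Matrix n n K}
    (hX : θ X = X) : θ (X ^ 2) = X ^ 2 := by
  rw [pow_two, h.mul, hX]

theorem Anti.X3 {θ : Matrix n n K → Matrix n n K} (h : Anti θ) {X : Matrix n n K}
    (hX : θ X = X) : θ (X ^ 3) = X ^ 3 := by
  calc θ (X ^ 3) = θ (X ^ 2 * X) := by rw [← pow_succ]
    _ = X * X ^ 2 := by rw [h.mul, hX, h.X2 hX]
    _ = X ^ 3 := by rw [← pow_succ']

theorem a7 {a : K} (ha : a ^ 3 + a + 1 = 0) (h2 : (2 : K) = 0) : a ^ 7 = 1 := by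
  linear_combination (a ^ 4 - a ^ 2 - a + 1) * ha + (a ^ 2 - 1) * h2

theorem th_lin {θ : Matrix n n K → Matrix n n K} (h : Anti θ) {X : Matrix n n K}
    (hX : θ X = X) (b c : K) :
    θ (X ^ 3 + b • X ^ 2 + c • X) = X ^ 3 + b ^ 4 • X ^ 2 + c ^ 4 • X := by
  rw [h.add, h.add, h.smul, h.smul, hX, h.X2 hX, h.X3 hX]

theorem th1 {θ : Matrix n n K → Matrix n n K} (h : Anti θ) {X : Matrix n n K}
    (hX : θ X = X) {a : K} (ha : a ^ 3 + a + 1 = 0) (h2 : (2 : K) = 0) :
    θ (aeval X (p1 a)) = aeval X (p4 a) := by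
  have h7 := a7 ha h2
  rw [a_p1, a_p4, th_lin h hX]
  have : (a ^ 6) ^ 4 = a ^ 3 := by
    linear_combination (a ^ 17 + a ^ 10 + a ^ 3) * h7
  rw [this]

theorem th4 {θ : Matrix n n K → Matrix n n K} (h : Anti θ) {X : Matrix n n K}
    (hX : θ X = X) {a : K} (ha : a ^ 3 + a + 1 = 0) (h2 : (2 : K) = 0) :
    θ (aeval X (p4 a)) = aeval X (p2 a) := by
  have h7 := a7 ha h2
  rw [a_p4, a_p2, th_lin h hX]
  have h1 : (a ^ 4) ^ 4 = a ^ 2 := by
    linear_combination (a ^ 9 + a ^ 2) * h7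
  have h3 : (a ^ 3) ^ 4 = a ^ 5 := by
    linear_combination (a ^ 5) * h7
  rw [h1, h3]

theorem th2 {θ : Matrix n n K → Matrix n n K} (h : Anti θ) {X : Matrix n n K}
    (hX : θ X = X) {a : K} (ha : a ^ 3 + a + 1 = 0) (h2 : (2 : K) = 0) :
    θ (aeval X (p2 a)) = aeval X (p1 a) := by
  have h7 := a7 ha h2
  rw [a_p2, a_p1, th_lin h hX]
  have h1 : (a ^ 2) ^ 4 = a := by
    linear_combination a * h7
  have h3 : (a ^ 5) ^ 4 = a ^ 6 := by
    linear_combination (a ^ 13 + a ^ 6) * h7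
  rw [h1, h3]

/-- the element of order 13 -/
noncomputable def gg (X : Matrix n n K) (a z : K) : Matrix n n K :=
  F z (aeval X (p1 a)) * F (z ^ 9) (aeval X (p4 a)) * F (z ^ 3) (aeval X (p2 a))

theorem gg_eq (X : Matrix n n K) (a z : K) :
    gg X a z = aeval X (Fp z (p1 a) * Fp (z ^ 9) (p4 a) * Fp (z ^ 3) (p2 a)) := by
  rw [map_mul, map_mul, a_Fp, a_Fp, a_Fp, gg]

theorem idem1 {X : Matrix n n K} (hX : X ^ 4 + X ^ 2 + X = 0) {a : K} (ha : a ^ 3 + a + 1 = 0)
    (h2 : (2 : K) = 0) : aeval X (p1 a) * aeval X (p1 a) = aeval X (p1 a) := by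
  rw [← map_mul, m11 ha h2, map_add, map_mul, a_md hX, mul_zero, add_zero]

theorem idem2 {X : Matrix n n K} (hX : X ^ 4 + X ^ 2 + X = 0) {a : K} (ha : a ^ 3 + a + 1 = 0)
    (h2 : (2 : K) = 0) : aeval X (p2 a) * aeval X (p2 a) = aeval X (p2 a) := by
  rw [← map_mul, m22 ha h2, map_add, map_mul, a_md hX, mul_zero, add_zero]

theorem idem4 {X : Matrix n n K} (hX : X ^ 4 + X ^ 2 + X = 0) {a : K} (ha : a ^ 3 + a + 1 = 0)
    (h2 : (2 : K) = 0) : aeval X (p4 a) * aeval X (p4 a) = aeval X (p4 a) := by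
  rw [← map_mul, m44 ha h2, map_add, map_mul, a_md hX, mul_zero, add_zero]

theorem orth12 {X : Matrix n n K} (hX : X ^ 4 + X ^ 2 + X = 0) {a : K} (ha : a ^ 3 + a + 1 = 0)
    (h2 : (2 : K) = 0) : aeval X (p1 a) * aeval X (p2 a) = 0 := by
  rw [← map_mul, m12 ha h2, map_mul, a_md hX, mul_zero]

theorem orth14 {X : Matrix n n K} (hX : X ^ 4 + X ^ 2 + X = 0) {a : K} (ha : a ^ 3 + a + 1 = 0)
    (h2 : (2 : K) = 0) : aeval X (p1 a) * aeval X (p4 a) = 0 := by
  rw [← map_mul, m14 ha h2, map_mul, a_md hX, mul_zero]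

theorem orth24 {X : Matrix n n K} (hX : X ^ 4 + X ^ 2 + X = 0) {a : K} (ha : a ^ 3 + a + 1 = 0)
    (h2 : (2 : K) = 0) : aeval X (p2 a) * aeval X (p4 a) = 0 := by
  rw [← map_mul, m24 ha h2, map_mul, a_md hX, mul_zero]

theorem exists_a [IsAlgClosed K] : ∃ a : K, a ^ 3 + a + 1 = 0 := by
  have hd : (X ^ 3 + X + 1 : K[X]).degree ≠ 0 := by
    have : (X ^ 3 + X + 1 : K[X]).degree = 3 := by compute_degree!
    rw [this]; decide
  obtain ⟨a, ha⟩ := IsAlgClosed.exists_root _ hd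
  exact ⟨a, by simpa only [IsRoot.def, _root_.Polynomial.eval_add, _root_.Polynomial.eval_pow, _root_.Polynomial.eval_X, _root_.Polynomial.eval_one] using ha⟩

theorem exists_z [IsAlgClosed K] (h2 : (2 : K) = 0) : ∃ z : K, z ^ 13 = 1 ∧ z ≠ 1 := by
  have h13 : (13 : K) ≠ 0 := by
    intro h
    have : (1 : K) = 0 := by linear_combination h - 6 * h2
    exact one_ne_zero this
  have : NeZero ((13 : ℕ) : K) := ⟨by exact_mod_cast h13⟩
  have hd : (cyclotomic 13 K).degree ≠ 0 := by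
    rw [degree_cyclotomic]
    decide
  obtain ⟨z, hz⟩ := IsAlgClosed.exists_root _ hd
  rw [isRoot_cyclotomic_iff] at hz
  exact ⟨z, hz.pow_eq_one, hz.ne_one (by norm_num)⟩

/-- the determinant of `F c e` is multiplicative in `c` -/
theorem dF {e : Matrix n n K} (he : e * e = e) (c : K) (k : ℕ) :
    (F (c ^ k) e).det = (F c e).det ^ k := by
  rw [← F_pow he, Matrix.det_pow]

theorem exists13 [IsAlgClosed K] (h2 : (2 : K) = 0) {θ : Matrix n n K → Matrix n n K}
    (h : Anti θ) {X : Matrix n n K} (hθ : θ X = X) (hX : X ^ 4 + X ^ 2 + X = 0) (h0 : X ≠ 0) :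
    ∃ P : K[X], (aeval X P) * θ (aeval X P) = 1 ∧ (aeval X P).det = 1 ∧
      (aeval X P) ^ 13 = 1 ∧ aeval X P ≠ 1 := by
  obtain ⟨a, ha⟩ := exists_a (K := K)
  obtain ⟨z, hz, hz1⟩ := exists_z (K := K) h2
  have i1 := idem1 hX ha h2
  have i2 := idem2 hX ha h2
  have i4 := idem4 hX ha h2
  have o12 := orth12 hX ha h2
  have o14 := orth14 hX ha h2
  have o24 := orth24 hX ha h2
  have o21 : aeval X (p2 a) * aeval X (p1 a) = 0 := by rw [comm, o12]
  have o41 : aeval X (p4 a) * aeval X (p1 a) = 0 := by rw [comm, o14]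
  have o42 : aeval X (p4 a) * aeval X (p2 a) = 0 := by rw [comm, o24]
  have t1 := th1 h hθ ha h2
  have t2 := th2 h hθ ha h2
  have t4 := th4 h hθ ha h2
  -- commutation
  have cF : ∀ (c d : K) (p q : K[X]),
      F c (aeval X p) * F d (aeval X q) = F d (aeval X q) * F c (aeval X p) := by
    intro c d p q
    rw [← a_Fp, ← a_Fp, comm]
  refine ⟨Fp z (p1 a) * Fp (z ^ 9) (p4 a) * Fp (z ^ 3) (p2 a), ?_, ?_, ?_, ?_⟩
  · rw [← gg_eq]
    unfold gg
    rw [h.mul, h.mul, h.F h2, h.F h2, h.F h2, t1, t2, t4]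
    have r1 : F z (aeval X (p1 a)) * F ((z ^ 3) ^ 4) (aeval X (p1 a)) = 1 := by
      rw [F_mul i1, show z * (z ^ 3) ^ 4 = z ^ 13 by ring, hz, F_one]
    have r4 : F (z ^ 9) (aeval X (p4 a)) * F (z ^ 4) (aeval X (p4 a)) = 1 := by
      rw [F_mul i4, show z ^ 9 * z ^ 4 = z ^ 13 by ring, hz, F_one]
    have r2 : F (z ^ 3) (aeval X (p2 a)) * F ((z ^ 9) ^ 4) (aeval X (p2 a)) = 1 := by
      rw [F_mul i2, show z ^ 3 * (z ^ 9) ^ 4 = (z ^ 13) ^ 3 by ring, hz, one_pow, F_one]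
    calc F z (aeval X (p1 a)) * F (z ^ 9) (aeval X (p4 a)) * F (z ^ 3) (aeval X (p2 a)) *
          (F ((z ^ 3) ^ 4) (aeval X (p1 a)) *
            (F ((z ^ 9) ^ 4) (aeval X (p2 a)) * F (z ^ 4) (aeval X (p4 a))))
        = F z (aeval X (p1 a)) * F (z ^ 9) (aeval X (p4 a)) *
          ((F (z ^ 3) (aeval X (p2 a)) * F ((z ^ 3) ^ 4) (aeval X (p1 a))) *
            (F ((z ^ 9) ^ 4) (aeval X (p2 a)) * F (z ^ 4) (aeval X (p4 a)))) := by
          simp only [mul_assoc]
      _ = F z (aeval X (p1 a)) * (F (z ^ 9) (aeval X (p4 a)) * F ((z ^ 3) ^ 4) (aeval X (p1 a))) *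
          (F (z ^ 3) (aeval X (p2 a)) * F ((z ^ 9) ^ 4) (aeval X (p2 a))) *
            F (z ^ 4) (aeval X (p4 a)) := by
          rw [cF (z ^ 3) ((z ^ 3) ^ 4) (p2 a) (p1 a)]
          simp only [mul_assoc]
      _ = (F z (aeval X (p1 a)) * F ((z ^ 3) ^ 4) (aeval X (p1 a))) *
          (F (z ^ 9) (aeval X (p4 a)) * F (z ^ 4) (aeval X (p4 a))) := by
          rw [r2, mul_one, cF (z ^ 9) ((z ^ 3) ^ 4) (p4 a) (p1 a)]
          simp only [mul_assoc]
      _ = 1 := by rw [r1, r4, mul_one]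
  · rw [← gg_eq]
    unfold gg
    rw [Matrix.det_mul, Matrix.det_mul]
    -- u = det F z e1
    have d4 : (F (z ^ 4) (aeval X (p4 a))).det = (F z (aeval X (p1 a))).det ^ 4 := by
      rw [← h.det, h.F h2, t1]
    have d9 : (F (z ^ 9) (aeval X (p4 a))).det = (F z (aeval X (p1 a))).det ^ 48 := by
      have : z ^ 9 = (z ^ 4) ^ 12 := by
        rw [← pow_mul]
        calc z ^ 9 = z ^ 9 * (z ^ 13) ^ 3 := by rw [hz]; ring
          _ = z ^ (4 * 12) := by ring
      rw [this, dF i4, d4, ← pow_mul]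
    have d36 : (F ((z ^ 9) ^ 4) (aeval X (p2 a))).det = (F z (aeval X (p1 a))).det ^ 192 := by
      rw [← t4, ← h.F h2, h.det, d9, ← pow_mul]
    have d3 : (F (z ^ 3) (aeval X (p2 a))).det = (F z (aeval X (p1 a))).det ^ (192 * 12) := by
      have : z ^ 3 = ((z ^ 9) ^ 4) ^ 12 := by
        rw [← pow_mul, ← pow_mul]
        calc z ^ 3 = z ^ 3 * (z ^ 13) ^ 33 := by rw [hz]; ring
          _ = z ^ (9 * 4 * 12) := by ring
      rw [this, dF i2, d36, ← pow_mul]
    have u13 : (F z (aeval X (p1 a))).det ^ 13 = 1 := by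
      rw [← dF i1, hz, F_one, Matrix.det_one]
    rw [d9, d3]
    calc (F z (aeval X (p1 a))).det * (F z (aeval X (p1 a))).det ^ 48 *
          (F z (aeval X (p1 a))).det ^ (192 * 12)
        = ((F z (aeval X (p1 a))).det ^ 13) ^ 181 := by ring
      _ = 1 := by rw [u13, one_pow]
  · rw [← gg_eq]
    unfold gg
    have c1 : Commute (F z (aeval X (p1 a)) * F (z ^ 9) (aeval X (p4 a)))
        (F (z ^ 3) (aeval X (p2 a))) := by
      refine Commute.mul_left ?_ ?_
      · exact cF _ _ _ _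
      · exact cF _ _ _ _
    have c2 : Commute (F z (aeval X (p1 a))) (F (z ^ 9) (aeval X (p4 a))) := cF _ _ _ _
    rw [c1.mul_pow, c2.mul_pow, F_pow i1, F_pow i4, F_pow i2, hz,
      show (z ^ 9) ^ 13 = (z ^ 13) ^ 9 by ring, show (z ^ 3) ^ 13 = (z ^ 13) ^ 3 by ring, hz,
      one_pow, one_pow, F_one, F_one, F_one, mul_one, mul_one]
  · rw [← gg_eq]
    intro hg
    have ne9 : z ^ 9 ≠ 1 := by
      intro h9
      apply hz1
      calc z = z * (z ^ 13) ^ 2 := by rw [hz]; ring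
        _ = (z ^ 9) ^ 3 := by ring
        _ = 1 := by rw [h9, one_pow]
    have ne3 : z ^ 3 ≠ 1 := by
      intro h3
      apply hz1
      calc z = z * (z ^ 13) ^ 2 := by rw [hz]; ring
        _ = (z ^ 3) ^ 9 := by ring
        _ = 1 := by rw [h3, one_pow]
    have k : ∀ (e : Matrix n n K) (c : K), c ≠ 1 → c • e = e → e = 0 := by
      intro e c hc he
      have : (c - 1) • e = 0 := by rw [sub_smul, one_smul, he, sub_self]
      rcases smul_eq_zero.1 this with h' | h'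
      · exact absurd (sub_eq_zero.1 h') hc
      · exact h'
    have z1 : aeval X (p1 a) = 0 := by
      apply k _ z hz1
      have : aeval X (p1 a) * gg X a z = z • aeval X (p1 a) := by
        unfold gg
        rw [← mul_assoc, ← mul_assoc, e_F i1, smul_mul_assoc, smul_mul_assoc, e_F' o14, e_F' o12]
      rw [← this, hg, mul_one]
    have z4 : aeval X (p4 a) = 0 := by
      apply k _ (z ^ 9) ne9
      have : aeval X (p4 a) * gg X a z = z ^ 9 • aeval X (p4 a) := by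
        unfold gg
        rw [← mul_assoc, ← mul_assoc, e_F' o41, e_F i4, smul_mul_assoc, e_F' o42]
      rw [← this, hg, mul_one]
    have z2 : aeval X (p2 a) = 0 := by
      apply k _ (z ^ 3) ne3
      have : aeval X (p2 a) * gg X a z = z ^ 3 • aeval X (p2 a) := by
        unfold gg
        rw [← mul_assoc, ← mul_assoc, e_F' o21, e_F' o24, e_F i2]
      rw [← this, hg, mul_one]
    apply h0
    have hx := congrArg (aeval X) (mX ha h2)
    rw [map_add, map_add, map_mul, map_mul, map_mul, z1, z2, z4, mul_zero, mul_zero, mul_zero,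
      add_zero, add_zero, aeval_X] at hx
    exact hx.symm

/-- `c ↦ c ^ 4` as a ring homomorphism -/
def fr4 (h2 : (2 : K) = 0) : K →+* K where
  toFun c := c ^ 4
  map_one' := one_pow 4
  map_mul' := fun x y => mul_pow x y 4
  map_zero' := by simp
  map_add' := fun x y => by
    linear_combination (2 * x ^ 3 * y + 3 * x ^ 2 * y ^ 2 + 2 * x * y ^ 3) * h2

/-- the concrete hermitian adjoint, any normalisation -/
theorem anti_conj (h2 : (2 : K) = 0) (S T : Matrix n n K) (hST : S * T = 1) :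
    Anti (fun A : Matrix n n K => S * (A.map (fun c => c ^ 4)).transpose * T) := by
  have hTS : T * S = 1 := mul_eq_one_comm.1 hST
  have hm : ∀ A : Matrix n n K, A.map (fun c => c ^ 4) = (fr4 h2).mapMatrix A := fun A => rfl
  refine ⟨?_, ?_, ?_, ?_, ?_⟩
  · intro A B
    simp only [hm, map_add, Matrix.transpose_add, mul_add, add_mul]
  · intro A B
    simp only [hm, map_mul, Matrix.transpose_mul]
    set P := ((fr4 h2).mapMatrix A).transpose
    set Q := ((fr4 h2).mapMatrix B).transpose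
    calc S * (Q * P) * T = S * (Q * (T * S) * P) * T := by rw [hTS, mul_one]
      _ = S * Q * T * (S * P * T) := by simp only [mul_assoc]
  · intro c A
    have : (c • A).map (fun c => c ^ 4) = c ^ 4 • A.map (fun c => c ^ 4) := by
      ext i j
      simp [mul_pow]
    simp only [this, Matrix.transpose_smul, mul_smul_comm, smul_mul_assoc]
  · simp only [hm, map_one, Matrix.transpose_one, mul_one, hST]
  · intro A
    simp only [hm]
    rw [Matrix.det_mul, Matrix.det_mul, Matrix.det_transpose, ← RingHom.map_det, mul_comm,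
      ← mul_assoc, ← Matrix.det_mul, hTS, Matrix.det_one, one_mul]
    rfl

end mat


end Cfsg.Agent.H159.L34.Y13
end

-- part: H159/L34/YEnd
section
/-!
# S5917 (`L₃(4)` in `E₈(2)`), the element of order 5: an element of order 13 that fixes `w`

* `y5end13` : `x` of order 5 with a fixed space of dimension 48, `w ≠ 0` fixed by `x` with
  `w⁽⁴⁾ + w⁽²⁾ + w = 0`; there is an element of order 13 of `E₈(2)` that fixes every fixed vector `v` of `x`
  with `[w, v] = 0`.
-/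

set_option autoImplicit false
set_option linter.unusedSectionVars false
set_option maxRecDepth 100000

namespace Cfsg.Agent.H159.L34

open Cfsg Cfsg.Lie Cfsg.Lie.ChevalleyDatum
open Cfsg.Agent.ChevalleyStructure Cfsg.Agent.ChevalleyStructure.Elts Cfsg.Agent.ChevalleyStructure.CoxeterGeomTypes
open Cfsg.Agent.Tits.Roots Cfsg.Agent.Nodes.BNOf Cfsg.Agent.Nodes.RGDChev Cfsg.Agent.KFacts.RgdChevCoord
open Cfsg.Agent.BpExc.TorChev Cfsg.Agent.H129.TorusChar
open Cfsg.Agent.GpExc.Field Cfsg.Agent.H129.TorusMain Cfsg.Agent.H129.TorusUntw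
open Cfsg.Agent.H378.TorFin (phi_emb' fix_mem)
open Cfsg.Agent.H942.E8Tab Cfsg.Agent.H944.RootVals
open Cfsg.Agent.H943.RepAdd (eig)
open Cfsg.Agent.H939.L64
open Cfsg.Agent.H413.L64
open Cfsg.Agent.H413.L16
open Cfsg.Agent.H876.L64 hiding v5
open Cfsg.Agent.H201.L34
open Cfsg.Agent.H958.L34 Cfsg.Agent.H531.L34

namespace YE

theorem two0 : (2 : KK) = 0 := Cfsg.Agent.H876.L64.two_zero

/-! ### preliminaries -/

theorem aK_em_up (g : E2) (v : L2) : aK (_root_.Cfsg.Agent.H939.L64.em g) (up v) = up (a2 g v) := by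
  funext i
  show (((_root_.Cfsg.Agent.H939.L64.em g : ↥(chevE8.group KK)) : GL chevE8.Idx KK) : Matrix chevE8.Idx chevE8.Idx KK).mulVec (up v) i =
    algebraMap (ZMod 2) KK ((((g : GL chevE8.Idx (ZMod 2)) : Matrix chevE8.Idx chevE8.Idx (ZMod 2))).mulVec v i)
  rw [Matrix.mulVec, Matrix.mulVec, dotProduct, dotProduct, map_sum]
  refine Finset.sum_congr rfl fun j _ => ?_
  rw [em_entry, map_mul]
  rfl

theorem up_inj : Function.Injective up := by
  intro u v h
  funext i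
  exact (algebraMap (ZMod 2) KK).injective (congrFun h i)

theorem up_zero : up 0 = 0 := by
  funext i
  exact map_zero _

theorem fr_up (v : L2) : fr (up v) = up v := by
  funext i
  show (algebraMap (ZMod 2) KK (v i)) ^ 2 = algebraMap (ZMod 2) KK (v i)
  rw [← map_pow]
  congr 1
  have : ∀ a : ZMod 2, a ^ 2 = a := by decide
  exact this _

/-- the entrywise square -/
noncomputable abbrev mq (M : M5) : M5 := M.map fun x => x ^ 2

theorem mq_eq (M : M5) : mq M = frK.mapMatrix M := rfl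

theorem mq_mul (M N : M5) : mq (M * N) = mq M * mq N := by
  rw [mq_eq, mq_eq, mq_eq, map_mul]

theorem trace_mq {M : M5} (h : M.trace = 0) : (mq M).trace = 0 := by
  have h1 : (mq M).trace = frK M.trace := by
    rw [mq_eq, Matrix.trace, Matrix.trace, map_sum]
    rfl
  rw [h1, h, map_zero]

theorem trace_sq {M : M5} (h : M.trace = 0) : (M * M).trace = 0 := by
  have h2 := two0
  have h1 : (M * M).trace = M.trace ^ 2 + 2 * (M 0 1 * M 1 0 + M 0 2 * M 2 0 + M 0 3 * M 3 0 + M 0 4 * M 4 0 +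
      M 1 2 * M 2 1 + M 1 3 * M 3 1 + M 1 4 * M 4 1 + M 2 3 * M 3 2 + M 2 4 * M 4 2 + M 3 4 * M 4 3
      - (M 0 0 * M 1 1 + M 0 0 * M 2 2 + M 0 0 * M 3 3 + M 0 0 * M 4 4 + M 1 1 * M 2 2 + M 1 1 * M 3 3 +
      M 1 1 * M 4 4 + M 2 2 * M 3 3 + M 2 2 * M 4 4 + M 3 3 * M 4 4)) := by
    simp only [Matrix.trace, Matrix.diag_apply, Matrix.mul_apply, Fin.sum_univ_five]
    ring
  rw [h1, h, h2]
  ring

theorem trace_comm' {M N : M5} : (M * N + N * M).trace = 0 := by
  rw [Matrix.trace_add, Matrix.trace_mul_comm N M, ← two_mul, two0, zero_mul]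

/-- a matrix that commutes with the matrices of trace zero is a scalar -/
theorem scalar_of {A : M5} (h : ∀ M : M5, M.trace = 0 → A * M = M * A) : ∃ c : KK, A = c • 1 := by
  have hc : ∀ i j, i ≠ j → A * Matrix.single i j 1 = Matrix.single i j 1 * A := fun i j hij =>
    h _ (Matrix.trace_single_eq_of_ne i j 1 hij)
  have hm : A ∈ Set.range (Matrix.scalar (Fin 5)) := by
    apply Matrix.mem_range_scalar_of_commute_single
    intro i j hij
    exact (hc i j hij).symm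
  obtain ⟨c, hc⟩ := hm
  exact ⟨c, by rw [← hc, Matrix.scalar_apply, Matrix.smul_one_eq_diagonal]⟩

/-! ### the fixed vectors -/

section frame

variable {z t : ↥(chevE8.group KK)} {x : E2}

/-- a vector fixed by `x` in the frame -/
theorem aK_fix (hz : z⁻¹ * _root_.Cfsg.Agent.H939.L64.em x * z = t) {v : L2} (hv : a2 x v = v) : aK t (aK z⁻¹ (up v)) = aK z⁻¹ (up v) := by
  rw [← hz, aK_mul, aK_mul, aK_inv, aK_em_up, hv]

/-- a rational vector in the frame -/
theorem g5_fr (hzm : z⁻¹ * phi chevE8 KK 2 1 z = g5) (v : L2) : aK g5 (fr (aK z⁻¹ (up v))) = aK z⁻¹ (up v) := by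
  rw [fr_aK, fr_up, map_inv, ← aK_mul, ← hzm, mul_assoc, mul_inv_cancel, mul_one]

theorem co_of {ζ : KK} (ht : t ∈ TT chevE8 KK) (hζ : IsPrimitiveRoot ζ 5)
    (hvt : ∀ i, cX e8T t (sr i) = ζ ^ (v5 i).val) (hz : z⁻¹ * _root_.Cfsg.Agent.H939.L64.em x * z = t)
    (hzm : z⁻¹ * phi chevE8 KK 2 1 z = g5) {v : L2} (hv : a2 x v = v) :
    ∃ X : M5, X.trace = 0 ∧ aK z⁻¹ (up v) = J 0 X + J 1 (mq X) ∧ X = (mq (mq X)).transpose := by
  obtain ⟨X, Y, hX, hY, hW⟩ := J_of_fix ht hζ hvt (aK_fix hz hv)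
  have h1 := g5_fr hzm v
  rw [hW, fr_add, fr_J, fr_J, aK_add, g5_J0, g5_J1, add_comm] at h1
  have ht1 : ((mq Y).transpose).trace = 0 := by rw [Matrix.trace_transpose]; exact trace_mq hY
  obtain ⟨h2, h3⟩ := J_inj ht1 (trace_mq hX) hX hY h1
  have h3' : mq X = Y := h3
  refine ⟨X, hX, by rw [hW, h3'], ?_⟩
  rw [h3']
  exact h2.symm

end frame

theorem map4 (X : M5) : (mq (mq X)) = X.map (fun c => c ^ 4) := by
  ext i j
  show (X i j ^ 2) ^ 2 = X i j ^ 4
  rw [← pow_mul]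

theorem sq_J2 {X Y : M5} (hX : X.trace = 0) (hY : Y.trace = 0) :
    Cfsg.Agent.H201.L34.sq (J 0 X + J 1 Y) = J 0 (X * X) + J 1 (Y * Y) := by
  rw [Cfsg.Agent.H201.L34.sq_add, J_br_ne (by decide), add_zero, J_sq 0 hX, J_sq 1 hY]

theorem J_zero2 : (0 : LK) = J 0 0 + J 1 0 := by
  rw [J_zero', J_zero', add_zero]

end YE

open YE

/-- **the element of order 13** -/
theorem y5end13 {x : E2} (hx : x ^ 5 = 1) (h1 : x ≠ 1) (hd : Module.finrank KK (eig rE x 1) = 48) {w : L2}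
    (hw : a2 x w = w) (h0 : w ≠ 0)
    (h3 : Cfsg.Agent.H201.L34.sq (Cfsg.Agent.H201.L34.sq (up w)) + Cfsg.Agent.H201.L34.sq (up w) + up w = 0) :
    ∃ g : E2, orderOf g = 13 ∧ ∀ v : L2, a2 x v = v → brK (up w) (up v) = 0 → a2 g v = v := by
  have hch := charKK
  have h2 := two0
  -- a fifth root of unity
  have : NeZero ((5 : ℕ) : KK) := ⟨by
    intro h
    have : (1 : KK) = 0 := by
      have h' : (5 : KK) = 0 := by exact_mod_cast h
      linear_combination h' - 2 * h2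
    exact one_ne_zero this⟩
  obtain ⟨ζ, hζ⟩ : ∃ ζ : KK, IsPrimitiveRoot ζ 5 := HasEnoughRootsOfUnity.exists_primitiveRoot KK 5
  obtain ⟨z, t, hz, ht, hvt, hzm⟩ := frame5 (kac5 hx h1 hd hζ)
  obtain ⟨X, hX, hW, hXX⟩ := co_of ht hζ hvt hz hzm hw
  -- the equation
  have e1 : X ^ 4 + X ^ 2 + X = 0 := by
    have e2 := congrArg (aK z⁻¹) h3
    rw [aK_zero, aK_add, aK_add, aK_sq, aK_sq, hW, sq_J2 hX (trace_mq hX),
      sq_J2 (trace_sq hX) (trace_sq (trace_mq hX))] at e2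
    have e3 : J 0 (X * X * (X * X) + X * X + X) + J 1 (mq X * mq X * (mq X * mq X) + mq X * mq X + mq X) =
        J 0 0 + J 1 0 := by
      rw [← J_zero2, ← e2, J_add, J_add, J_add, J_add]
      abel
    have t1 : (X * X * (X * X) + X * X + X).trace = 0 := by
      rw [Matrix.trace_add, Matrix.trace_add, trace_sq (trace_sq hX), trace_sq hX, hX]
      simp
    have t2 : (mq X * mq X * (mq X * mq X) + mq X * mq X + mq X).trace = 0 := by
      rw [Matrix.trace_add, Matrix.trace_add, trace_sq (trace_sq (trace_mq hX)), trace_sq (trace_mq hX), trace_mq hX]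
      simp
    have e4 := (J_inj t1 t2 (Matrix.trace_zero _ _) (Matrix.trace_zero _ _) e3).1
    rw [← e4]
    simp only [pow_succ, pow_zero, one_mul, mul_assoc]
  have hX0 : X ≠ 0 := by
    intro h
    apply h0
    apply up_inj
    rw [up_zero]
    have h4 : aK z⁻¹ (up w) = 0 := by
      rw [hW, h]
      have : mq (0 : M5) = 0 := by
        rw [mq_eq, map_zero]
      rw [this, J_zero', J_zero', add_zero]
    have h5 := congrArg (aK z) h4
    rwa [aK_inv, aK_zero] at h5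
  -- the matrix of order 13
  have hanti := Y13.anti_conj h2 (1 : M5) 1 (one_mul 1)
  have hθ : (fun A : M5 => 1 * (A.map (fun c => c ^ 4)).transpose * 1) X = X := by
    show 1 * (X.map (fun c => c ^ 4)).transpose * 1 = X
    rw [one_mul, mul_one, ← map4, ← hXX]
  obtain ⟨Q, q1, q2, q3, q4⟩ := Y13.exists13 h2 hanti hθ e1 hX0
  set A : M5 := Polynomial.aeval X Q with hA
  have q1' : A * (mq (mq A)).transpose = 1 := by
    rw [map4]
    simpa using q1
  set B : S5 := ⟨A, q2⟩ with hB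
  have hB1 : B.1 = A := rfl
  have hBinv : (B⁻¹).1 = (mq (mq A)).transpose := by
    have h5 : (B⁻¹).1 * B.1 = 1 := inv_mul_val B
    calc (B⁻¹).1 = (B⁻¹).1 * (A * (mq (mq A)).transpose) := by rw [q1', mul_one]
      _ = ((B⁻¹).1 * B.1) * (mq (mq A)).transpose := by rw [mul_assoc]
      _ = _ := by rw [h5, one_mul]
  have hth : th B = fm (fm B) := by
    apply Subtype.ext
    rw [th_coe, hBinv, Matrix.transpose_transpose]
    rfl
  have hthth : th (fm (fm B)) = B := by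
    rw [← hth]
    apply Subtype.ext
    rw [th_coe]
    have h5 : (th B)⁻¹ = th B⁻¹ := (map_inv th B).symm
    rw [h5, th_coe, inv_inv, Matrix.transpose_transpose]
  have hB13 : B ^ 13 = 1 := by
    apply Subtype.ext
    rw [Matrix.SpecialLinearGroup.coe_pow, Matrix.SpecialLinearGroup.coe_one]
    exact q3
  have hBne : B ≠ 1 := by
    intro h
    apply q4
    rw [← hB1, h, Matrix.SpecialLinearGroup.coe_one]
  -- the element of the algebraic group
  set G : ↥(chevE8.group KK) := P 0 B * P 1 (fm B) with hG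
  have hcm : Commute (P 0 B) (P 1 (fm B)) := P_comm (by decide) _ _
  have hGf : g5 * phi chevE8 KK 2 1 G * g5⁻¹ = G := by
    rw [hG, map_mul, phi_P, phi_P]
    calc g5 * (P 0 (fm B) * P 1 (fm (fm B))) * g5⁻¹ =
        (g5 * P 0 (fm B) * g5⁻¹) * (g5 * P 1 (fm (fm B)) * g5⁻¹) := by group
      _ = P 1 (fm B) * P 0 B := by rw [g5_P0, g5_P1, hthth]
      _ = P 0 B * P 1 (fm B) := hcm.eq.symm
  have hσz : phi chevE8 KK 2 1 z = z * g5 := by rw [← hzm]; group
  obtain ⟨g, hg⟩ := fix_mem e8T (algebraMap (ZMod 2) KK) 2 (by simp : Nat.card (ZMod 2) = 2 ^ 1) Cfsg.Agent.BpExc.FamInst.inv_E8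
    (y := z * G * z⁻¹) (by
    show phi chevE8 KK 2 1 (z * G * z⁻¹) = z * G * z⁻¹
    rw [map_mul, map_mul, map_inv, hσz]
    calc z * g5 * phi chevE8 KK 2 1 G * (z * g5)⁻¹ = z * (g5 * phi chevE8 KK 2 1 G * g5⁻¹) * z⁻¹ := by group
      _ = _ := by rw [hGf])
  have hg' : _root_.Cfsg.Agent.H939.L64.em g = z * G * z⁻¹ := hg
  have hG13 : G ^ 13 = 1 := by
    rw [hG, hcm.mul_pow, ← map_pow, ← map_pow, ← map_pow, hB13, map_one, map_one, map_one, one_mul]
  have hGJ : ∀ {M N : M5}, M.trace = 0 → N.trace = 0 → aK G (J 0 M + J 1 N) =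
      J 0 (B.1 * M * (B⁻¹).1) + J 1 ((fm B).1 * N * ((fm B)⁻¹).1) := by
    intro M N hM hN
    rw [hG, aK_mul, aK_add, aK_add, P_J_ne (by decide), P_J 1 _ hN, P_J 0 _ hM, P_J_ne (by decide)]
  have hGne : G ≠ 1 := by
    intro h
    have h5 : ∀ M : M5, M.trace = 0 → A * M = M * A := by
      intro M hM
      have h6 := hGJ hM (Matrix.trace_zero (Fin 5) KK)
      rw [h, aK_one, mul_zero, zero_mul] at h6
      have h7 := (J_inj hM (Matrix.trace_zero _ _) (by rw [trace_conj, hM]) (Matrix.trace_zero _ _) h6).1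
      calc A * M = B.1 * M * ((B⁻¹).1 * B.1) := by rw [inv_mul_val, mul_one]
        _ = (B.1 * M * (B⁻¹).1) * B.1 := by simp only [mul_assoc]
        _ = M * A := by rw [← h7]
    obtain ⟨c, hc⟩ := scalar_of h5
    have c5 : c ^ 5 = 1 := by
      have h6 := q2
      rw [hc, Matrix.det_smul, Matrix.det_one, mul_one, Fintype.card_fin] at h6
      exact h6
    have c13 : c ^ 13 = 1 := by
      have h6 := q3
      rw [hc, smul_pow, one_pow] at h6
      have h7 := congrFun (congrFun h6 0) 0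
      simpa using h7
    have c1 : c = 1 := by
      calc c = c * ((c ^ 5) ^ 5) := by rw [c5, one_pow, mul_one]
        _ = (c ^ 13) ^ 2 := by ring
        _ = 1 := by rw [c13, one_pow]
    apply q4
    rw [hc, c1, one_smul]
  refine ⟨g, ?_, ?_⟩
  · have : Fact (Nat.Prime 13) := ⟨by norm_num⟩
    refine orderOf_eq_prime ?_ ?_
    · apply em_inj
      rw [map_pow, map_one, hg', conj_pow, hG13, mul_one, mul_inv_cancel]
    · intro h
      apply hGne
      rw [h, map_one] at hg'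
      calc G = z⁻¹ * (z * G * z⁻¹) * z := by group
        _ = 1 := by rw [← hg', mul_one, inv_mul_cancel]
  · intro v hv hwv
    obtain ⟨V, hV, hVV, -⟩ := co_of ht hζ hvt hz hzm hv
    -- commutation
    have hc1 : X * V = V * X := by
      have h5 := congrArg (aK z⁻¹) hwv
      rw [aK_brK, aK_zero, hW, hVV, br_add_l, br_add_r, br_add_r, J_br 0 hX hV, J_br_ne (by decide), J_br_ne (by decide),
        J_br 1 (trace_mq hX) (trace_mq hV), add_zero, zero_add] at h5
      rw [J_zero2] at h5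
      have h6 := (J_inj trace_comm' trace_comm' (Matrix.trace_zero _ _) (Matrix.trace_zero _ _) h5).1
      have h7 : V * X + V * X = 0 := by rw [← two_smul KK, h2, zero_smul]
      calc X * V = X * V + (V * X + V * X) := by rw [h7, add_zero]
        _ = (X * V + V * X) + V * X := by abel
        _ = V * X := by rw [h6, zero_add]
    have hc2 : A * V = V * A := by
      have h5 : Commute X V := hc1
      have h6 : Commute (Polynomial.aeval X Q) V := by
        refine Polynomial.induction_on' Q (fun p q hp hq => ?_) (fun n a => ?_)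
        · rw [map_add]; exact hp.add_left hq
        · rw [Polynomial.aeval_monomial]
          exact (Algebra.commute_algebraMap_left a V).mul_left (h5.pow_left n)
      exact h6
    have f1 : B.1 * V * (B⁻¹).1 = V := by
      rw [hB1, hc2, mul_assoc, ← hB1, mul_inv_val, mul_one]
    have f2 : (fm B).1 * mq V * ((fm B)⁻¹).1 = mq V := by
      have h5 : (fm B).1 * mq V = mq V * (fm B).1 := by
        show mq A * mq V = mq V * mq A
        rw [← mq_mul, ← mq_mul, hc2]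
      rw [h5, mul_assoc, mul_inv_val, mul_one]
    apply up_inj
    rw [← aK_em_up, hg', aK_mul, aK_mul, hVV, hGJ hV (trace_mq hV), f1, f2, ← hVV, aK_inv]

end Cfsg.Agent.H159.L34
end

private theorem dce_0cf2e8077a35 : _root_.True := by
  try have : _root_.True := by simp only [_root_.Cfsg.Agent.H159.L34.Y13.fr4.congr_simp]
  try have : _root_.True := by simp only [_root_.Cfsg.Agent.H159.L34.Y13.p1.eq_1]
  try have : _root_.True := by simp only [_root_.Cfsg.Agent.H159.L34.Y13.md.eq_1]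
  try have : _root_.True := by simp only [_root_.Cfsg.Agent.H159.L34.Y13.p2.eq_1]
  try have : _root_.True := by simp only [_root_.Cfsg.Agent.H958.L34.ps.eq_1]
  try have : _root_.True := by simp only [_root_.Cfsg.Agent.H958.L34.mk.eq_1]
  try have : _root_.True := by simp only [_root_.Cfsg.Agent.H159.L34.Y13.F.congr_simp]
  try have : _root_.True := by simp only [_root_.Cfsg.Agent.H958.L34.CE.eq_1]
  try have : _root_.True := by simp only [_root_.Cfsg.Agent.H159.L34.Y13.p4.eq_1]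
  try have : _root_.True := by simp only [_root_.Cfsg.Agent.H958.L34.ss.eq_1]
  try have : _root_.True := by simp only [_root_.Cfsg.Agent.H159.L34.Y13.Fp.eq_1]
  try have : _root_.True := by simp only [_root_.Cfsg.Agent.H159.L34.Y13.F.eq_1]
  try have : _root_.True := by simp only [_root_.Cfsg.Agent.H159.L34.Y13.gg.eq_1]
  exact _root_.True.intro
end
end
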